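import Mathlib.Algebra.Group.Conj
import Mathlib.Algebra.Group.ConjFinite
import Mathlib.GroupTheory.GroupAction.Basic
import Mathlib.Algebra.Order.Chebyshev
import Mathlib.Algebra.BigOperators.Ring.Finset
import Mathlib.Tactic.Linarith
import Mathlib.Tactic.Group
import Mathlib.Tactic.IntervalCases

/-!
# Common fixed points of two conjugate elements
-/

set_option autoImplicit false
set_option linter.unusedSectionVars false

namespace Cfsg.Lib.PermGroups.DegreeThriceP

open scoped _root_.Classical

universe u v

variable {G : Type u} [Group G] [Fintype G] (α : Type v) [MulAction G α] [Fintype α]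

/-- The conjugates of `g` that fix both `a` and `a'`. -/
noncomputable def joint (g : G) (a a' : α) : ℕ :=
  ((Finset.univ.filter (IsConj g)).filter fun u => u • a = a ∧ u • a' = a').card

/-- The pairs of conjugates of `g` with a common fixed point. -/
noncomputable def meeting (g : G) : ℕ :=
  ((Finset.univ.filter (IsConj g) ×ˢ Finset.univ.filter (IsConj g)).filter
    fun q : G × G => ∃ a : α, q.1 • a = a ∧ q.2 • a = a).card

variable {α}

theorem card_fixed_conj (g : G) {u : G} (hu : IsConj g u) :
    (Finset.univ.filter fun a : α => u • a = a).card = Nat.card (MulAction.fixedBy α g) := by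
  obtain ⟨x, rfl⟩ := isConj_iff.1 hu
  rw [show Nat.card (MulAction.fixedBy α g) = (Finset.univ.filter fun a : α => g • a = a).card by
    rw [Nat.card_eq_fintype_card, ← Set.toFinset_card]; congr 1; ext a; simp [MulAction.mem_fixedBy]]
  refine (Finset.card_equiv (MulAction.toPerm x) fun a => ?_).symm
  simp only [Finset.mem_filter, Finset.mem_univ, true_and, MulAction.toPerm_apply, mul_smul, inv_smul_smul,
    smul_left_cancel_iff]

theorem joint_smul (g x : G) (a a' : α) : joint α g (x • a) (x • a') = joint α g a a' := by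
  refine (Finset.card_equiv (MulAut.conj x).toEquiv fun u => ?_).symm
  have hclass : IsConj g (x * u * x⁻¹) ↔ IsConj g u :=
    ⟨fun H => H.trans (isConj_iff.mpr ⟨x⁻¹, by group⟩), fun H => H.trans (isConj_iff.mpr ⟨x, rfl⟩)⟩
  simp only [Finset.mem_filter, Finset.mem_univ, true_and, MulEquiv.toEquiv_eq_coe, EquivLike.coe_coe,
    MulAut.conj_apply, hclass, mul_smul, inv_smul_smul, smul_left_cancel_iff]

theorem joint_comm (g : G) (a a' : α) : joint α g a a' = joint α g a' a := by
  rw [joint, joint]
  exact congrArg Finset.card (Finset.filter_congr fun u _ => and_comm)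

theorem sum_joint_self (g : G) :
    ∑ a : α, joint α g a a = (Finset.univ.filter (IsConj g)).card * Nat.card (MulAction.fixedBy α g) := by
  simp only [joint, and_self, Finset.card_filter]
  rw [Finset.sum_comm, Finset.sum_congr rfl fun u hu => ?_, Finset.sum_const, smul_eq_mul]
  · rw [← Finset.card_filter]

  · rw [← Finset.card_filter]
    exact card_fixed_conj g (Finset.mem_filter.1 hu).2

theorem card_mul_joint_self [MulAction.IsPretransitive G α] (g : G) (a : α) :
    Fintype.card α * joint α g a a = (Finset.univ.filter (IsConj g)).card * Nat.card (MulAction.fixedBy α g) := by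
  rw [← sum_joint_self g, Finset.sum_congr rfl fun b _ => (by
    obtain ⟨x, rfl⟩ := MulAction.exists_smul_eq G a b
    exact joint_smul g x a a : joint α g b b = joint α g a a), Finset.sum_const, Finset.card_univ, smul_eq_mul]

theorem sum_joint (g : G) (a : α) :
    ∑ a' : α, joint α g a a' = joint α g a a * Nat.card (MulAction.fixedBy α g) := by
  simp only [joint, and_self, ← Finset.filter_filter]
  simp only [Finset.card_filter (fun u : G => u • _ = _)
    ((Finset.univ.filter (IsConj g)).filter fun u => u • a = a)]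
  rw [Finset.sum_comm, Finset.sum_congr rfl fun u hu => ?_, Finset.sum_const, smul_eq_mul]
  rw [← Finset.card_filter]
  exact card_fixed_conj g (Finset.mem_filter.1 (Finset.mem_filter.1 hu).1).2

/-- The two moments of the number of common fixed points. -/
theorem moments (g : G) :
    ∃ X : G × G → ℕ,
      (∀ q, 0 < X q ↔ ∃ a : α, q.1 • a = a ∧ q.2 • a = a) ∧
      (∑ q ∈ Finset.univ.filter (IsConj g) ×ˢ Finset.univ.filter (IsConj g), X q =
        ∑ a : α, joint α g a a ^ 2) ∧
      (∑ q ∈ Finset.univ.filter (IsConj g) ×ˢ Finset.univ.filter (IsConj g), X q ^ 2 =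
        ∑ a : α, ∑ a' : α, joint α g a a' ^ 2) := by
  refine ⟨fun q => (Finset.univ.filter fun a : α => q.1 • a = a ∧ q.2 • a = a).card, fun q => ?_, ?_, ?_⟩
  · rw [Finset.card_pos]
    exact ⟨fun ⟨a, ha⟩ => ⟨a, (Finset.mem_filter.1 ha).2⟩, fun ⟨a, ha⟩ => ⟨a, Finset.mem_filter.2 ⟨Finset.mem_univ _, ha⟩⟩⟩
  · simp only [Finset.card_filter]
    rw [Finset.sum_comm]
    refine Finset.sum_congr rfl fun a _ => ?_
    rw [← Finset.card_filter, joint, pow_two, ← Finset.card_product]
    congr 1
    ext q
    simp only [Finset.mem_filter, Finset.mem_product, and_self]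
    tauto
  · simp only [Finset.card_filter, pow_two, Finset.sum_mul_sum]
    rw [Finset.sum_comm]
    refine Finset.sum_congr rfl fun a _ => ?_
    rw [Finset.sum_comm]
    refine Finset.sum_congr rfl fun a' _ => ?_
    rw [Finset.sum_congr rfl fun q _ => (by split_ifs <;> simp_all :
      ((if q.1 • a = a ∧ q.2 • a = a then 1 else 0) * (if q.1 • a' = a' ∧ q.2 • a' = a' then 1 else 0) : ℕ) =
        if (q.1 • a = a ∧ q.2 • a = a) ∧ (q.1 • a' = a' ∧ q.2 • a' = a') then 1 else 0),
      ← Finset.card_filter, joint, ← Finset.card_product]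
    congr 1
    ext q
    simp only [Finset.mem_filter, Finset.mem_product]
    tauto

/-- Cauchy's inequality for the pairs with a common fixed point. -/
theorem cauchy (g : G) :
    (∑ a : α, joint α g a a ^ 2) ^ 2 ≤ meeting α g * ∑ a : α, ∑ a' : α, joint α g a a' ^ 2 := by
  obtain ⟨X, hX, h1, h2⟩ := moments (α := α) g
  set T := Finset.univ.filter (IsConj g) ×ˢ Finset.univ.filter (IsConj g)
  set S := T.filter fun q : G × G => ∃ a : α, q.1 • a = a ∧ q.2 • a = a with hS
  have hsub : ∑ q ∈ T, X q = ∑ q ∈ S, X q := by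
    refine (Finset.sum_subset (Finset.filter_subset _ _) fun q hq hqS => ?_).symm
    by_contra hne
    exact hqS (Finset.mem_filter.2 ⟨hq, (hX q).1 (Nat.pos_of_ne_zero hne)⟩)
  rw [← h1, ← h2, hsub]
  refine le_trans sq_sum_le_card_mul_sum_sq (Nat.mul_le_mul_left _ ?_)
  exact Finset.sum_le_sum_of_subset (Finset.filter_subset _ _)

/-- A quadratic bound for the pairs with a common fixed point. -/
theorem quad_bound (g : G) :
    5 * ∑ a : α, joint α g a a ^ 2 ≤ 6 * meeting α g + ∑ a : α, ∑ a' : α, joint α g a a' ^ 2 := by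
  obtain ⟨X, hX, h1, h2⟩ := moments (α := α) g
  set T := Finset.univ.filter (IsConj g) ×ˢ Finset.univ.filter (IsConj g)
  rw [← h1, ← h2, Finset.mul_sum, meeting, Finset.card_filter, Finset.mul_sum, ← Finset.sum_add_distrib]
  refine Finset.sum_le_sum fun q _ => ?_
  by_cases hq : ∃ a : α, q.1 • a = a ∧ q.2 • a = a
  · rw [if_pos hq]
    rcases le_or_gt (X q) 4 with h | h
    · interval_cases (X q) <;> norm_num
    · nlinarith
  · rw [if_neg hq, show X q = 0 from Nat.eq_zero_of_not_pos fun e => hq ((hX q).1 e)]
    norm_num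

end Cfsg.Lib.PermGroups.DegreeThriceP
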