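import Cfsg.Agent.PermGroups.DegreeTwiceP.RankThree
import Cfsg.Agent.PermGroups.DegreeThriceP.Moments

/-!
# Rank three groups through the idempotents of the centraliser algebra
-/

set_option autoImplicit false
set_option linter.unusedSectionVars false
set_option maxHeartbeats 1000000

namespace Cfsg.Lib.PermGroups.DegreeThriceP

open Cfsg.Lib.Chars Cfsg.Lib.PermGroups.DegreeTwiceP Matrix
open scoped ComplexConjugate _root_.Classical

universe u v

/-- A symmetric orbital of a rank three group. -/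
structure Orbital (G : Type u) [Group G] (α : Type v) [MulAction G α] where
  adj : α → α → Prop
  smul : ∀ (g : G) i j, adj (g • i) (g • j) ↔ adj i j
  symm : ∀ i j, adj i j → adj j i
  irrefl : ∀ i, ¬adj i i
  trans : ∀ i j i' j', adj i j → adj i' j' → ∃ g : G, g • i = i' ∧ g • j = j'
  trans' : ∀ i j i' j', i ≠ j → ¬adj i j → i' ≠ j' → ¬adj i' j' → ∃ g : G, g • i = i' ∧ g • j = j'
  exists_adj : ∃ i j, adj i j
  exists_nonadj : ∃ i j, i ≠ j ∧ ¬adj i j

variable {G : Type u} [Group G] {α : Type v} [MulAction G α]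

/-- The other orbital. -/
def Orbital.compl (Γ : Orbital G α) : Orbital G α where
  adj i j := i ≠ j ∧ ¬Γ.adj i j
  smul g i j := by rw [Γ.smul, Ne, smul_left_cancel_iff]
  symm i j e := ⟨e.1.symm, fun e' => e.2 (Γ.symm _ _ e')⟩
  irrefl i e := e.1 rfl
  trans i j i' j' e e' := Γ.trans' i j i' j' e.1 e.2 e'.1 e'.2
  trans' i j i' j' h1 h2 h3 h4 :=
    Γ.trans i j i' j' (not_not.1 fun e => h2 ⟨h1, e⟩) (not_not.1 fun e => h4 ⟨h3, e⟩)
  exists_adj := Γ.exists_nonadj
  exists_nonadj := by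
    obtain ⟨i, j, e⟩ := Γ.exists_adj
    exact ⟨i, j, fun e' => Γ.irrefl i (e' ▸ e), fun e' => e'.2 e⟩

variable [Fintype G] [Fintype α]

/-- The valency. -/
noncomputable def Orbital.deg (Γ : Orbital G α) (a : α) : ℕ := (Finset.univ.filter (Γ.adj a)).card

theorem Orbital.deg_compl (Γ : Orbital G α) (a : α) :
    Γ.deg a + Γ.compl.deg a + 1 = Fintype.card α := by
  have h1 := Finset.card_filter_add_card_filter_not (s := (Finset.univ : Finset α).erase a) (Γ.adj a)
  rw [Finset.card_erase_of_mem (Finset.mem_univ _), Finset.card_univ] at h1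
  have hpos : 0 < Fintype.card α := Fintype.card_pos_iff.2 ⟨a⟩
  have e1 : ((Finset.univ : Finset α).erase a).filter (Γ.adj a) = Finset.univ.filter (Γ.adj a) := by
    ext j
    simp only [Finset.mem_filter, Finset.mem_erase, Finset.mem_univ, and_true, true_and]
    exact ⟨And.right, fun e => ⟨fun e' => Γ.irrefl a (e' ▸ e), e⟩⟩
  have e2 : ((Finset.univ : Finset α).erase a).filter (fun j => ¬Γ.adj a j) =
      Finset.univ.filter (Γ.compl.adj a) := by
    ext j
    constructor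
    · intro e
      obtain ⟨e1, e2⟩ := Finset.mem_filter.1 e
      exact Finset.mem_filter.2 ⟨Finset.mem_univ _, (Finset.mem_erase.1 e1).1.symm, e2⟩
    · intro e
      obtain ⟨-, e1, e2⟩ := Finset.mem_filter.1 e
      exact Finset.mem_filter.2 ⟨Finset.mem_erase.2 ⟨Ne.symm e1, Finset.mem_univ _⟩, e2⟩
  rw [e1, e2] at h1
  simp only [Orbital.deg]
  omega

variable [MulAction.IsPretransitive G α]

theorem Orbital.deg_eq (Γ : Orbital G α) (a a' : α) : Γ.deg a = Γ.deg a' := by
  obtain ⟨g, rfl⟩ := MulAction.exists_smul_eq G a a'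
  exact Finset.card_equiv (MulAction.toPerm g) fun j => by simp [MulAction.toPerm_apply, Γ.smul]

theorem Orbital.deg_pos (Γ : Orbital G α) (a : α) : 0 < Γ.deg a := by
  obtain ⟨i, j, e⟩ := Γ.exists_adj
  rw [Γ.deg_eq a i]
  exact Finset.card_pos.2 ⟨j, Finset.mem_filter.2 ⟨Finset.mem_univ _, e⟩⟩

theorem Orbital.deg_dvd (Γ : Orbital G α) (a : α) : Γ.deg a ∣ Nat.card (MulAction.stabilizer G a) := by
  obtain ⟨b, hb⟩ : ∃ b, Γ.adj a b := by
    obtain ⟨i, j, e⟩ := Γ.exists_adj
    obtain ⟨g, rfl⟩ := MulAction.exists_smul_eq G i a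
    exact ⟨g • j, (Γ.smul g i j).2 e⟩
  let S := MulAction.stabilizer G a
  have horb : MulAction.orbit S b = {j | Γ.adj a j} := by
    ext j
    constructor
    · rintro ⟨⟨g, hg⟩, rfl⟩
      show Γ.adj a (g • b)
      have := (Γ.smul g a b).2 hb
      rwa [MulAction.mem_stabilizer_iff.1 hg] at this
    · intro hj
      obtain ⟨g, h1, h2⟩ := Γ.trans a b a j hb hj
      exact ⟨⟨g, MulAction.mem_stabilizer_iff.2 h1⟩, h2⟩
  have h1 := Nat.card_congr (MulAction.orbitProdStabilizerEquivGroup S b)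
  rw [Nat.card_prod, horb] at h1
  refine Dvd.intro _ ((congrArg (· * _) ?_).trans h1)
  rw [Orbital.deg, ← Fintype.card_subtype, ← Nat.card_eq_fintype_card]
  rfl

/-- An orbital swapped by an involution is symmetric. -/
theorem exists_orbital (θ ψ : Cfsg.IrrCharacter G) (hθψ : θ ≠ ψ) (hθ1 : θ ≠ principal G)
    (hψ1 : ψ ≠ principal G) (hπ : permChar G α = (fun _ => (1 : ℂ)) + (θ : G → ℂ) + (ψ : G → ℂ))
    {w : G} (hww : w * w = 1) {a₀ : α} (hw : w • a₀ ≠ a₀) : Nonempty (Orbital G α) := by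
  let cls : α → α → MulAction.orbitRel.Quotient G (α × α) := fun i j => Quotient.mk'' (i, j)
  have hcls : ∀ i j i' j', cls i j = cls i' j' ↔ ∃ g : G, g • i' = i ∧ g • j' = j := fun i j i' j' => by
    constructor
    · intro e
      obtain ⟨g, hg⟩ := (Quotient.eq''.1 e : (i, j) ∈ MulAction.orbit G (i', j'))
      exact ⟨g, congrArg Prod.fst hg, congrArg Prod.snd hg⟩
    · rintro ⟨g, h1, h2⟩
      exact Quotient.eq''.2 ⟨g, Prod.ext h1 h2⟩
  have : Fintype (MulAction.orbitRel.Quotient G (α × α)) := Fintype.ofFinite _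
  have hrank : Fintype.card (MulAction.orbitRel.Quotient G (α × α)) = 3 := by
    have h0 := classInner_perm_sq (G := G) (α := α)
    rw [hπ, show (fun _ : G => (1 : ℂ)) = (principal G : G → ℂ) from rfl] at h0
    simp only [classInner_add_left, classInner_add_right, classInner_irr_self, classInner_irr_ne hθψ,
      classInner_irr_ne hθψ.symm, classInner_irr_ne hθ1, classInner_irr_ne hθ1.symm, classInner_irr_ne hψ1,
      classInner_irr_ne hψ1.symm] at h0
    rw [← Nat.card_eq_fintype_card]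
    have : ((Nat.card (MulAction.orbitRel.Quotient G (α × α)) : ℕ) : ℂ) = ((3 : ℕ) : ℂ) := by
      rw [← h0]; norm_num
    exact_mod_cast this
  let d := cls a₀ a₀
  let c := cls a₀ (w • a₀)
  have hdiag : ∀ i j, cls i j = d ↔ i = j := fun i j => by
    constructor
    · intro e
      obtain ⟨g, h1, h2⟩ := (hcls _ _ _ _).1 e
      exact h1.symm.trans h2
    · rintro rfl
      obtain ⟨g, hg⟩ := MulAction.exists_smul_eq G a₀ i
      exact (hcls _ _ _ _).2 ⟨g, hg, hg⟩
  have hcd : c ≠ d := fun e => hw ((hdiag _ _).1 e).symm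
  obtain ⟨c', hc'⟩ : ∃ c', ∀ q, q ≠ d → q ≠ c → q = c' := by
    obtain ⟨c', hc'⟩ := Finset.card_eq_one.1 (show ((Finset.univ.erase d).erase c).card = 1 by
      rw [Finset.card_erase_of_mem (Finset.mem_erase.2 ⟨hcd, Finset.mem_univ _⟩),
        Finset.card_erase_of_mem (Finset.mem_univ _), Finset.card_univ, hrank])
    refine ⟨c', fun q h1 h2 => ?_⟩
    have : q ∈ (Finset.univ.erase d).erase c := by simp [h1, h2]
    rw [hc'] at this
    simpa using this
  refine ⟨⟨fun i j => cls i j = c, fun g i j => ?_, fun i j e => ?_,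
    fun i e => hcd (e.symm.trans ((hdiag i i).2 rfl)),
    fun i j i' j' e e' => (hcls _ _ _ _).1 (e'.trans e.symm),
    fun i j i' j' h1 h2 h3 h4 => (hcls _ _ _ _).1 ?_,
    ⟨a₀, w • a₀, rfl⟩, ?_⟩⟩
  · simp only [(hcls _ _ _ _).2 ⟨g, rfl, rfl⟩]
  · obtain ⟨g, h1, h2⟩ := (hcls _ _ _ _).1 e
    refine (hcls _ _ _ _).2 ⟨g * w, ?_, ?_⟩
    · rw [mul_smul, h2]
    · rw [mul_smul, ← mul_smul w, hww, one_smul, h1]
  · rw [hc' _ (fun e => h3 ((hdiag _ _).1 e)) h4, hc' _ (fun e => h1 ((hdiag _ _).1 e)) h2]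
  · obtain ⟨q, hq⟩ := Finset.card_pos.1 (show 0 < ((Finset.univ.erase d).erase c).card by
      rw [Finset.card_erase_of_mem (Finset.mem_erase.2 ⟨hcd, Finset.mem_univ _⟩),
        Finset.card_erase_of_mem (Finset.mem_univ _), Finset.card_univ, hrank]; norm_num)
    simp only [Finset.mem_erase, Finset.mem_univ, and_true] at hq
    obtain ⟨⟨i, j⟩, rfl⟩ := Quotient.exists_rep q
    exact ⟨i, j, fun e => hq.2 ((hdiag i j).2 e), hq.1⟩

/-- The parameters, the values of the characters and a bound on the second moment. -/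
theorem Orbital.params (Γ : Orbital G α) (θ ψ : Cfsg.IrrCharacter G) (hθψ : θ ≠ ψ)
    (hπ : permChar G α = (fun _ => (1 : ℂ)) + (θ : G → ℂ) + (ψ : G → ℂ))
    {b d : ℕ} (hθd : (θ : G → ℂ) 1 = (b : ℂ)) (hψd : (ψ : G → ℂ) 1 = (d : ℂ)) (a₀ : α) :
    ∃ (r s : ℝ) (lam mu : ℕ), r ≠ s ∧
      r + s = (lam : ℝ) - mu ∧ r * s = (mu : ℝ) - Γ.deg a₀ ∧
      (Γ.deg a₀ : ℝ) + r * b + s * d = 0 ∧
      (Γ.deg a₀ : ℝ) ^ 2 + r ^ 2 * b + s ^ 2 * d = (Fintype.card α : ℝ) * Γ.deg a₀ ∧
      (∀ i j, Γ.adj i j → (Finset.univ.filter fun z => Γ.adj i z ∧ Γ.adj z j).card = lam) ∧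
      (∀ i j, i ≠ j → ¬Γ.adj i j → (Finset.univ.filter fun z => Γ.adj i z ∧ Γ.adj z j).card = mu) ∧
      (∀ g : G, (θ : G → ℂ) g = (((r - s)⁻¹ * ((((Finset.univ.filter fun i => Γ.adj (g⁻¹ • i) i).card : ℕ) : ℝ) -
          s * (Nat.card (MulAction.fixedBy α g) : ℝ) - ((Γ.deg a₀ : ℝ) - s)) : ℝ) : ℂ)) ∧
      (d ≤ b → ∀ g : G, Fintype.card α ^ 2 * d * ∑ a : α, ∑ a' : α, joint α g a a' ^ 2 ≤
        (Finset.univ.filter (IsConj g)).card ^ 2 * Nat.card (MulAction.fixedBy α g) ^ 2 *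
          (d * Nat.card (MulAction.fixedBy α g) ^ 2 +
            (Fintype.card α - Nat.card (MulAction.fixedBy α g)) ^ 2)) := by
  set k := Γ.deg a₀ with hkdef
  set n := Fintype.card α with hn
  have hk : ∀ i, (Finset.univ.filter (Γ.adj i)).card = k := fun i => Γ.deg_eq i a₀
  have hkpos : 0 < k := Γ.deg_pos a₀
  have hkn : k + 1 < n := by
    have h1 := Γ.deg_compl a₀
    have h2 := Γ.compl.deg_pos a₀
    omega
  obtain ⟨i₁, j₁, hij₁⟩ := Γ.exists_adj
  obtain ⟨i₂, j₂, hne₂, hij₂⟩ := Γ.exists_nonadj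
  let N : α → α → ℕ := fun i j => (Finset.univ.filter fun z => Γ.adj i z ∧ Γ.adj z j).card
  have hNinv : ∀ (g : G) i j, N (g • i) (g • j) = N i j := fun g i j => by
    refine (Finset.card_equiv (MulAction.toPerm g) fun z => ?_).symm
    simp [MulAction.toPerm_apply, Γ.smul]
  set lam := N i₁ j₁ with hlam
  set mu := N i₂ j₂ with hmu
  have hNdiag : ∀ i, N i i = k := fun i => by
    rw [← hk i]
    exact congrArg Finset.card (Finset.filter_congr fun z _ => ⟨And.left, fun e => ⟨e, Γ.symm _ _ e⟩⟩)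
  have hNadj : ∀ i j, Γ.adj i j → N i j = lam := fun i j e => by
    obtain ⟨g, rfl, rfl⟩ := Γ.trans i₁ j₁ i j hij₁ e
    exact hNinv g _ _
  have hNnon : ∀ i j, i ≠ j → ¬Γ.adj i j → N i j = mu := fun i j h1 h2 => by
    obtain ⟨g, rfl, rfl⟩ := Γ.trans' i₂ j₂ i j hne₂ hij₂ h1 h2
    exact hNinv g _ _
  have hmu_le : mu ≤ k := by
    rw [← hk i₂]
    exact Finset.card_le_card fun z hz => Finset.mem_filter.2 ⟨Finset.mem_univ _, (Finset.mem_filter.1 hz).2.1⟩
  have hkN : ∀ i, (∑ j, if Γ.adj i j then 1 else 0 : ℕ) = k := fun i =>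
    (Finset.card_filter _ _).symm.trans (hk i)
  have hkR : ∀ i, (∑ j, if Γ.adj i j then (1 : ℝ) else 0) = k := fun i => by
    have := congrArg (Nat.cast : ℕ → ℝ) (hkN i)
    push_cast at this
    exact this
  have hkR' : ∀ j, (∑ i, if Γ.adj i j then (1 : ℝ) else 0) = k := fun j => by
    rw [← hkR j]
    exact Finset.sum_congr rfl fun i _ => if_congr ⟨Γ.symm _ _, Γ.symm _ _⟩ rfl rfl
  let A : Matrix α α ℝ := Matrix.of fun i j => if Γ.adj i j then 1 else 0
  let J : Matrix α α ℝ := Matrix.of fun _ _ => 1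
  have hNC : ∀ i j, (A * A) i j = (N i j : ℝ) := fun i j => by
    rw [Matrix.mul_apply]
    show _ = (((Finset.univ.filter fun z => Γ.adj i z ∧ Γ.adj z j).card : ℕ) : ℝ)
    rw [Finset.natCast_card_filter]
    exact Finset.sum_congr rfl fun z _ => by
      by_cases e1 : Γ.adj i z <;> by_cases e2 : Γ.adj z j <;> simp [A, e1, e2]
  have hAA : A * A = ((k : ℝ) - mu) • (1 : Matrix α α ℝ) + ((lam : ℝ) - mu) • A + (mu : ℝ) • J := by
    ext i j
    rw [hNC]
    simp only [Matrix.add_apply, Matrix.smul_apply, smul_eq_mul, A, J, Matrix.of_apply, Matrix.one_apply]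
    by_cases e : i = j
    · subst e; rw [hNdiag, if_pos rfl, if_neg (Γ.irrefl i)]; ring
    · by_cases e' : Γ.adj i j
      · rw [hNadj i j e', if_neg e, if_pos e']; ring
      · rw [hNnon i j e e', if_neg e, if_neg e']; ring
  have hAJ : A * J = (k : ℝ) • J := by
    ext i j
    simp [Matrix.mul_apply, A, J, hkR]
  have hJA : J * A = (k : ℝ) • J := by
    ext i j
    simp [Matrix.mul_apply, A, J, hkR']
  have hJJ : J * J = (n : ℝ) • J := by
    ext i j
    simp [Matrix.mul_apply, J, hn]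
  set t : ℝ := (lam : ℝ) - mu with ht
  have hn0 : (n : ℝ) ≠ 0 := by exact_mod_cast (by omega : n ≠ 0)
  have hrow : (k : ℝ) ^ 2 = t * k + k + mu * ((n : ℝ) - 1) := by
    have e : (A * A * J) a₀ a₀ = ((((k : ℝ) - mu) • (1 : Matrix α α ℝ) + t • A + (mu : ℝ) • J) * J) a₀ a₀ := by
      rw [hAA]
    rw [Matrix.mul_assoc, hAJ, Matrix.mul_smul, hAJ, add_mul, add_mul, Matrix.smul_mul, Matrix.smul_mul,
      Matrix.smul_mul, Matrix.one_mul, hAJ, hJJ] at e
    simp only [Matrix.add_apply, Matrix.smul_apply, smul_eq_mul, J, Matrix.of_apply, mul_one] at e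
    linear_combination e
  have hdisc : 0 < t ^ 2 + 4 * ((k : ℝ) - mu) := by
    have h1 : (mu : ℝ) ≤ k := by exact_mod_cast hmu_le
    rcases lt_or_eq_of_le h1 with hlt | heq
    · nlinarith [sq_nonneg t]
    · by_contra hc
      have ht0 : t = 0 := by nlinarith [sq_nonneg t]
      rw [ht0, heq] at hrow
      have : (k : ℝ) * k = k * n := by linear_combination hrow
      have := mul_left_cancel₀ (by exact_mod_cast hkpos.ne') this
      have : k = n := by exact_mod_cast this
      omega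
  set D₀ := Real.sqrt (t ^ 2 + 4 * ((k : ℝ) - mu)) with hD₀
  have hD0 : 0 < D₀ := Real.sqrt_pos.2 hdisc
  have hDsq : D₀ * D₀ = t ^ 2 + 4 * ((k : ℝ) - mu) := Real.mul_self_sqrt hdisc.le
  let E : ℝ → ℝ → Matrix α α ℝ := fun r s =>
    (r - s)⁻¹ • (A - s • (1 : Matrix α α ℝ) - (((k : ℝ) - s) / n) • J)
  have hidem : ∀ r s, r ≠ s → r + s = t → r * s = mu - k → E r s * E r s = E r s := by
    intro r s hrs hsum hprod
    set w : ℝ := ((k : ℝ) - s) / n with hw
    have hX : (A - s • (1 : Matrix α α ℝ) - w • J) * (A - s • (1 : Matrix α α ℝ) - w • J) =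
        ((k : ℝ) - mu + s ^ 2) • (1 : Matrix α α ℝ) + (t - 2 * s) • A +
          ((mu : ℝ) - 2 * w * k + 2 * w * s + w ^ 2 * n) • J := by
      simp only [Matrix.sub_mul, Matrix.mul_sub, Matrix.smul_mul, Matrix.mul_smul, Matrix.one_mul, Matrix.mul_one,
        hAA, hAJ, hJA, hJJ, smul_smul, smul_sub, ← ht]
      module
    have hwn : w * n = (k : ℝ) - s := div_mul_cancel₀ _ hn0
    have e1 : (k : ℝ) - mu + s ^ 2 = -(s * (r - s)) := by linear_combination hprod
    have e2 : t - 2 * s = r - s := by linear_combination -hsum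
    have e3 : (mu : ℝ) - 2 * w * k + 2 * w * s + w ^ 2 * n = -(w * (r - s)) := by
      refine mul_right_cancel₀ hn0 ?_
      linear_combination (-2 * (k : ℝ) + 2 * s + w * n + ((k : ℝ) - s) + (r - s)) * hwn - hrow +
        (k : ℝ) * hsum - hprod
    rw [e1, e2, e3] at hX
    have hd : r - s ≠ 0 := sub_ne_zero.2 hrs
    show ((r - s)⁻¹ • (A - s • (1 : Matrix α α ℝ) - w • J)) * ((r - s)⁻¹ • (A - s • (1 : Matrix α α ℝ) - w • J)) =
      (r - s)⁻¹ • (A - s • (1 : Matrix α α ℝ) - w • J)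
    rw [Matrix.smul_mul, Matrix.mul_smul, hX, smul_smul]
    have hd' : (r - s)⁻¹ * (r - s)⁻¹ * (r - s) = (r - s)⁻¹ := by field_simp
    simp only [smul_add, smul_sub, smul_smul]
    match_scalars <;> first
      | linear_combination hd'
      | linear_combination -s * hd'
      | linear_combination -w * hd'
  have hsym : ∀ r s i j, E r s i j = E r s j i := fun r s i j => by
    simp only [E, A, J, Matrix.smul_apply, Matrix.sub_apply, Matrix.of_apply, Matrix.one_apply]
    rw [if_congr (show Γ.adj i j ↔ Γ.adj j i from ⟨Γ.symm _ _, Γ.symm _ _⟩) rfl rfl,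
      if_congr (show i = j ↔ j = i from eq_comm) rfl rfl]
  have hEinv : ∀ r s (g : G) i j, E r s (g • i) (g • j) = E r s i j := fun r s g i j => by
    simp [E, A, J, Γ.smul, Matrix.one_apply]
  -- the characters
  let f : ℝ → ℝ → G → ℂ := fun r s g => (permMat G α g * (E r s).map (algebraMap ℝ ℂ)).trace
  have hchar : ∀ r s, r ≠ s → r + s = t → r * s = mu - k → Cfsg.IsCharacter G (f r s) := fun r s h1 h2 h3 =>
    isCharacter_idem (permMat G α) _ (by rw [← Matrix.map_mul, hidem r s h1 h2 h3])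
      (commute_permMat fun g i j => by simp only [Matrix.map_apply, hEinv])
  have hval : ∀ r s g, f r s g = (((r - s)⁻¹ *
      ((((Finset.univ.filter fun i => Γ.adj (g⁻¹ • i) i).card : ℕ) : ℝ) -
        s * (Nat.card (MulAction.fixedBy α g) : ℝ) - ((k : ℝ) - s)) : ℝ) : ℂ) := fun r s g => by
    have e1 : f r s g = ((∑ i, E r s (g⁻¹ • i) i : ℝ) : ℂ) := by
      simp only [f, Matrix.trace, Matrix.diag_apply, permMat_mul, Matrix.map_apply, Complex.ofReal_sum]
      rfl
    rw [e1, Complex.ofReal_inj]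
    have hfix : (Finset.univ.filter fun i : α => g⁻¹ • i = i).card = Nat.card (MulAction.fixedBy α g) := by
      rw [Nat.card_eq_fintype_card, ← Set.toFinset_card]
      congr 1
      ext i
      simp only [Finset.mem_filter, Finset.mem_univ, true_and, Set.mem_toFinset, MulAction.mem_fixedBy, inv_smul_eq_iff]
      exact eq_comm
    simp only [E, A, J, Matrix.smul_apply, Matrix.sub_apply, Matrix.of_apply, Matrix.one_apply, smul_eq_mul,
      mul_one, ← Finset.mul_sum, Finset.sum_sub_distrib, Finset.sum_boole, hfix, Finset.sum_const,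
      Finset.card_univ, nsmul_eq_mul, ← hn]
    rw [mul_div_cancel₀ _ hn0]
  have hfsum : ∀ r s, r ≠ s → f r s + f s r = (θ : G → ℂ) + (ψ : G → ℂ) := fun r s hrs => by
    funext g
    have := congrFun hπ g
    simp only [Pi.add_apply] at this
    rw [Pi.add_apply, Pi.add_apply, hval, hval]
    have hd : (r : ℂ) - s ≠ 0 := sub_ne_zero.2 (Complex.ofReal_injective.ne hrs)
    simp only [permChar] at this
    push_cast
    rw [← neg_sub (r : ℂ) s, inv_neg]
    linear_combination this + ((Nat.card (MulAction.fixedBy α g) : ℂ) - 1) * inv_mul_cancel₀ hd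
  have hnz : ∀ r s, r ≠ s → r + s = t → r * s = mu - k → f r s ≠ 0 := fun r s h1 h2 h3 e => by
    have e1 : f r s 1 = ((∑ i, E r s i i : ℝ) : ℂ) := by
      simp only [f, map_one, Matrix.one_mul, Matrix.trace, Matrix.diag_apply, Matrix.map_apply, Complex.ofReal_sum]
      rfl
    rw [congrFun e 1, Pi.zero_apply] at e1
    have e2 : ∑ i, E r s i i = 0 := by exact_mod_cast e1.symm
    have e3 : ∀ i z, E r s i z = 0 := by
      have e4 : ∑ i, ∑ z, E r s i z * E r s i z = 0 := by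
        rw [← e2]
        refine Finset.sum_congr rfl fun i _ => ?_
        conv_rhs => rw [← hidem r s h1 h2 h3, Matrix.mul_apply]
        exact Finset.sum_congr rfl fun z _ => by rw [hsym r s z i]
      intro i z
      have e5 := (Finset.sum_eq_zero_iff_of_nonneg
        (fun i _ => Finset.sum_nonneg fun z _ => mul_self_nonneg (E r s i z))).1 e4 i (Finset.mem_univ _)
      exact mul_self_eq_zero.1 ((Finset.sum_eq_zero_iff_of_nonneg fun z _ => mul_self_nonneg (E r s i z)).1 e5 z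
        (Finset.mem_univ _))
    have hd : (r - s)⁻¹ ≠ 0 := inv_ne_zero (sub_ne_zero.2 h1)
    have a1 : (r - s)⁻¹ * (1 - ((k : ℝ) - s) / n) = 0 := by
      have := e3 i₁ j₁
      simp only [E, A, J, Matrix.smul_apply, Matrix.sub_apply, Matrix.of_apply, Matrix.one_apply,
        if_pos hij₁, if_neg (fun e' : i₁ = j₁ => Γ.irrefl i₁ (e' ▸ hij₁)), smul_eq_mul, mul_one, mul_zero,
        sub_zero] at this
      exact this
    have a2 : (r - s)⁻¹ * (0 - ((k : ℝ) - s) / n) = 0 := by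
      have := e3 i₂ j₂
      simp only [E, A, J, Matrix.smul_apply, Matrix.sub_apply, Matrix.of_apply, Matrix.one_apply,
        if_neg hij₂, if_neg hne₂, smul_eq_mul, mul_one, mul_zero, sub_zero] at this
      exact this
    exact hd (by linear_combination a1 - a2)
  obtain ⟨r, s, hrs, hsum, hprod, hfθ, hfψ⟩ : ∃ r s : ℝ, r ≠ s ∧ r + s = t ∧ r * s = mu - k ∧
      f r s = (θ : G → ℂ) ∧ f s r = (ψ : G → ℂ) := by
    set r₀ : ℝ := (t + D₀) / 2 with hr₀
    set s₀ : ℝ := (t - D₀) / 2 with hs₀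
    have hrs : r₀ ≠ s₀ := fun e => hD0.ne' (by linear_combination e)
    have hsum : r₀ + s₀ = t := by rw [hr₀, hs₀]; ring
    have hprod : r₀ * s₀ = mu - k := by linear_combination (-1 / 4 : ℝ) * hDsq
    have hsum' : s₀ + r₀ = t := (add_comm _ _).trans hsum
    have hprod' : s₀ * r₀ = mu - k := (mul_comm _ _).trans hprod
    have hc1 := hchar r₀ s₀ hrs hsum hprod
    have hc2 := hchar s₀ r₀ hrs.symm hsum' hprod'
    obtain ⟨m, hm⟩ := IsCharacter.exists_decomp hc1
    obtain ⟨m', hm'⟩ := IsCharacter.exists_decomp hc2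
    have hcoef : ∀ (φ : G → ℂ) (q : Cfsg.IrrCharacter G → ℕ),
        φ = ∑ χ : Cfsg.IrrCharacter G, q χ • (χ : G → ℂ) →
        ∀ χ : Cfsg.IrrCharacter G, Cfsg.classInner φ (χ : G → ℂ) = (q χ : ℂ) := fun φ q e χ => by
      rw [e]
      have : (∑ χ : Cfsg.IrrCharacter G, q χ • (χ : G → ℂ)) =
          ∑ χ : Cfsg.IrrCharacter G, (q χ : ℂ) • (χ : G → ℂ) :=
        Finset.sum_congr rfl fun χ _ => (Nat.cast_smul_eq_nsmul ℂ _ _).symm
      rw [this, classInner_irrSum]
    have hadd : ∀ χ, m χ + m' χ = (if θ = χ then 1 else 0) + (if ψ = χ then 1 else 0) := fun χ => by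
      have e := congrArg (fun φ => Cfsg.classInner φ (χ : G → ℂ)) (hfsum r₀ s₀ hrs)
      simp only [classInner_add_left, hcoef _ _ hm, hcoef _ _ hm', classInner_irrCharacter] at e
      apply Nat.cast_injective (R := ℂ)
      push_cast
      exact e
    have hform : ∀ (φ : G → ℂ) (q : Cfsg.IrrCharacter G → ℕ),
        φ = ∑ χ : Cfsg.IrrCharacter G, q χ • (χ : G → ℂ) →
        (∀ χ, χ ≠ θ → χ ≠ ψ → q χ = 0) → φ = q θ • (θ : G → ℂ) + q ψ • (ψ : G → ℂ) := fun φ q e hz => by
      rw [e, ← Finset.sum_subset (Finset.subset_univ {θ, ψ}) (fun χ _ hχ => by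
        simp only [Finset.mem_insert, Finset.mem_singleton, not_or] at hχ
        rw [hz χ hχ.1 hχ.2, zero_smul]), Finset.sum_pair hθψ]
    have hz : ∀ χ, χ ≠ θ → χ ≠ ψ → m χ = 0 ∧ m' χ = 0 := fun χ h1 h2 => by
      have := hadd χ
      rw [if_neg h1.symm, if_neg h2.symm] at this
      omega
    have e1 := hform _ m hm fun χ a b => (hz χ a b).1
    have e2 := hform _ m' hm' fun χ a b => (hz χ a b).2
    have a1 := hadd θ
    have a2 := hadd ψ
    rw [if_pos rfl, if_neg hθψ.symm] at a1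
    rw [if_neg hθψ, if_pos rfl] at a2
    rcases (show (m θ = 1 ∧ m ψ = 0) ∨ (m θ = 0 ∧ m ψ = 1) ∨ (m θ = 0 ∧ m ψ = 0) ∨ (m θ = 1 ∧ m ψ = 1) by omega)
      with ⟨x, y⟩ | ⟨x, y⟩ | ⟨x, y⟩ | ⟨x, y⟩
    · refine ⟨r₀, s₀, hrs, hsum, hprod, ?_, ?_⟩
      · rw [e1, x, y, one_smul, zero_smul, add_zero]
      · rw [e2, show m' θ = 0 by omega, show m' ψ = 1 by omega, one_smul, zero_smul, zero_add]
    · refine ⟨s₀, r₀, hrs.symm, hsum', hprod', ?_, ?_⟩
      · rw [e2, show m' θ = 1 by omega, show m' ψ = 0 by omega, one_smul, zero_smul, add_zero]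
      · rw [e1, x, y, one_smul, zero_smul, zero_add]
    · exact absurd (by rw [e1, x, y, zero_smul, zero_smul, add_zero] : f r₀ s₀ = 0) (hnz _ _ hrs hsum hprod)
    · exact absurd (by rw [e2, show m' θ = 0 by omega, show m' ψ = 0 by omega, zero_smul, zero_smul, add_zero] :
        f s₀ r₀ = 0) (hnz _ _ hrs.symm hsum' hprod')
  -- the traces
  set E₁ := E r s with hE₁
  set J' : Matrix α α ℝ := (n : ℝ)⁻¹ • J with hJ'
  set E₂ := (1 : Matrix α α ℝ) - E₁ - J' with hE₂
  have hd : r - s ≠ 0 := sub_ne_zero.2 hrs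
  have hEE : E₁ * E₁ = E₁ := hidem r s hrs hsum hprod
  have hEJ : E₁ * J' = 0 := by
    simp only [hE₁, E, hJ', Matrix.smul_mul, Matrix.mul_smul, Matrix.sub_mul, Matrix.one_mul, hAJ, hJJ,
      smul_smul, smul_sub]
    match_scalars
    field_simp
    ring
  have hJE : J' * E₁ = 0 := by
    simp only [hE₁, E, hJ', Matrix.smul_mul, Matrix.mul_smul, Matrix.mul_sub, Matrix.mul_one, hJA, hJJ,
      smul_smul, smul_sub]
    match_scalars
    field_simp
    ring
  have hJ'J' : J' * J' = J' := by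
    rw [hJ', Matrix.smul_mul, Matrix.mul_smul, hJJ, smul_smul, smul_smul]
    congr 1
    field_simp
  have hE12 : E₁ * E₂ = 0 := by
    rw [hE₂, Matrix.mul_sub, Matrix.mul_sub, Matrix.mul_one, hEE, hEJ, sub_self, sub_zero]
  have hE21 : E₂ * E₁ = 0 := by
    rw [hE₂, Matrix.sub_mul, Matrix.sub_mul, Matrix.one_mul, hEE, hJE, sub_self, sub_zero]
  have hE2J : E₂ * J' = 0 := by
    rw [hE₂, Matrix.sub_mul, Matrix.sub_mul, Matrix.one_mul, hEJ, hJ'J', sub_zero, sub_self]
  have hJE2 : J' * E₂ = 0 := by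
    rw [hE₂, Matrix.mul_sub, Matrix.mul_sub, Matrix.mul_one, hJE, hJ'J', sub_zero, sub_self]
  have hE22 : E₂ * E₂ = E₂ := by
    conv_lhs => arg 1; rw [hE₂]
    rw [Matrix.sub_mul, Matrix.sub_mul, Matrix.one_mul, hE12, hJE2, sub_zero, sub_zero]
  have htrJ : J'.trace = 1 := by
    simp [hJ', J, Matrix.trace, ← hn, hn0]
  have htr1 : E₁.trace = b := by
    have e1 : f r s 1 = ((E₁.trace : ℝ) : ℂ) := by
      simp only [f, map_one, Matrix.one_mul, Matrix.trace, Matrix.diag_apply, Matrix.map_apply, Complex.ofReal_sum,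
        hE₁]
      rfl
    rw [hfθ, hθd] at e1
    exact_mod_cast e1.symm
  have hbd : (n : ℝ) = 1 + b + d := by
    have e := congrFun hπ 1
    simp only [Pi.add_apply, permChar, hθd, hψd] at e
    rw [MulAction.fixedBy_one_eq_univ, Nat.card_congr (Equiv.Set.univ α), Nat.card_eq_fintype_card, ← hn] at e
    exact_mod_cast e
  have htr2 : E₂.trace = d := by
    rw [hE₂, Matrix.trace_sub, Matrix.trace_sub, Matrix.trace_one, htr1, htrJ, ← hn, hbd]
    ring
  have hsE : ((r - s) • E₁ : Matrix α α ℝ) = A - s • (1 : Matrix α α ℝ) - (((k : ℝ) - s) / n) • J := by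
    simp only [hE₁, E, smul_smul, mul_inv_cancel₀ hd, one_smul]
  have hA : A = r • E₁ + s • E₂ + (k : ℝ) • J' := by
    have : A = (r - s) • E₁ + s • (1 : Matrix α α ℝ) + (((k : ℝ) - s) / n) • J := by rw [hsE]; abel
    rw [this, hE₂, hJ']
    simp only [div_eq_mul_inv, smul_sub, smul_smul]
    module
  have hcomb : ∀ x y z x' y' z' : ℝ, (x • E₁ + y • E₂ + z • J') * (x' • E₁ + y' • E₂ + z' • J') =
      (x * x') • E₁ + (y * y') • E₂ + (z * z') • J' := by
    intro x y z x' y' z'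
    simp only [Matrix.add_mul, Matrix.mul_add, Matrix.smul_mul, Matrix.mul_smul, hEE, hE12, hE21, hEJ, hJE,
      hE2J, hJE2, hE22, hJ'J', smul_smul, smul_zero, add_zero, zero_add]
    module
  have htr : ∀ x y z : ℝ, (x • E₁ + y • E₂ + z • J').trace = x * b + y * d + z := fun x y z => by
    rw [Matrix.trace_add, Matrix.trace_add, Matrix.trace_smul x, Matrix.trace_smul y, Matrix.trace_smul z, htr1, htr2,
      htrJ, smul_eq_mul, smul_eq_mul, smul_eq_mul, mul_one]
  refine ⟨r, s, lam, mu, hrs, hsum, hprod, ?_, ?_, hNadj, hNnon, fun g => ?_, fun hdb g => ?_⟩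
  · have e : A.trace = 0 := by simp [Matrix.trace, A, Γ.irrefl]
    rw [hA, htr] at e
    linear_combination e
  · have e : (A * A).trace = (n : ℝ) * k := by
      simp [Matrix.trace, hNC, hNdiag, ← hn]
    rw [hA, hcomb, htr] at e
    linear_combination e
  · rw [← hfθ, hval]
  -- the second moment
  set F := Nat.card (MulAction.fixedBy α g) with hF
  set K := (Finset.univ.filter (IsConj g)).card with hK
  let Dm : Matrix α α ℝ := Matrix.of fun a a' => (joint α g a a' : ℝ)
  set c₀ : ℝ := ((joint α g a₀ a₀ : ℕ) : ℝ) with hc₀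
  set c₁ : ℝ := ((joint α g i₁ j₁ : ℕ) : ℝ)
  set c₂ : ℝ := ((joint α g i₂ j₂ : ℕ) : ℝ)
  have hDval : Dm = c₀ • (1 : Matrix α α ℝ) + c₁ • A + c₂ • (J - 1 - A) := by
    ext i j
    simp only [Dm, A, J, Matrix.add_apply, Matrix.sub_apply, Matrix.smul_apply, Matrix.of_apply, Matrix.one_apply,
      smul_eq_mul]
    by_cases e : i = j
    · subst e
      rw [if_pos rfl, if_neg (Γ.irrefl i)]
      obtain ⟨x, rfl⟩ := MulAction.exists_smul_eq G a₀ i
      rw [joint_smul]; ring
    · by_cases e' : Γ.adj i j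
      · rw [if_neg e, if_pos e']
        obtain ⟨x, rfl, rfl⟩ := Γ.trans i₁ j₁ i j hij₁ e'
        rw [joint_smul]; ring
      · rw [if_neg e, if_neg e']
        obtain ⟨x, rfl, rfl⟩ := Γ.trans' i₂ j₂ i j hne₂ hij₂ e e'
        rw [joint_smul]; ring
  obtain ⟨x, y, z, hD⟩ : ∃ x y z : ℝ, Dm = x • E₁ + y • E₂ + z • J' := by
    refine ⟨c₀ + c₁ * r + c₂ * (-1 - r), c₀ + c₁ * s + c₂ * (-1 - s),
      c₀ + c₁ * k + c₂ * ((n : ℝ) - 1 - k), ?_⟩
    have hone : (1 : Matrix α α ℝ) = E₁ + E₂ + J' := by rw [hE₂]; abel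
    have hJn : J = (n : ℝ) • J' := by rw [hJ', smul_smul, mul_inv_cancel₀ hn0, one_smul]
    rw [hDval, hA, hone, hJn]
    module
  have hpsd : ∀ E' : Matrix α α ℝ, E' * E' = E' → (∀ i j, E' i j = E' j i) → 0 ≤ (Dm * E').trace := by
    intro E' h1 h2
    have e : (Dm * E').trace = ∑ u ∈ Finset.univ.filter (IsConj g),
        ∑ a ∈ Finset.univ.filter (fun a : α => u • a = a), ∑ a' ∈ Finset.univ.filter (fun a : α => u • a = a),
          E' a' a := by
      simp only [Matrix.trace, Matrix.diag_apply, Matrix.mul_apply, Dm, Matrix.of_apply]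
      have key : ∀ a a' : α, (joint α g a a' : ℝ) * E' a' a = ∑ u ∈ Finset.univ.filter (IsConj g),
          if u • a = a then (if u • a' = a' then E' a' a else 0) else 0 := fun a a' => by
        rw [joint, Finset.natCast_card_filter, Finset.sum_mul]
        refine Finset.sum_congr (by congr) fun u _ => ?_
        by_cases h3 : u • a = a <;> by_cases h4 : u • a' = a' <;> simp [h3, h4]
      rw [Finset.sum_congr rfl fun a _ => Finset.sum_congr rfl fun a' _ => key a a',
        Finset.sum_congr rfl fun a _ => Finset.sum_comm, Finset.sum_comm]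
      refine Finset.sum_congr rfl fun u _ => ?_
      rw [Finset.sum_filter]
      refine Finset.sum_congr rfl fun a _ => ?_
      by_cases h3 : u • a = a
      · simp only [if_pos h3]
        rw [Finset.sum_filter]
      · simp only [if_neg h3, Finset.sum_const_zero]
    rw [e]
    refine Finset.sum_nonneg fun u _ => ?_
    set S := Finset.univ.filter (fun a : α => u • a = a)
    have : ∑ a ∈ S, ∑ a' ∈ S, E' a' a = ∑ z, (∑ a ∈ S, E' z a) * (∑ a ∈ S, E' z a) := by
      simp only [Finset.sum_mul_sum]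
      conv_rhs => rw [Finset.sum_comm]
      refine Finset.sum_congr rfl fun a _ => ?_
      conv_rhs => rw [Finset.sum_comm]
      refine Finset.sum_congr rfl fun a' _ => ?_
      conv_lhs => rw [← h1, Matrix.mul_apply]
      exact Finset.sum_congr rfl fun z _ => by rw [h2 a' z]; ring
    rw [this]
    exact Finset.sum_nonneg fun z _ => mul_self_nonneg _
  have hsym1 : ∀ i j, E₁ i j = E₁ j i := hsym r s
  have hx : 0 ≤ x * b := by
    have e := hpsd E₁ hEE hsym1
    rw [hD, show x • E₁ + y • E₂ + z • J' = x • E₁ + y • E₂ + z • J' from rfl] at e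
    have e1 : (x • E₁ + y • E₂ + z • J') * E₁ = x • E₁ := by
      simp only [Matrix.add_mul, Matrix.smul_mul, hEE, hE21, hJE, smul_zero, add_zero]
    rwa [e1, Matrix.trace_smul, htr1, smul_eq_mul] at e
  have hy : 0 ≤ y * d := by
    have e := hpsd E₂ hE22 (fun i j => by
      simp only [hE₂, hJ', J, Matrix.sub_apply, Matrix.smul_apply, Matrix.of_apply, Matrix.one_apply]
      rw [hsym1 i j, if_congr (show i = j ↔ j = i from eq_comm) rfl rfl])
    have e1 : (x • E₁ + y • E₂ + z • J') * E₂ = y • E₂ := by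
      simp only [Matrix.add_mul, Matrix.smul_mul, hE22, hE12, hJE2, smul_zero, add_zero, zero_add]
    rw [hD] at e
    rwa [e1, Matrix.trace_smul, htr2, smul_eq_mul] at e
  have hn_c0 : (n : ℝ) * c₀ = (K : ℝ) * F := by
    have this : n * joint α g a₀ a₀ = K * F := by
      rw [hK, hn, hF]
      convert card_mul_joint_self (α := α) g a₀
    have := congrArg (Nat.cast : ℕ → ℝ) this
    push_cast at this
    exact this
  have hz : (n : ℝ) * z = (K : ℝ) * F ^ 2 := by
    have e1 : (Dm * J') a₀ a₀ = z * J' a₀ a₀ := by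
      rw [hD]
      simp only [Matrix.add_mul, Matrix.smul_mul, hEJ, hE2J, hJ'J', smul_zero, zero_add, Matrix.smul_apply,
        smul_eq_mul]
    have e2 : (Dm * J') a₀ a₀ = (n : ℝ)⁻¹ * (c₀ * F) := by
      have := congrArg (Nat.cast : ℕ → ℝ) (sum_joint (α := α) g a₀)
      push_cast at this
      rw [show c₀ * (F : ℝ) = ∑ a' : α, (joint α g a₀ a' : ℝ) from this.symm]
      simp [Matrix.mul_apply, Dm, hJ', J, Finset.mul_sum, mul_comm]
    rw [e2] at e1
    simp only [hJ', J, Matrix.smul_apply, Matrix.of_apply, smul_eq_mul, mul_one] at e1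
    have e3 : c₀ * F = z := by
      have hi : (n : ℝ)⁻¹ ≠ 0 := inv_ne_zero hn0
      exact mul_left_cancel₀ hi (by linear_combination e1)
    rw [← e3]
    linear_combination (F : ℝ) * hn_c0
  have htrD : x * b + y * d + z = (K : ℝ) * F := by
    rw [← htr, ← hD, ← hn_c0]
    simp only [Matrix.trace, Matrix.diag_apply, Dm, Matrix.of_apply]
    rw [Finset.sum_congr rfl fun i _ => (by
      obtain ⟨x', rfl⟩ := MulAction.exists_smul_eq G a₀ i
      rw [joint_smul] : (joint α g i i : ℝ) = c₀), Finset.sum_const, Finset.card_univ, nsmul_eq_mul, ← hn]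
  have hsq : ((∑ a : α, ∑ a' : α, joint α g a a' ^ 2 : ℕ) : ℝ) = x ^ 2 * b + y ^ 2 * d + z ^ 2 := by
    rw [pow_two x, pow_two y, pow_two z, ← htr, ← hcomb, ← hD]
    push_cast
    simp only [Matrix.trace, Matrix.diag_apply, Matrix.mul_apply, Dm, Matrix.of_apply]
    exact Finset.sum_congr rfl fun a _ => Finset.sum_congr rfl fun a' _ => by rw [joint_comm g a' a, pow_two]
  have hFn : F ≤ n := by
    rw [hF, hn, ← Nat.card_eq_fintype_card]; exact Finite.card_subtype_le _
  have key : (d : ℝ) * (x ^ 2 * b + y ^ 2 * d) ≤ (x * b + y * d) ^ 2 := by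
    have h1 : (d : ℝ) * (x ^ 2 * b) ≤ (x * b) ^ 2 := by
      have : (d : ℝ) ≤ b := by exact_mod_cast hdb
      nlinarith [mul_nonneg (sq_nonneg x) (by positivity : (0 : ℝ) ≤ b)]
    nlinarith [mul_nonneg hx hy]
  have key2 := mul_le_mul_of_nonneg_left key (sq_nonneg (n : ℝ))
  apply Nat.cast_le (α := ℝ) |>.1
  rw [Nat.cast_mul, Nat.cast_mul, hsq]
  push_cast [Nat.cast_sub hFn]
  have e4 : (n : ℝ) * (x * b + y * d) = (K : ℝ) * F * ((n : ℝ) - F) := by
    linear_combination (n : ℝ) * htrD - hz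
  calc (n : ℝ) ^ 2 * d * (x ^ 2 * b + y ^ 2 * d + z ^ 2)
      = (n : ℝ) ^ 2 * ((d : ℝ) * (x ^ 2 * b + y ^ 2 * d)) + d * ((n : ℝ) * z) ^ 2 := by ring
    _ ≤ (n : ℝ) ^ 2 * (x * b + y * d) ^ 2 + d * ((n : ℝ) * z) ^ 2 := add_le_add_left key2 _
    _ = ((n : ℝ) * (x * b + y * d)) ^ 2 + d * ((n : ℝ) * z) ^ 2 := by ring
    _ = _ := by rw [e4, hz]; ring

end Cfsg.Lib.PermGroups.DegreeThriceP
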