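import Cfsg.Agent.PermGroups.DegreeThriceP.Count
import Cfsg.Agent.PermGroups.DegreeThriceP.RankThree
import Mathlib.GroupTheory.Sylow

/-!
# Facts shared by the cases of degree `3 p`
-/

set_option autoImplicit false
set_option linter.unusedSectionVars false
set_option maxHeartbeats 1000000

namespace Cfsg.Lib.PermGroups.DegreeThriceP

open Cfsg.Lib.Chars Cfsg.Lib.PermGroups.PrimeExceptional
open scoped ComplexConjugate _root_.Classical

universe u v

variable {G : Type u} [Group G] [Fintype G]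

/-- A transitive action with `⟨π, π⟩ = 2` is doubly transitive. -/
theorem exists_smul_of_inner_two {α : Type v} [MulAction G α] [Fintype α] [MulAction.IsPretransitive G α]
    (e : Cfsg.classInner (permChar G α) (permChar G α) = 2) {a b c d : α} (hab : a ≠ b) (hcd : c ≠ d) :
    ∃ g : G, g • a = c ∧ g • b = d := by
  rw [Cfsg.Lib.PermGroups.DegreeTwiceP.classInner_perm_sq] at e
  have e' : Nat.card (MulAction.orbitRel.Quotient G (α × α)) = 2 := by exact_mod_cast e
  obtain ⟨q, q', hqq, hq⟩ := Nat.card_eq_two_iff.1 e'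
  have hq' : ∀ r : MulAction.orbitRel.Quotient G (α × α), r = q ∨ r = q' := fun r => by
    have : r ∈ ({q, q'} : Set _) := hq ▸ Set.mem_univ r
    simpa using this
  have key : ∀ x y : α, x ≠ y →
      (Quotient.mk'' (x, y) : MulAction.orbitRel.Quotient G (α × α)) ≠ Quotient.mk'' (a, a) := by
    intro x y hxy e''
    obtain ⟨g, hg⟩ := (Quotient.eq''.1 e'' : (x, y) ∈ MulAction.orbit G (a, a))
    exact hxy ((congrArg Prod.fst hg).symm.trans (congrArg Prod.snd hg))
  have heq : (Quotient.mk'' (c, d) : MulAction.orbitRel.Quotient G (α × α)) = Quotient.mk'' (a, b) := by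
    have k1 := key a b hab
    have k2 := key c d hcd
    rcases hq' (Quotient.mk'' (a, a)) with e0 | e0 <;> rcases hq' (Quotient.mk'' (a, b)) with e1 | e1 <;>
      rcases hq' (Quotient.mk'' (c, d)) with e2 | e2 <;> rw [e0, e1] at k1 <;> rw [e0, e2] at k2 <;>
      first
      | exact e2.trans e1.symm
      | exact absurd rfl k1
      | exact absurd rfl k2
  obtain ⟨g, hg⟩ := (Quotient.eq''.1 heq : (c, d) ∈ MulAction.orbit G (a, b))
  exact ⟨g, congrArg Prod.fst hg, congrArg Prod.snd hg⟩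

variable {p : ℕ} [Fact p.Prime] {h : Setting G p}
  {b : ℕ} {θ : Cfsg.IrrCharacter G} {μ : ZMod p → Cfsg.IrrCharacter G}

/-- The number of Sylow subgroups is `1` modulo `p`. -/
theorem card_eq_two_mul (h : Setting G p) (P : Sylow p G) (hP : (P : Subgroup G) = h.P) :
    ∃ n : ℕ, Nat.card G = 2 * p * n ∧ n % p = 1 := by
  refine ⟨Nat.card (Sylow p G), ?_, ?_⟩
  · have e := P.card_eq_index_normalizer
    rw [e, ← (Subgroup.normalizer ((P : Subgroup G) : Set G)).card_mul_index, hP,
      show Nat.card (Subgroup.normalizer (h.P : Set G)) = 2 * p from h.normCard, ← hP]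
    rfl
  · have e := card_sylow_modEq_one p G
    rw [Nat.ModEq] at e
    rw [e, Nat.mod_eq_of_lt (Fact.out : p.Prime).one_lt]

/-- Only the identity has the value `b`. -/
theorem value_ne (hx : h.Exc b θ μ) (hb : 1 < b)
    (hmin : ∀ K : Subgroup G, K.Normal → h.t ∉ K → K = ⊥) {g : G} (hg : g ≠ 1) :
    (θ : G → ℂ) g ≠ (b : ℂ) := by
  intro e
  have hθc := isCharacter_of_irr θ.2
  have hK := hmin _ (kerSubgroup_normal hθc) fun ht => by
    have ht1 : h.t ≠ 1 := fun e => by
      have := h.order; rw [e, orderOf_one] at this; have := (Fact.out : p.Prime).two_le; omega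
    rw [mem_kerSubgroup, hx.θ_one, hx.θ_P ⟨h.t, Subgroup.mem_zpowers _⟩ ht1] at ht
    have : ((b + 1 : ℕ) : ℂ) = ((0 : ℕ) : ℂ) := by push_cast; linear_combination -ht
    have := Nat.cast_inj.1 this
    omega
  have : g ∈ kerSubgroup _ hθc := by rw [mem_kerSubgroup, hx.θ_one, e]
  rw [hK, Subgroup.mem_bot] at this
  exact hg this

variable {α : Type v} [MulAction G α] [Fintype α]

/-- Elements with more than half of the points fixed force every pair of conjugates to meet. -/
theorem meeting_eq_of_lt {g : G} (hg : Fintype.card α < 2 * Nat.card (MulAction.fixedBy α g)) :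
    meeting α g = (Finset.univ.filter (IsConj g)).card ^ 2 := by
  rw [meeting, pow_two, ← Finset.card_product]
  rw [Finset.filter_true_of_mem (p := fun q : G × G => ∃ a : α, q.1 • a = a ∧ q.2 • a = a) ?_]
  intro q hq
  obtain ⟨h1, h2⟩ := Finset.mem_product.1 hq
  have e1 := card_fixed_conj (α := α) g (Finset.mem_filter.1 h1).2
  have e2 := card_fixed_conj (α := α) g (Finset.mem_filter.1 h2).2
  by_contra hne
  push Not at hne
  have hdis : Disjoint (Finset.univ.filter fun a : α => q.1 • a = a) (Finset.univ.filter fun a : α => q.2 • a = a) :=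
    Finset.disjoint_left.2 fun a ha hb => hne a (Finset.mem_filter.1 ha).2 (Finset.mem_filter.1 hb).2
  have := Finset.card_le_univ ((Finset.univ.filter fun a : α => q.1 • a = a).disjUnion
    (Finset.univ.filter fun a : α => q.2 • a = a) hdis)
  rw [Finset.card_disjUnion, e1, e2] at this
  omega

theorem pair_count' (hx : h.Exc b θ μ) (hb : 1 < b) (hfree : ∀ a : α, h.t • a ≠ a) {g : G} (hg : ¬h.Sing g)
    {r : ℤ} (hr : (θ : G → ℂ) g = r) :
    ((p : ℤ) - 1) * ((b : ℤ) - r) ^ 2 * ((Finset.univ.filter (IsConj g)).card : ℤ) ^ 2 +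
        2 * p * b * ((b : ℤ) - 1) * (meeting α g : ℤ) ≤
      2 * p * b * ((b : ℤ) - 1) * ((Finset.univ.filter (IsConj g)).card : ℤ) ^ 2 := by
  have e := hx.pair_count hb α hfree hg hr
  convert e using 6
  unfold meeting
  congr!

/-- At most half of the points are fixed. -/
theorem two_mul_fixed_le (hx : h.Exc b θ μ) (hb : 1 < b) (hfree : ∀ a : α, h.t • a ≠ a)
    (hmin : ∀ K : Subgroup G, K.Normal → h.t ∉ K → K = ⊥) {g : G} (hg : ¬h.Sing g) (hg1 : g ≠ 1)
    {r : ℤ} (hr : (θ : G → ℂ) g = r) : 2 * Nat.card (MulAction.fixedBy α g) ≤ Fintype.card α := by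
  by_contra hc
  push Not at hc
  have e := pair_count' (α := α) hx hb hfree hg hr
  rw [meeting_eq_of_lt hc] at e
  push_cast at e
  have hne : (b : ℤ) - r ≠ 0 := fun e' => value_ne hx hb hmin hg1 (by
    rw [hr, show r = (b : ℤ) by omega, Int.cast_natCast])
  have hK : (0 : ℤ) < ((Finset.univ.filter (IsConj g)).card : ℤ) := by
    exact_mod_cast Finset.card_pos.2 ⟨g, Finset.mem_filter.2 ⟨Finset.mem_univ _, IsConj.refl g⟩⟩
  have hp2 : (2 : ℤ) ≤ p := by exact_mod_cast (Fact.out : p.Prime).two_le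
  have : 0 < ((p : ℤ) - 1) * ((b : ℤ) - r) ^ 2 * ((Finset.univ.filter (IsConj g)).card : ℤ) ^ 2 := by
    have h1 : (0 : ℤ) < (p : ℤ) - 1 := by omega
    have h2 : (0 : ℤ) < ((b : ℤ) - r) ^ 2 := lt_of_le_of_ne (sq_nonneg _) (pow_ne_zero 2 hne).symm
    positivity
  linarith

/-- Cauchy's inequality cleared of denominators. -/
theorem meeting_bound [MulAction.IsPretransitive G α] {g : G} {d : ℕ} (a : α)
    (hg : Nat.card (MulAction.fixedBy α g) ≠ 0)
    (hsec : Fintype.card α ^ 2 * d * ∑ a : α, ∑ a' : α, joint α g a a' ^ 2 ≤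
        (Finset.univ.filter (IsConj g)).card ^ 2 * Nat.card (MulAction.fixedBy α g) ^ 2 *
          (d * Nat.card (MulAction.fixedBy α g) ^ 2 +
            (Fintype.card α - Nat.card (MulAction.fixedBy α g)) ^ 2)) :
    d * Nat.card (MulAction.fixedBy α g) ^ 2 * (Finset.univ.filter (IsConj g)).card ^ 2 ≤
      meeting α g * (d * Nat.card (MulAction.fixedBy α g) ^ 2 +
        (Fintype.card α - Nat.card (MulAction.fixedBy α g)) ^ 2) := by
  set n := Fintype.card α
  set F := Nat.card (MulAction.fixedBy α g)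
  set K := (Finset.univ.filter (IsConj g)).card
  set S := ∑ a : α, ∑ a' : α, joint α g a a' ^ 2
  set T := d * F ^ 2 + (n - F) ^ 2
  have hc := cauchy (α := α) g
  have h0 : ∀ a' : α, joint α g a' a' = joint α g a a := fun a' => by
    obtain ⟨x, rfl⟩ := MulAction.exists_smul_eq G a a'
    exact joint_smul g x a a
  rw [Finset.sum_congr rfl fun a' _ => congrArg (· ^ 2) (h0 a'), Finset.sum_const, Finset.card_univ,
    smul_eq_mul] at hc
  have hd0 : n * joint α g a a = K * F := by convert card_mul_joint_self g a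
  have hK : 0 < K := Finset.card_pos.2 ⟨g, Finset.mem_filter.2 ⟨Finset.mem_univ _, IsConj.refl g⟩⟩
  refine le_of_mul_le_mul_right (a := K ^ 2 * F ^ 2) ?_ (by positivity)
  calc d * F ^ 2 * K ^ 2 * (K ^ 2 * F ^ 2) = d * (K * F) ^ 4 := by ring
    _ = n ^ 2 * d * ((n * joint α g a a ^ 2) ^ 2) := by rw [← hd0]; ring
    _ ≤ n ^ 2 * d * (meeting α g * S) := Nat.mul_le_mul_left _ hc
    _ = meeting α g * (n ^ 2 * d * S) := by ring
    _ ≤ meeting α g * (K ^ 2 * F ^ 2 * T) := Nat.mul_le_mul_left _ hsec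
    _ = meeting α g * T * (K ^ 2 * F ^ 2) := by ring

/-- The inequality that the two counts leave. -/
theorem count_inequality [MulAction.IsPretransitive G α] (hx : h.Exc b θ μ) (hb : 1 < b)
    (hfree : ∀ a : α, h.t • a ≠ a) {g : G} (hg : ¬h.Sing g) {r : ℤ} (hr : (θ : G → ℂ) g = r) {d : ℕ} (a : α)
    (hF0 : Nat.card (MulAction.fixedBy α g) ≠ 0)
    (hsec : Fintype.card α ^ 2 * d * ∑ a : α, ∑ a' : α, joint α g a a' ^ 2 ≤
        (Finset.univ.filter (IsConj g)).card ^ 2 * Nat.card (MulAction.fixedBy α g) ^ 2 *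
          (d * Nat.card (MulAction.fixedBy α g) ^ 2 +
            (Fintype.card α - Nat.card (MulAction.fixedBy α g)) ^ 2)) :
    ((p : ℤ) - 1) * ((b : ℤ) - r) ^ 2 * ((d : ℤ) * (Nat.card (MulAction.fixedBy α g) : ℤ) ^ 2 +
        ((Fintype.card α : ℤ) - Nat.card (MulAction.fixedBy α g)) ^ 2) ≤
      2 * p * b * ((b : ℤ) - 1) * ((Fintype.card α : ℤ) - Nat.card (MulAction.fixedBy α g)) ^ 2 := by
  have e := pair_count' (α := α) hx hb hfree hg hr
  have hFn : Nat.card (MulAction.fixedBy α g) ≤ Fintype.card α :=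
    (Finite.card_subtype_le _).trans_eq Nat.card_eq_fintype_card
  have hm := Int.ofNat_le.2 (meeting_bound a hF0 hsec)
  push_cast [Nat.cast_sub hFn] at hm
  set F : ℤ := ((Nat.card (MulAction.fixedBy α g) : ℕ) : ℤ)
  set n : ℤ := ((Fintype.card α : ℕ) : ℤ)
  set K : ℤ := ((Finset.univ.filter (IsConj g)).card : ℤ) with hKdef
  set T : ℤ := (d : ℤ) * F ^ 2 + (n - F) ^ 2
  have hK : (0 : ℤ) < K ^ 2 := by
    have : (0 : ℤ) < K := by
      rw [hKdef]
      exact_mod_cast Finset.card_pos.2 ⟨g, Finset.mem_filter.2 ⟨Finset.mem_univ _, IsConj.refl g⟩⟩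
    positivity
  have hB : (0 : ℤ) ≤ 2 * p * b * ((b : ℤ) - 1) := mul_nonneg (by positivity) (by omega)
  have hT : (0 : ℤ) ≤ T := by positivity
  refine le_of_mul_le_mul_right ?_ hK
  have e1 := mul_le_mul_of_nonneg_right e hT
  have e2 := mul_le_mul_of_nonneg_left hm hB
  linarith

/-- An involution inverting the Sylow subgroup moves a point. -/
theorem exists_moved [FaithfulSMul G α] {w : G} (hw : w ≠ 1) : ∃ a : α, w • a ≠ a := by
  by_contra hc
  push Not at hc
  exact hw (FaithfulSMul.eq_of_smul_eq_smul fun a : α => by rw [one_smul, hc])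

end Cfsg.Lib.PermGroups.DegreeThriceP
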