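import Cfsg.Agent.PermGroups.DegreeThriceP.Exc
import Cfsg.Agent.Chars.Sums
import Cfsg.Agent.Chars.Count

/-!
# Counting with the exceptional characters

* a nonidentity element fixes many points when the order is large;
* the order formula from an involution inverting the Sylow subgroup;
* two conjugate elements with a common fixed point have a quotient outside the Sylow subgroups.
-/

set_option autoImplicit false
set_option linter.unusedSectionVars false
set_option maxHeartbeats 1000000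

namespace Cfsg.Lib.PermGroups.PrimeExceptional.Setting

open Cfsg.Lib.Chars
open scoped ComplexConjugate _root_.Classical

universe u v

variable {G : Type u} [Group G] [Fintype G] {p : ℕ} [Fact p.Prime] {h : Setting G p}
  {b : ℕ} {θ : Cfsg.IrrCharacter G} {μ : ZMod p → Cfsg.IrrCharacter G}

theorem sum_E_P (h : Setting G p) {k : ZMod p} (hk : k ≠ 0) : ∑ y : h.P, h.E k y = 0 := by
  have e := h.classInner_E k 0
  rw [classInner_def, if_neg hk, h.card_P, mul_eq_zero] at e
  have hp0 : (p : ℂ)⁻¹ ≠ 0 := inv_ne_zero (by exact_mod_cast (Fact.out : p.Prime).ne_zero)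
  rw [← e.resolve_left hp0]
  exact Finset.sum_congr rfl fun y _ => by rw [E_zero, map_one, mul_one]

theorem not_sing_of_sq (h : Setting G p) {g : G} (hg : g * g = 1) : ¬h.Sing g := by
  rintro ⟨h1, x, hx⟩
  refine h.mul_self_ne_one hx (fun e => h1 ((conj_eq_one_iff (a := x⁻¹) (b := g)).1 (by rwa [inv_inv]))) ?_
  rw [show x⁻¹ * g * x * (x⁻¹ * g * x) = x⁻¹ * (g * g) * x from by group, hg]; group

theorem not_sing_inv (h : Setting G p) {g : G} (hg : ¬h.Sing g) : ¬h.Sing g⁻¹ := by
  rintro ⟨h1, x, hx⟩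
  refine hg ⟨fun e => h1 (by rw [e, inv_one]), x, ?_⟩
  have := inv_mem hx
  simpa [mul_inv_rev, mul_assoc] using this

/-- A sum over the irreducible characters at an element of the Sylow subgroup. -/
theorem Exc.sum_irr_P (hx : h.Exc b θ μ) (A : Cfsg.IrrCharacter G → ℂ) (a : ℂ)
    (ha : ∀ l, l ≠ 0 → A (μ l) = a) {y : h.P} (hy : (y : G) ≠ 1) :
    ∑ χ : Cfsg.IrrCharacter G, A χ * conj ((χ : G → ℂ) y) = A (principal G) - A θ + a := by
  have hy' : y ≠ 1 := fun e => hy (by rw [e, OneMemClass.coe_one])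
  let D : Finset (ZMod p) := Finset.univ.erase 0
  have hD : ∀ l ∈ D, l ≠ 0 := fun l hl => (Finset.mem_erase.1 hl).1
  let T : Finset (Cfsg.IrrCharacter G) := D.image μ
  let F : Cfsg.IrrCharacter G → ℂ := fun χ => A χ * conj ((χ : G → ℂ) y)
  have hθT : θ ∉ T := fun e => by
    obtain ⟨l, hl, e'⟩ := Finset.mem_image.1 e
    exact (hx.μ_ne l (hD l hl)).1 e'
  have h1T : principal G ∉ insert θ T := fun e => by
    rcases Finset.mem_insert.1 e with e | e
    · exact hx.θ_ne e.symm
    · obtain ⟨l, hl, e'⟩ := Finset.mem_image.1 e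
      exact (hx.μ_ne l (hD l hl)).2 e'
  have hcomp : ∑ l ∈ D, F (μ l) = ∑ χ ∈ T, (D.filter fun l => μ l = χ).card • F χ := Finset.sum_comp F μ
  have hcard : ∀ χ ∈ T, (D.filter fun l => μ l = χ).card = 2 := by
    intro χ hχ
    obtain ⟨l, hl, rfl⟩ := Finset.mem_image.1 hχ
    have hl0 := hD l hl
    rw [← Finset.card_pair (h.neg_ne hl0).symm]
    congr 1
    ext k
    simp only [Finset.mem_filter, D, Finset.mem_erase, Finset.mem_univ, and_true, Finset.mem_insert,
      Finset.mem_singleton]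
    constructor
    · exact fun e => hx.inj k l e.1 hl0 e.2
    · rintro (rfl | rfl)
      · exact ⟨hl0, rfl⟩
      · exact ⟨neg_ne_zero.2 hl0, hx.symm l hl0⟩
  have hval : ∀ l ∈ D, F (μ l) = a * -(h.E (-l) y + h.E l y) := fun l hl => by
    simp only [F]
    rw [ha l (hD l hl), hx.μ_P l (hD l hl) y hy, map_neg, map_add, conj_E, conj_E, neg_neg]
  have hs1 : ∑ l ∈ D, h.E l y = -1 := by
    have e := Finset.add_sum_erase Finset.univ (fun k => h.E k y) (Finset.mem_univ (0 : ZMod p))
    rw [h.sum_E y, if_neg hy', h.E_zero] at e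
    linear_combination e
  have hs2 : ∑ l ∈ D, h.E (-l) y = -1 := by
    rw [← hs1]
    refine Finset.sum_bij' (fun l _ => -l) (fun l _ => -l) ?_ ?_ ?_ ?_ ?_ <;>
      intros <;> simp_all [D]
  have htot : ∑ l ∈ D, F (μ l) = 2 * a := by
    rw [Finset.sum_congr rfl hval, ← Finset.mul_sum, Finset.sum_neg_distrib, Finset.sum_add_distrib, hs1, hs2]
    ring
  have hT : ∑ χ ∈ T, F χ = a := by
    rw [hcomp, Finset.sum_congr rfl (fun χ hχ => by rw [hcard χ hχ] :
      ∀ χ ∈ T, (D.filter fun l => μ l = χ).card • F χ = 2 • F χ), ← Finset.smul_sum, nsmul_eq_mul] at htot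
    exact mul_left_cancel₀ two_ne_zero (by exact_mod_cast htot)
  show ∑ χ, F χ = _
  rw [← Finset.sum_subset (Finset.subset_univ (insert (principal G) (insert θ T))) (fun χ _ hχ => by
    simp only [Finset.mem_insert, not_or] at hχ
    simp only [F]
    rw [hx.vanish χ hχ.1 hχ.2.1 (fun l hl e => hχ.2.2 (Finset.mem_image.2
      ⟨l, Finset.mem_erase.2 ⟨hl, Finset.mem_univ _⟩, e.symm⟩)) y hy, map_zero, mul_zero]),
    Finset.sum_insert h1T, Finset.sum_insert hθT, hT]
  simp only [F]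
  rw [hx.θ_P y hy, show ((principal G : Cfsg.IrrCharacter G) : G → ℂ) y = 1 from rfl, map_one, map_neg, map_one]
  ring

/-- Many fixed points. -/
theorem Exc.exists_fixed (hx : h.Exc b θ μ) (α : Type v) [MulAction G α] [Finite α]
    [MulAction.IsPretransitive G α] (hα : Nat.card α = 3 * p) (hfree : ∀ a : α, h.t • a ≠ a)
    (hμπ : Cfsg.classInner (permChar G α) (μ 1 : G → ℂ) = 0)
    {n : G → ℤ} (hn : ∀ g, (θ : G → ℂ) g = n g) {M : ℕ}
    (hM : (p : ℤ) * b * ((b : ℤ) - 1) * (3 * (p : ℤ) - M) < (Nat.card G : ℤ) * ((p : ℤ) - M)) :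
    ∃ g : G, g ≠ 1 ∧ ¬h.Sing g ∧ M < Nat.card (MulAction.fixedBy α g) := by
  by_contra hcon
  push Not at hcon
  have h10 : (1 : ZMod p) ≠ 0 := one_ne_zero
  have hp := (Fact.out : p.Prime)
  have hne : Nonempty α := (Nat.card_pos_iff.1 (by rw [hα]; have := hp.pos; omega)).1
  set Mu : G → ℂ := (μ 1 : G → ℂ) with hMu
  set S := Finset.univ.filter (fun g => ¬h.Sing g) with hS
  have hMuc := isClassFunction_irr (μ 1)
  have hπc : Cfsg.IsClassFunction G (permChar G α) := isClassFunction_isChar (isCharacter_permChar α)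
  have hreal : ∀ g, conj (Mu g) = Mu g := by
    intro g
    by_cases hg : h.Sing g
    · obtain ⟨h1, x, hx'⟩ := hg
      have e := hMuc g x⁻¹
      rw [inv_inv] at e
      have hne1 : x⁻¹ * g * x ≠ 1 := fun e => h1 ((conj_eq_one_iff (a := x⁻¹) (b := g)).1 (by rwa [inv_inv]))
      have e2 := hx.μ_P 1 h10 ⟨_, hx'⟩ hne1
      rw [hMu, ← e, e2]
      simp only [map_neg, map_add, conj_E, neg_neg]
      ring
    · rw [hMu, hx.μ_ns 1 h10 g hg, hn, map_sub, map_one, map_intCast]
  let w : G → ℤ := fun g => (n g - 1) * (n g - 1) + (n g - 1)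
  have hw : ∀ g ∈ S, Mu g * conj (Mu g) + Mu g = (w g : ℂ) := fun g hg => by
    rw [hreal, hMu, hx.μ_ns 1 h10 g (Finset.mem_filter.1 hg).2, hn]
    simp only [w]
    push_cast
    ring
  have hw0 : ∀ g, 0 ≤ w g := fun g => by
    simp only [w]
    rcases le_or_gt 1 (n g) with h' | h'
    · nlinarith
    · nlinarith
  have hL : (Nat.card G : ℂ) ≠ 0 := by exact_mod_cast Nat.card_pos.ne'
  have hsum1 : ∑ g : G, (Mu g * conj (Mu g) + Mu g) = (Nat.card G : ℂ) := by
    have e1 := classInner_irr_self (μ 1)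
    have e2 := classInner_irr_ne (hx.μ_ne 1 h10).2
    rw [classInner_def, inv_mul_eq_iff_eq_mul₀ hL, mul_one] at e1
    rw [classInner_def, inv_mul_eq_iff_eq_mul₀ hL, mul_zero] at e2
    have e3 : ∑ g : G, Mu g = 0 := by
      rw [← e2]
      exact Finset.sum_congr rfl fun g _ => by simp [Mu, principal]
    rw [Finset.sum_add_distrib, e1, e3, add_zero]
  -- the total weight
  have hI1 : (p : ℤ) * ∑ g ∈ S, w g = Nat.card G := by
    let F : G → ℂ := fun g => Mu g * conj (Mu g) + Mu g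
    have hF : Cfsg.IsClassFunction G F := fun a c => by simp only [F, Mu, hMuc a c]
    have hy : ∀ y : h.P, y ≠ 1 → F y = 2 + h.E (1 + 1) y + h.E (-(1 + 1)) y - h.E 1 y - h.E (-1) y :=
      fun y hy1 => by
        have h1 : (y : G) ≠ 1 := fun e => hy1 (Subtype.ext e)
        simp only [F, Mu, hx.μ_P 1 h10 y h1, map_neg, map_add, conj_E, neg_neg]
        rw [show (-(1 + 1) : ZMod p) = -1 + -1 from neg_add 1 1, ← h.E_mul 1 1, ← h.E_mul (-1) (-1)]
        have hu : h.E 1 y * h.E (-1) y = 1 := by rw [h.E_mul, add_neg_cancel, E_zero]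
        linear_combination 2 * hu
    have h2 : (1 + 1 : ZMod p) ≠ 0 := fun e => h.neg_ne h10 (eq_neg_of_add_eq_zero_left e).symm
    have hsumP : ∑ y : h.P, F y - F 1 = 2 * (p : ℂ) - 2 := by
      rw [← Finset.add_sum_erase Finset.univ (fun y : h.P => F y) (Finset.mem_univ 1), OneMemClass.coe_one,
        add_sub_cancel_left, Finset.sum_congr rfl fun y hy' => hy y (Finset.mem_erase.1 hy').1,
        Finset.sum_erase_eq_sub (Finset.mem_univ 1)]
      simp only [Finset.sum_add_distrib, Finset.sum_sub_distrib, h.sum_E_P h10, h.sum_E_P h2,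
        h.sum_E_P (neg_ne_zero.2 h2), h.sum_E_P (neg_ne_zero.2 h10), Finset.sum_const, Finset.card_univ,
        nsmul_eq_mul, map_one, ← Nat.card_eq_fintype_card, h.card_P]
      ring
    have e := h.sum_nonsing hF
    rw [show ∑ g : G, F g = (Nat.card G : ℂ) from hsum1, hsumP, Finset.sum_congr rfl hw] at e
    apply Int.cast_injective (α := ℂ)
    push_cast
    rw [e]
    have : (p : ℂ) ≠ 0 := by exact_mod_cast hp.ne_zero
    field_simp
    ring
  -- the weighted fixed points
  have hI2 : (Nat.card G : ℤ) ≤ ∑ g ∈ S, w g * (Nat.card (MulAction.fixedBy α g) : ℤ) := by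
    let F : G → ℂ := fun g => (Mu g * conj (Mu g) + Mu g) * permChar G α g
    have hF : Cfsg.IsClassFunction G F := fun a c => by simp only [F, Mu, hMuc a c, hπc a c]
    have hP0 : ∑ y : h.P, F y - F 1 = 0 := by
      rw [← Finset.add_sum_erase Finset.univ (fun y : h.P => F y) (Finset.mem_univ 1), OneMemClass.coe_one,
        add_sub_cancel_left]
      refine Finset.sum_eq_zero fun y hy => ?_
      simp only [F]
      rw [h.permChar_mem α hfree y.2 (fun e => (Finset.mem_erase.1 hy).1 (Subtype.ext e)), mul_zero]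
    have hsq : Cfsg.IsCharacter G (Mu * Mu) :=
      IsCharacter.mul (isCharacter_of_irr (μ 1).2) (isCharacter_of_irr (μ 1).2)
    obtain ⟨m, hm⟩ := IsCharacter.exists_decomp (isCharacter_permChar (G := G) α)
    choose W hW using fun χ : Cfsg.IrrCharacter G => IsCharacter.exists_mult hsq χ.2
    have hm' : permChar G α = ∑ χ : Cfsg.IrrCharacter G, (m χ : ℂ) • (χ : G → ℂ) :=
      hm.trans (Finset.sum_congr rfl fun χ _ => (Nat.cast_smul_eq_nsmul ℂ _ _).symm)
    have hm1 : m (principal G) = 1 := by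
      have e := classInner_irrSum (fun χ => (m χ : ℂ)) (principal G)
      rw [← hm', show (principal G : G → ℂ) = fun _ => (1 : ℂ) from rfl, classInner_perm_one α hne] at e
      exact_mod_cast e.symm
    have hW1 : W (principal G) = 1 := by
      have e := classInner_irr_self (μ 1)
      rw [classInner_def] at e
      have e2 := hW (principal G)
      rw [classInner_def] at e2
      have : ((W (principal G) : ℕ) : ℂ) = ((1 : ℕ) : ℂ) := by
        rw [← e2, Nat.cast_one, ← e]
        congr 1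
        refine Finset.sum_congr rfl fun g _ => ?_
        rw [show ((principal G : Cfsg.IrrCharacter G) : G → ℂ) g = 1 from rfl, map_one, mul_one, hreal]
        rfl
      exact_mod_cast this
    have hge : 1 ≤ ∑ χ, m χ * W χ := le_trans (by rw [hm1, hW1])
      (Finset.single_le_sum (f := fun χ => m χ * W χ) (fun _ _ => Nat.zero_le _) (Finset.mem_univ (principal G)))
    have e1 : ∑ g : G, Mu g * conj (Mu g) * permChar G α g = (Nat.card G : ℂ) * ((∑ χ, m χ * W χ : ℕ) : ℂ) := by
      have e : Cfsg.classInner (Mu * Mu) (permChar G α) = ((∑ χ, m χ * W χ : ℕ) : ℂ) := by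
        rw [hm', classInner_sum_right]
        push_cast
        exact Finset.sum_congr rfl fun χ _ => by rw [classInner_smul_right, map_natCast, hW χ]
      rw [classInner_def, inv_mul_eq_iff_eq_mul₀ hL] at e
      rw [← e]
      refine Finset.sum_congr rfl fun g _ => ?_
      simp only [Pi.mul_apply, hreal, permChar, map_natCast]
    have e2 : ∑ g : G, Mu g * permChar G α g = 0 := by
      have e := hμπ
      rw [classInner_def, inv_mul_eq_iff_eq_mul₀ hL, mul_zero] at e
      rw [← e]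
      exact Finset.sum_congr rfl fun g _ => by rw [hreal, mul_comm]
    have e := h.sum_nonsing hF
    rw [hP0, mul_zero, sub_zero, show ∑ g : G, F g = (Nat.card G : ℂ) * ((∑ χ, m χ * W χ : ℕ) : ℂ) by
      simp only [F, add_mul, Finset.sum_add_distrib, e1, e2, add_zero]] at e
    have e' : ∑ g ∈ S, w g * (Nat.card (MulAction.fixedBy α g) : ℤ) =
        (Nat.card G : ℤ) * ((∑ χ, m χ * W χ : ℕ) : ℤ) := by
      apply Int.cast_injective (α := ℂ)
      push_cast
      push_cast at e
      rw [← e]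
      refine Finset.sum_congr rfl fun g hg => ?_
      simp only [F]
      rw [hw g hg, permChar]
    rw [e']
    have : (1 : ℤ) ≤ ((∑ χ, m χ * W χ : ℕ) : ℤ) := by exact_mod_cast hge
    nlinarith
  have h1S : (1 : G) ∈ S := Finset.mem_filter.2 ⟨Finset.mem_univ _, fun e => e.1 rfl⟩
  have hn1 : n 1 = b := by
    have e := hn 1
    rw [hx.θ_one] at e
    exact_mod_cast e.symm
  rw [← Finset.add_sum_erase S w h1S] at hI1
  rw [← Finset.add_sum_erase S (fun g => w g * (Nat.card (MulAction.fixedBy α g) : ℤ)) h1S,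
    MulAction.fixedBy_one_eq_univ, Nat.card_congr (Equiv.Set.univ α), hα] at hI2
  have hbound : ∑ g ∈ S.erase 1, w g * (Nat.card (MulAction.fixedBy α g) : ℤ) ≤
      (M : ℤ) * ∑ g ∈ S.erase 1, w g := by
    rw [Finset.mul_sum]
    refine Finset.sum_le_sum fun g hg => ?_
    obtain ⟨hg1, hgS⟩ := Finset.mem_erase.1 hg
    rw [mul_comm (M : ℤ)]
    exact mul_le_mul_of_nonneg_left (by exact_mod_cast hcon g hg1 (Finset.mem_filter.1 hgS).2) (hw0 g)
  have hw1 : w 1 = (b : ℤ) * ((b : ℤ) - 1) := by simp only [w, hn1]; ring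
  rw [hw1] at hI1 hI2
  push_cast at hI2
  have hp0 : (0 : ℤ) ≤ p := by positivity
  have hprod := mul_le_mul_of_nonneg_left (hI2.trans (add_le_add_right hbound _)) hp0
  nlinarith [hprod, hI1]

/-- Elements of the Sylow subgroup and involutions inverting it. -/
theorem conj_of_inverter (h : Setting G p) {w u : G} (hwN : w ∈ h.N) (hwP : w ∉ h.P) (huN : u ∈ h.N)
    (huP : u ∉ h.P) : u * u = 1 ∧ IsConj w u := by
  have hsqr : ∀ x, x ∈ h.N → x ∉ h.P → x * x = 1 := fun x hx hxP => by
    have hle : h.P ≤ h.N := Subgroup.le_normalizer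
    have hidx : (h.P.subgroupOf h.N).index = 2 := by
      have h1 := (h.P.subgroupOf h.N).card_mul_index
      rw [Nat.card_congr (Subgroup.subgroupOfEquivOfLe hle).toEquiv, h.card_P,
        show Nat.card h.N = 2 * p from h.normCard, mul_comm 2 p] at h1
      exact Nat.eq_of_mul_eq_mul_left (Fact.out : p.Prime).pos h1
    have hsq : x * x ∈ h.P := by
      have := Subgroup.sq_mem_of_index_two hidx (⟨x, hx⟩ : h.N)
      rw [Subgroup.mem_subgroupOf, pow_two] at this
      exact this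
    by_contra hne
    exact hxP (h.mem_of_commute hsq hne (by show x * (x * x) = x * x * x; rw [mul_assoc]))
  refine ⟨hsqr u huN huP, ?_⟩
  have hle : h.P ≤ h.N := Subgroup.le_normalizer
  have hidx : (h.P.subgroupOf h.N).index = 2 := by
    have h1 := (h.P.subgroupOf h.N).card_mul_index
    rw [Nat.card_congr (Subgroup.subgroupOfEquivOfLe hle).toEquiv, h.card_P,
      show Nat.card h.N = 2 * p from h.normCard, mul_comm 2 p] at h1
    exact Nat.eq_of_mul_eq_mul_left (Fact.out : p.Prime).pos h1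
  have hy : w * u ∈ h.P := by
    have := (Subgroup.mul_mem_iff_of_index_two hidx (a := (⟨w, hwN⟩ : h.N)) (b := ⟨u, huN⟩)).2
      (by simp [Subgroup.mem_subgroupOf, hwP, huP])
    rw [Subgroup.mem_subgroupOf] at this
    exact this
  obtain ⟨k, hk⟩ := hy
  replace hk : h.t ^ k = w * u := hk
  obtain ⟨j, hj⟩ : ∃ j : ℤ, h.t ^ (-(j + j)) = h.t ^ k := by
    obtain ⟨q, hq⟩ := (Fact.out : p.Prime).odd_of_ne_two (by have := h.odd; omega)
    refine ⟨(q : ℤ) * k, ?_⟩
    have e : -((q : ℤ) * k + (q : ℤ) * k) = k + (p : ℤ) * (-k) := by rw [hq]; push_cast; ring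
    have hpow : h.t ^ p = 1 := orderOf_dvd_iff_pow_eq_one.1 (by rw [h.order])
    rw [e, zpow_add, zpow_mul, zpow_natCast, hpow, one_zpow, mul_one]
  refine isConj_iff.2 ⟨h.t ^ j, ?_⟩
  have hww := hsqr w hwN hwP
  have hinv := h.conj_eq_inv hwN hwP (zpow_mem (Subgroup.mem_zpowers h.t) j)
  have hwi : w⁻¹ = w := inv_eq_of_mul_eq_one_right hww
  calc h.t ^ j * w * (h.t ^ j)⁻¹ = w * (w⁻¹ * h.t ^ j * w) * (h.t ^ j)⁻¹ := by group
    _ = w * (w * h.t ^ j * w⁻¹) * (h.t ^ j)⁻¹ := by rw [hwi]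
    _ = w * h.t ^ (-(j + j)) := by rw [hinv]; group
    _ = u := by rw [hj, hk, ← mul_assoc, hww, one_mul]

/-- The order formula. -/
theorem Exc.order_formula (hx : h.Exc b θ μ) (hb : 1 < b) {w : G} (hwN : w ∈ h.N) (hwP : w ∉ h.P)
    {R : ℤ} (hR : (θ : G → ℂ) w = R) :
    (Nat.card G : ℤ) * ((b : ℤ) - R) ^ 2 =
      p * (Nat.card (Subgroup.centralizer ({w} : Set G)) : ℤ) ^ 2 * b * ((b : ℤ) - 1) := by
  have hp := (Fact.out : p.Prime)
  have hww := (conj_of_inverter h hwN hwP hwN hwP).1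
  have hwns := h.not_sing_of_sq hww
  have ht1 : h.t ≠ 1 := fun e => by
    have := h.order; rw [e, orderOf_one] at this; have := hp.two_le; omega
  have hiff : ∀ u : G, (IsConj w u ∧ IsConj w (u⁻¹ * h.t)) ↔ (u ∈ h.N ∧ u ∉ h.P) := by
    have hsq : ∀ u, IsConj w u → u * u = 1 := fun u hu => by
      obtain ⟨g, rfl⟩ := isConj_iff.1 hu
      calc g * w * g⁻¹ * (g * w * g⁻¹) = g * (w * w) * g⁻¹ := by group
        _ = 1 := by rw [hww]; group
    intro u
    constructor
    · rintro ⟨hu, hv⟩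
      have h1 := hsq u hu
      have h2 := hsq _ hv
      have hui : u⁻¹ = u := inv_eq_of_mul_eq_one_right h1
      have hinv : u * h.t * u⁻¹ = h.t⁻¹ := by
        rw [hui] at h2 ⊢
        refine eq_inv_of_mul_eq_one_left ?_
        simpa [mul_assoc] using h2
      refine ⟨h.mem_N (Subgroup.mem_zpowers _) ht1 (by rw [hinv]; exact inv_mem (Subgroup.mem_zpowers _)),
        fun huP => ?_⟩
      have := h.conj_of_mem huP (Subgroup.mem_zpowers h.t)
      rw [hinv] at this
      exact h.mul_self_ne_one (Subgroup.mem_zpowers h.t) ht1 (by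
        calc h.t * h.t = h.t⁻¹ * h.t := by rw [this]
          _ = 1 := inv_mul_cancel _)
    · rintro ⟨huN, huP⟩
      refine ⟨(conj_of_inverter h hwN hwP huN huP).2, (conj_of_inverter h hwN hwP
        (mul_mem (inv_mem huN) (Subgroup.le_normalizer (Subgroup.mem_zpowers _))) fun e => huP ?_).2⟩
      exact inv_mem_iff.1 ((Subgroup.mul_mem_cancel_right _ (Subgroup.mem_zpowers h.t)).1 e)
  have hcount : Nat.card {q : G × G // IsConj w q.1 ∧ IsConj w q.2 ∧ q.1 * q.2 = h.t} = p := by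
    rw [Nat.card_congr (show {q : G × G // IsConj w q.1 ∧ IsConj w q.2 ∧ q.1 * q.2 = h.t} ≃
        {u : G // u ∈ h.N ∧ u ∉ h.P} from
      { toFun := fun q => ⟨q.1.1, (hiff _).1 ⟨q.2.1, (inv_mul_eq_iff_eq_mul.2 q.2.2.2.symm :
          q.1.1⁻¹ * h.t = q.1.2).symm ▸ q.2.2.1⟩⟩
        invFun := fun u => ⟨(u.1, u.1⁻¹ * h.t), ((hiff _).2 u.2).1, ((hiff _).2 u.2).2, mul_inv_cancel_left _ _⟩
        left_inv := fun q => Subtype.ext (Prod.ext rfl (inv_mul_eq_iff_eq_mul.2 q.2.2.2.symm :
          q.1.1⁻¹ * h.t = q.1.2))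
        right_inv := fun u => rfl }), Nat.card_eq_fintype_card, Fintype.card_subtype]
    have hle : Finset.univ.filter (fun u => u ∈ h.P) ⊆ Finset.univ.filter (fun u => u ∈ h.N) := fun u hu =>
      Finset.mem_filter.2 ⟨Finset.mem_univ _, Subgroup.le_normalizer (Finset.mem_filter.1 hu).2⟩
    rw [show Finset.univ.filter (fun u => u ∈ h.N ∧ u ∉ h.P) =
        Finset.univ.filter (fun u => u ∈ h.N) \ Finset.univ.filter (fun u => u ∈ h.P) by ext u; simp,
      Finset.card_sdiff_of_subset hle, ← Fintype.card_subtype, ← Fintype.card_subtype,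
      ← Nat.card_eq_fintype_card, ← Nat.card_eq_fintype_card]
    have e1 : Nat.card {u // u ∈ h.N} = 2 * p := h.normCard
    have e2 : Nat.card {u // u ∈ h.P} = p := h.card_P
    omega
  have e := class_mult_formula w w h.t
  rw [hcount] at e
  have hsum := hx.sum_irr_P (fun χ => (χ : G → ℂ) w * (χ : G → ℂ) w / (χ : G → ℂ) 1)
    (((R : ℂ) - 1) * ((R : ℂ) - 1) / ((b : ℂ) - 1)) (fun l hl => by rw [hx.μ_ns l hl w hwns, hR, hx.μ_one hl])
    (y := ⟨h.t, Subgroup.mem_zpowers _⟩) ht1
  have hsum' : ∑ χ : Cfsg.IrrCharacter G,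
      (χ : G → ℂ) w * (χ : G → ℂ) w * conj ((χ : G → ℂ) h.t) / (χ : G → ℂ) 1 =
      1 - (R : ℂ) * R / b + ((R : ℂ) - 1) * ((R : ℂ) - 1) / ((b : ℂ) - 1) := by
    rw [hR, hx.θ_one, show ((principal G : Cfsg.IrrCharacter G) : G → ℂ) = fun _ => (1 : ℂ) from rfl,
      one_mul, div_one] at hsum
    rw [← hsum]
    exact Finset.sum_congr rfl fun χ _ => by ring
  rw [hsum'] at e
  have hK := card_isConj_mul w
  set K := Nat.card {x : G // IsConj w x}
  set c := Nat.card (Subgroup.centralizer ({w} : Set G))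
  have hc0 : (c : ℂ) ≠ 0 := by exact_mod_cast Nat.card_pos.ne'
  have hb0 : (b : ℂ) ≠ 0 := by exact_mod_cast (by omega : b ≠ 0)
  have hf0 : (b : ℂ) - 1 ≠ 0 := by
    rw [sub_ne_zero]; exact_mod_cast (by omega : b ≠ 1)
  have hL : (Nat.card G : ℂ) ≠ 0 := by exact_mod_cast Nat.card_pos.ne'
  have hK' : (K : ℂ) * c = Nat.card G := by exact_mod_cast hK
  apply Int.cast_injective (α := ℂ)
  push_cast
  field_simp at e
  rw [← hK'] at e hL ⊢
  have hK0 : (K : ℂ) ≠ 0 := left_ne_zero_of_mul hL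
  refine mul_left_cancel₀ hK0 ?_
  linear_combination -(c : ℂ) * e

/-- The value of the nonexceptional character on an involution inverting the Sylow subgroup. -/
theorem Exc.inverter_value (hx : h.Exc b θ μ) {a : ℕ} (ha : b = p * a + (p - 1)) {w : G} (hwN : w ∈ h.N)
    (hwP : w ∉ h.P) {R : ℤ} (hR : (θ : G → ℂ) w = R) : ∃ j : ℕ, j ≤ a ∧ R = 2 * (j : ℤ) - a := by
  have hp := (Fact.out : p.Prime)
  have hle : h.P ≤ h.N := Subgroup.le_normalizer
  have hidx : (h.P.subgroupOf h.N).index = 2 := by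
    have h1 := (h.P.subgroupOf h.N).card_mul_index
    rw [Nat.card_congr (Subgroup.subgroupOfEquivOfLe hle).toEquiv, h.card_P,
      show Nat.card h.N = 2 * p from h.normCard, mul_comm 2 p] at h1
    exact Nat.eq_of_mul_eq_mul_left hp.pos h1
  let s : h.N →* ℂˣ :=
    { toFun := fun x => if (x : G) ∈ h.P then 1 else -1
      map_one' := if_pos (one_mem _)
      map_mul' := fun x y => by
        have hm := Subgroup.mul_mem_iff_of_index_two hidx (a := x) (b := y)
        simp only [Subgroup.mem_subgroupOf] at hm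
        by_cases h1 : (x : G) ∈ h.P <;> by_cases h2 : (y : G) ∈ h.P <;>
          simp_all [Subgroup.coe_mul] }
  have hres := IsCharacter.restrict (isCharacter_of_irr θ.2) h.N
  obtain ⟨j, hj⟩ := IsCharacter.exists_mult hres isIrrCharacter_one
  obtain ⟨j', hj'⟩ := IsCharacter.exists_mult hres (isIrrCharacter_linear s)
  have hval : ∀ x : h.N, (x : G) ∉ h.P → (θ : G → ℂ) x = R := fun x hxP => by
    obtain ⟨g, hg⟩ := isConj_iff.1 (conj_of_inverter h hwN hwP x.2 hxP).2
    rw [← hR, ← hg]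
    exact isClassFunction_irr θ _ _
  have hcard : ((Finset.univ : Finset h.N).filter fun x : h.N => (x : G) ∈ h.P).card = p := by
    rw [← Fintype.card_subtype, ← Nat.card_eq_fintype_card]
    exact (Nat.card_congr (Subgroup.subgroupOfEquivOfLe hle).toEquiv).trans h.card_P
  have hcard' : ((Finset.univ : Finset h.N).filter fun x : h.N => (x : G) ∉ h.P).card = p := by
    have := Finset.card_filter_add_card_filter_not (s := (Finset.univ : Finset h.N)) (fun x => (x : G) ∈ h.P)
    rw [hcard, Finset.card_univ, ← Nat.card_eq_fintype_card, show Nat.card h.N = 2 * p from h.normCard] at this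
    omega
  have hsum : ∀ e : ℂ, ∑ x : h.N, (θ : G → ℂ) x * (if (x : G) ∈ h.P then 1 else e) =
      (b : ℂ) - ((p : ℂ) - 1) + p * R * e := fun e => by
    rw [← Finset.sum_filter_add_sum_filter_not Finset.univ (fun x : h.N => (x : G) ∈ h.P)]
    congr 1
    · rw [Finset.sum_congr rfl fun (x : h.N) hx' => (by
        rw [if_pos (Finset.mem_filter.1 hx').2, mul_one] : (θ : G → ℂ) x * (if (x : G) ∈ h.P then 1 else e) =
          (θ : G → ℂ) x),
        ← Finset.add_sum_erase _ _ (Finset.mem_filter.2 ⟨Finset.mem_univ (1 : h.N), one_mem h.P⟩),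
        OneMemClass.coe_one, hx.θ_one, Finset.sum_congr rfl fun (x : h.N) hx' => (by
          exact hx.θ_P ⟨x, (Finset.mem_filter.1 (Finset.mem_erase.1 hx').2).2⟩ fun e' =>
            (Finset.mem_erase.1 hx').1 (Subtype.ext e') : (θ : G → ℂ) x = -1),
        Finset.sum_const, Finset.card_erase_of_mem (Finset.mem_filter.2 ⟨Finset.mem_univ (1 : h.N), one_mem h.P⟩),
        hcard, nsmul_eq_mul, Nat.cast_sub hp.one_le]
      push_cast
      ring
    · rw [Finset.sum_congr rfl fun (x : h.N) hx' => (by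
        rw [if_neg (Finset.mem_filter.1 hx').2, hval x (Finset.mem_filter.1 hx').2] :
          (θ : G → ℂ) x * (if (x : G) ∈ h.P then 1 else e) = R * e),
        Finset.sum_const, hcard', nsmul_eq_mul]
      ring
  rw [classInner_def, show Nat.card h.N = 2 * p from h.normCard] at hj hj'
  have hp0 : ((2 * p : ℕ) : ℂ) ≠ 0 := by exact_mod_cast (by have := hp.pos; omega : 2 * p ≠ 0)
  rw [inv_mul_eq_iff_eq_mul₀ hp0] at hj hj'
  have e1 : (b : ℂ) - ((p : ℂ) - 1) + p * R * 1 = ((2 * p : ℕ) : ℂ) * j := by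
    rw [← hj, ← hsum 1]
    exact Finset.sum_congr rfl fun x _ => by simp
  have e2 : (b : ℂ) - ((p : ℂ) - 1) + p * R * (-1) = ((2 * p : ℕ) : ℂ) * j' := by
    rw [← hj', ← hsum (-1)]
    refine Finset.sum_congr rfl fun x _ => ?_
    by_cases hxP : (x : G) ∈ h.P <;> simp [s, hxP]
  have f1 : (b : ℤ) - ((p : ℤ) - 1) + p * R = 2 * p * j := by
    apply Int.cast_injective (α := ℂ)
    push_cast at e1 ⊢
    linear_combination e1
  have f2 : (b : ℤ) - ((p : ℤ) - 1) - p * R = 2 * p * j' := by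
    apply Int.cast_injective (α := ℂ)
    push_cast at e2 ⊢
    linear_combination e2
  have hbZ : (b : ℤ) = p * a + ((p : ℤ) - 1) := by
    rw [ha, Nat.cast_add, Nat.cast_mul, Nat.cast_sub hp.one_le, Nat.cast_one]
  have hpZ : (p : ℤ) ≠ 0 := by exact_mod_cast hp.ne_zero
  have hjR : R = 2 * (j : ℤ) - a := mul_left_cancel₀ hpZ (by linear_combination f1 - hbZ)
  have hjR' : (a : ℤ) - R = 2 * (j' : ℤ) := mul_left_cancel₀ hpZ (by linear_combination f2 - hbZ)
  exact ⟨j, by omega, hjR⟩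

theorem not_dvd_centralizer (h : Setting G p) {w : G} (hwN : w ∈ h.N) (hwP : w ∉ h.P) :
    ¬p ∣ Nat.card (Subgroup.centralizer ({w} : Set G)) := by
  intro hd
  obtain ⟨⟨g, hg⟩, hord⟩ := exists_prime_orderOf_dvd_card' p hd
  have hgo : orderOf g = p := (Subgroup.orderOf_coe (⟨g, hg⟩ : Subgroup.centralizer ({w} : Set G))).trans hord
  have hp := (Fact.out : p.Prime)
  have hpG : ¬p * p ∣ Nat.card G := by
    intro hd2
    obtain ⟨Q, hQ⟩ := Sylow.exists_subgroup_card_pow_prime p (n := 2) (by rw [pow_two]; exact hd2)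
    obtain ⟨S, hS⟩ := IsPGroup.exists_le_sylow (IsPGroup.of_card hQ)
    have hPp : IsPGroup p h.P := IsPGroup.of_card (n := 1) (by rw [h.card_P, pow_one])
    obtain ⟨S', hS'⟩ := hPp.exists_le_sylow
    have hPS : (S' : Subgroup G) ≤ h.P := fun x hx' => by
      by_contra hxP
      have : Fact p.Prime := ⟨hp⟩
      have hnt : Nontrivial (S' : Subgroup G) :=
        ⟨⟨⟨x, hx'⟩, 1, fun e => hxP (by rw [show x = 1 from congrArg Subtype.val e]; exact one_mem _)⟩⟩
      have := S'.isPGroup'.center_nontrivial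
      obtain ⟨⟨z, hz⟩, hz1⟩ := exists_ne (1 : Subgroup.center (S' : Subgroup G))
      replace hz1 : z ≠ 1 := fun e => hz1 (Subtype.ext e)
      have ht1 : h.t ≠ 1 := fun e => by
        have := h.order; rw [e, orderOf_one] at this; have := hp.two_le; omega
      have hcomm : ∀ y : (S' : Subgroup G), Commute (y : G) (z : G) := fun y =>
        congrArg Subtype.val (Subgroup.mem_center_iff.1 hz y)
      have hzP : (z : G) ∈ h.P := h.cent z (hcomm ⟨h.t, hS' (Subgroup.mem_zpowers _)⟩).symm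
      exact hxP (h.mem_of_commute hzP (fun e => hz1 (Subtype.ext e)) (hcomm ⟨x, hx'⟩))
    have h1 := Subgroup.card_le_of_le hS
    have h2 := Subgroup.card_le_of_le hPS
    have h3 : Nat.card (S : Subgroup G) = Nat.card (S' : Subgroup G) := by
      rw [S.card_eq_multiplicity, S'.card_eq_multiplicity]
    rw [hQ, h3] at h1
    rw [h.card_P] at h2
    have := hp.two_le
    have : p * 2 ≤ p * p := Nat.mul_le_mul_left p hp.two_le
    rw [pow_two] at h1
    omega
  obtain ⟨Q, hQ⟩ := (IsPGroup.of_card (n := 1) (show Nat.card (Subgroup.zpowers g) = p ^ 1 by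
    rw [Nat.card_zpowers, hgo, pow_one])).exists_le_sylow
  obtain ⟨S', hS'⟩ := (IsPGroup.of_card (n := 1) (show Nat.card h.P = p ^ 1 by rw [h.card_P, pow_one])).exists_le_sylow
  have hPS : (S' : Subgroup G) = h.P := by
    refine (Subgroup.eq_of_le_of_card_ge hS' ?_).symm
    obtain ⟨k, hk⟩ := IsPGroup.iff_card.1 S'.isPGroup'
    rw [h.card_P, hk]
    rcases Nat.lt_or_ge k 2 with hlt | hge
    · interval_cases k
      · simpa using hp.one_le
      · rw [pow_one]
    · exact absurd ((Dvd.dvd.trans (by rw [← pow_two]; exact pow_dvd_pow p hge)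
        (hk ▸ Subgroup.card_subgroup_dvd_card _))) hpG
  obtain ⟨x, hx'⟩ := MulAction.exists_smul_eq G S' Q
  have hgQ : x⁻¹ * g * x ∈ h.P := by
    have hmem : g ∈ (x • S' : Sylow p G).toSubgroup := hx' ▸ hQ (Subgroup.mem_zpowers g)
    rw [Sylow.coe_subgroup_smul, Subgroup.mem_pointwise_smul_iff_inv_smul_mem, hPS] at hmem
    simpa [MulAut.smul_def, MulAut.conj_apply] using hmem
  have hg1 : g ≠ 1 := fun e => by rw [e, orderOf_one] at hgo; have := hp.two_le; omega
  have hcw : Commute g w := (Subgroup.mem_centralizer_singleton_iff.1 hg)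
  have hne : x⁻¹ * g * x ≠ 1 := fun e => hg1 ((conj_eq_one_iff (a := x⁻¹) (b := g)).1 (by rwa [inv_inv]))
  have hwx : x⁻¹ * w * x ∈ h.P := h.mem_of_commute hgQ hne (by
    show x⁻¹ * w * x * (x⁻¹ * g * x) = x⁻¹ * g * x * (x⁻¹ * w * x)
    calc x⁻¹ * w * x * (x⁻¹ * g * x) = x⁻¹ * (w * g) * x := by group
      _ = x⁻¹ * (g * w) * x := by rw [hcw.eq]
      _ = _ := by group)
  have hww := (conj_of_inverter h hwN hwP hwN hwP).1
  exact h.not_sing_of_sq hww ⟨fun e => hwP (e ▸ one_mem _), x, hwx⟩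

theorem two_dvd_centralizer (h : Setting G p) {w : G} (hwN : w ∈ h.N) (hwP : w ∉ h.P) :
    2 ∣ Nat.card (Subgroup.centralizer ({w} : Set G)) := by
  have hww := (conj_of_inverter h hwN hwP hwN hwP).1
  have ho : orderOf w = 2 := orderOf_eq_prime (by rw [pow_two]; exact hww) fun e => hwP (e ▸ one_mem _)
  have := Subgroup.orderOf_dvd_natCard (Subgroup.centralizer ({w} : Set G))
    (Subgroup.mem_centralizer_singleton_iff.2 rfl : w ∈ _)
  rwa [ho] at this

/-- A class of elements and the pairs with a common fixed point. -/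
theorem Exc.pair_count (hx : h.Exc b θ μ) (hb : 1 < b) (α : Type v) [MulAction G α] [Finite α]
    (hfree : ∀ a : α, h.t • a ≠ a) {g : G} (hg : ¬h.Sing g) {r : ℤ} (hr : (θ : G → ℂ) g = r) :
    ((p : ℤ) - 1) * ((b : ℤ) - r) ^ 2 * ((Finset.univ.filter (IsConj g)).card : ℤ) ^ 2 +
        2 * p * b * ((b : ℤ) - 1) *
          (((Finset.univ.filter (IsConj g) ×ˢ Finset.univ.filter (IsConj g)).filter
            fun q : G × G => ∃ a : α, q.1 • a = a ∧ q.2 • a = a).card : ℤ) ≤
      2 * p * b * ((b : ℤ) - 1) * ((Finset.univ.filter (IsConj g)).card : ℤ) ^ 2 := by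
  have hp := (Fact.out : p.Prime)
  set K := Finset.univ.filter (IsConj g) with hKdef
  let cnt : G → ℕ := fun s => ((K ×ˢ K).filter fun q : G × G => q.1 * q.2⁻¹ = s).card
  have hclass : ∀ x u : G, IsConj g (x * u * x⁻¹) ↔ IsConj g u := fun x u =>
    ⟨fun H => H.trans (isConj_iff.mpr ⟨x⁻¹, by group⟩), fun H => H.trans (isConj_iff.mpr ⟨x, rfl⟩)⟩
  let F : G → ℂ := fun s => (cnt s : ℂ)
  have hF : Cfsg.IsClassFunction G F := by
    intro s x
    simp only [F, Nat.cast_inj]
    refine (Finset.card_equiv ((MulAut.conj x).toEquiv.prodCongr (MulAut.conj x).toEquiv) fun q => ?_).symm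
    simp only [K, Finset.mem_filter, Finset.mem_product, Finset.mem_univ, true_and, Equiv.prodCongr_apply,
      Prod.map_fst, Prod.map_snd, MulEquiv.toEquiv_eq_coe, EquivLike.coe_coe, MulAut.conj_apply, hclass]
    rw [show x * q.1 * x⁻¹ * (x * q.2 * x⁻¹)⁻¹ = x * (q.1 * q.2⁻¹) * x⁻¹ by group, mul_left_inj, mul_right_inj]
  have hy : ∀ y : h.P, y ≠ 1 → F y = (K.card : ℂ) * (K.card : ℂ) / (Nat.card G : ℂ) *
      (1 - (r : ℂ) * r / b + ((r : ℂ) - 1) * ((r : ℂ) - 1) / ((b : ℂ) - 1)) := by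
    intro y hy1
    have h1 : (y : G) ≠ 1 := fun e => hy1 (Subtype.ext e)
    have hinv : ∀ u : G, IsConj g⁻¹ u ↔ IsConj g u⁻¹ := fun u => by
      simp only [isConj_iff]
      refine exists_congr fun x => ?_
      constructor <;> intro hu
      · rw [← hu]; group
      · rw [← inv_inv u, ← hu]; group
    have e := class_mult_formula g g⁻¹ (y : G)
    have hc1 : Nat.card {q : G × G // IsConj g q.1 ∧ IsConj g⁻¹ q.2 ∧ q.1 * q.2 = (y : G)} = cnt y := by
      rw [Nat.card_eq_fintype_card, Fintype.card_subtype]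
      refine Finset.card_equiv ((Equiv.refl G).prodCongr (Equiv.inv G)) fun q => ?_
      simp only [K, Finset.mem_filter, Finset.mem_product, Finset.mem_univ, true_and, Equiv.prodCongr_apply,
        Prod.map_fst, Prod.map_snd, Equiv.refl_apply, Equiv.inv_apply, hinv, inv_inv, and_assoc]
    have hc2 : Nat.card {x : G // IsConj g x} = K.card := by
      rw [Nat.card_eq_fintype_card, Fintype.card_subtype]
    have hc3 : Nat.card {x : G // IsConj g⁻¹ x} = K.card := by
      rw [← hc2]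
      exact Nat.card_congr ((Equiv.inv G).subtypeEquiv fun x => by rw [Equiv.inv_apply, hinv])
    rw [hc1, hc2, hc3] at e
    rw [show F y = (cnt y : ℂ) from rfl, e]
    congr 1
    have hginv : ∀ χ : Cfsg.IrrCharacter G, (χ : G → ℂ) g⁻¹ = conj ((χ : G → ℂ) g) := fun χ =>
      IsCharacter.conj_inv (isCharacter_of_irr χ.2) g
    have hsum := hx.sum_irr_P (fun χ => (χ : G → ℂ) g * conj ((χ : G → ℂ) g) / (χ : G → ℂ) 1)
      (((r : ℂ) - 1) * ((r : ℂ) - 1) / ((b : ℂ) - 1))
      (fun l hl => by rw [hx.μ_ns l hl g hg, hr, hx.μ_one hl, map_sub, map_one, map_intCast]) h1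
    rw [hr, hx.θ_one, map_intCast, show ((principal G : Cfsg.IrrCharacter G) : G → ℂ) = fun _ => (1 : ℂ) from rfl,
      map_one, one_mul, div_one] at hsum
    rw [← hsum]
    exact Finset.sum_congr rfl fun χ _ => by rw [hginv χ]; ring
  have hP : ∑ y : h.P, F y - F 1 = ((p : ℂ) - 1) * ((K.card : ℂ) * (K.card : ℂ) / (Nat.card G : ℂ) *
      (1 - (r : ℂ) * r / b + ((r : ℂ) - 1) * ((r : ℂ) - 1) / ((b : ℂ) - 1))) := by
    rw [← Finset.add_sum_erase Finset.univ (fun y : h.P => F y) (Finset.mem_univ 1), OneMemClass.coe_one,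
      add_sub_cancel_left, Finset.sum_congr rfl fun y hy' => hy y (Finset.mem_erase.1 hy').1, Finset.sum_const,
      Finset.card_erase_of_mem (Finset.mem_univ _), Finset.card_univ, ← Nat.card_eq_fintype_card, h.card_P,
      nsmul_eq_mul, Nat.cast_sub hp.one_le, Nat.cast_one]
  have e := h.sum_nonsing hF
  have htot : ∑ s : G, F s = ((K.card * K.card : ℕ) : ℂ) := by
    simp only [F]
    rw [← Nat.cast_sum, ← Finset.card_product]
    congr 1
    exact (Finset.card_eq_sum_card_fiberwise fun q _ => Finset.mem_univ _).symm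
  rw [hP, htot] at e
  set P0 := (K ×ˢ K).filter fun q : G × G => ∃ a : α, q.1 • a = a ∧ q.2 • a = a with hP0
  have hP0le : P0.card ≤ ∑ s ∈ Finset.univ.filter (fun s => ¬h.Sing s), cnt s := by
    have hnsfix : ∀ q ∈ P0, ¬h.Sing (q.1 * q.2⁻¹) := by
      intro q hq hs
      obtain ⟨hne, x, hx'⟩ := hs
      obtain ⟨-, a, ha1, ha2⟩ := Finset.mem_filter.1 hq
      have hfix : (q.1 * q.2⁻¹) • a = a := by
        rw [mul_smul, inv_smul_eq_iff.2 ha2.symm, ha1]
      have hne' : x⁻¹ * (q.1 * q.2⁻¹) * x ≠ 1 := fun e =>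
        hne ((conj_eq_one_iff (a := x⁻¹) (b := q.1 * q.2⁻¹)).1 (by rwa [inv_inv]))
      have hst : x⁻¹ * (q.1 * q.2⁻¹) * x ∈ MulAction.stabilizer G (x⁻¹ • a) := by
        rw [MulAction.mem_stabilizer_iff, mul_smul, smul_inv_smul, mul_smul, hfix]
      obtain ⟨k, hk⟩ : h.t ∈ Subgroup.zpowers (x⁻¹ * (q.1 * q.2⁻¹) * x) :=
        h.zpowers_eq hx' hne' ▸ Subgroup.mem_zpowers h.t
      exact hfree (x⁻¹ • a) (MulAction.mem_stabilizer_iff.1 (hk ▸ zpow_mem hst k))
    rw [Finset.card_eq_sum_card_fiberwise (f := fun q : G × G => q.1 * q.2⁻¹)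
      (t := Finset.univ.filter (fun s => ¬h.Sing s))
      (fun q hq => Finset.mem_filter.2 ⟨Finset.mem_univ _, hnsfix q hq⟩)]
    exact Finset.sum_le_sum fun s _ => Finset.card_le_card fun q hq =>
      Finset.mem_filter.2 ⟨(Finset.mem_filter.1 (Finset.mem_filter.1 hq).1).1, (Finset.mem_filter.1 hq).2⟩
  set Nns := ∑ s ∈ Finset.univ.filter (fun s => ¬h.Sing s), cnt s with hNns
  have e' : 2 * (p : ℤ) * b * ((b : ℤ) - 1) * (Nns : ℤ) =
      2 * p * b * ((b : ℤ) - 1) * ((K.card : ℤ) * K.card) - ((p : ℤ) - 1) * ((b : ℤ) - r) ^ 2 * (K.card : ℤ) ^ 2 := by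
    apply Int.cast_injective (α := ℂ)
    rw [Int.cast_mul, Int.cast_natCast, hNns, Nat.cast_sum, e]
    push_cast
    have hb0 : (b : ℂ) ≠ 0 := by exact_mod_cast (by omega : b ≠ 0)
    have hf0 : (b : ℂ) - 1 ≠ 0 := by
      rw [sub_ne_zero]; exact_mod_cast (by omega : b ≠ 1)
    have hL : (Nat.card G : ℂ) ≠ 0 := by exact_mod_cast Nat.card_pos.ne'
    have hp0 : (p : ℂ) ≠ 0 := by exact_mod_cast hp.ne_zero
    field_simp
    ring
  have hb1 : (0 : ℤ) ≤ 2 * (p : ℤ) * b * ((b : ℤ) - 1) :=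
    mul_nonneg (by positivity) (by omega)
  have := mul_le_mul_of_nonneg_left (Int.ofNat_le.2 hP0le) hb1
  nlinarith

end Cfsg.Lib.PermGroups.PrimeExceptional.Setting
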