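import Cfsg.Agent.PermGroups.DegreeTwiceP.Decomp

/-!
# The exceptional characters and the permutation character of degree `3 p`
-/

set_option autoImplicit false
set_option linter.unusedSectionVars false
set_option maxHeartbeats 1000000

namespace Cfsg.Lib.PermGroups.PrimeExceptional.Setting

open Cfsg.Lib.Chars
open scoped ComplexConjugate Classical

universe u v

variable {G : Type u} [Group G] [Fintype G] {p : ℕ} [Fact p.Prime] (h : Setting G p)

/-- A nonexceptional character `θ` of degree `b` and exceptional characters `μ l` of degree `b - 1`. -/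
structure Exc (b : ℕ) (θ : Cfsg.IrrCharacter G) (μ : ZMod p → Cfsg.IrrCharacter G) : Prop where
  θ_ne : θ ≠ principal G
  μ_ne : ∀ l, l ≠ 0 → μ l ≠ θ ∧ μ l ≠ principal G
  θ_one : (θ : G → ℂ) 1 = (b : ℂ)
  θ_P : ∀ y : h.P, (y : G) ≠ 1 → (θ : G → ℂ) y = -1
  μ_P : ∀ l, l ≠ 0 → ∀ y : h.P, (y : G) ≠ 1 → (μ l : G → ℂ) y = -(h.E l y + h.E (-l) y)
  μ_ns : ∀ l, l ≠ 0 → ∀ g, ¬h.Sing g → (μ l : G → ℂ) g = (θ : G → ℂ) g - 1
  I_eq : ∀ l, l ≠ 0 → h.I l = (fun _ => (1 : ℂ)) - (θ : G → ℂ) + (μ l : G → ℂ)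
  inj : ∀ k l, k ≠ 0 → l ≠ 0 → μ k = μ l → k = l ∨ k = -l
  symm : ∀ l, l ≠ 0 → μ (-l) = μ l
  vanish : ∀ χ : Cfsg.IrrCharacter G, χ ≠ principal G → χ ≠ θ → (∀ l, l ≠ 0 → χ ≠ μ l) →
    ∀ y : h.P, (y : G) ≠ 1 → (χ : G → ℂ) y = 0

variable {b : ℕ} {θ : Cfsg.IrrCharacter G} {μ : ZMod p → Cfsg.IrrCharacter G} {h}

theorem Exc.μ_one (hx : h.Exc b θ μ) {l : ZMod p} (hl : l ≠ 0) : (μ l : G → ℂ) 1 = (b : ℂ) - 1 := by
  rw [hx.μ_ns l hl 1 fun e => e.1 rfl, hx.θ_one]

variable (h) (α : Type v) [MulAction G α] [Finite α] [MulAction.IsPretransitive G α]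

/-- The three shapes of the permutation character of degree `3 p`. -/
theorem decomp_three (hp3 : 3 < p) (hα : Nat.card α = 3 * p) (hfree : ∀ a : α, h.t • a ≠ a)
    (hlin : ∀ χ : Cfsg.IrrCharacter G, (χ : G → ℂ) 1 = 1 → χ = principal G) :
    (∃ (b : ℕ) (θ : Cfsg.IrrCharacter G) (μ : ZMod p → Cfsg.IrrCharacter G), h.Exc b θ μ ∧
      (b = p - 1 ∨
        (b = 2 * p - 1 ∧ ∃ ψ : Cfsg.IrrCharacter G, ψ ≠ θ ∧ ψ ≠ principal G ∧ (ψ : G → ℂ) 1 = (p : ℂ) ∧
          permChar G α = (fun _ => (1 : ℂ)) + (θ : G → ℂ) + (ψ : G → ℂ)) ∨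
        (b = 3 * p - 1 ∧ permChar G α = (fun _ => (1 : ℂ)) + (θ : G → ℂ)))) ∨
    (∃ χ₁ χ₂ : Cfsg.IrrCharacter G, χ₁ ≠ χ₂ ∧ χ₁ ≠ principal G ∧ χ₂ ≠ principal G ∧
      (χ₁ : G → ℂ) 1 = 7 ∧ (χ₂ : G → ℂ) 1 = 7 ∧ p = 5 ∧
      permChar G α = (fun _ => (1 : ℂ)) + (χ₁ : G → ℂ) + (χ₂ : G → ℂ)) := by
  have hp := (Fact.out : p.Prime)
  have hne : Nonempty α := (Nat.card_pos_iff.1 (by rw [hα]; omega)).1
  obtain ⟨ε, δ, θ, μ, hε, hδ, hθ1, hμ, hinj⟩ := h.exists_coherent hp3
  have h10 : (1 : ZMod p) ≠ 0 := one_ne_zero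
  have hneg : ∀ l, l ≠ 0 → μ (-l) = μ l := fun l hl => by
    have e := h.A_neg l
    rw [A, A, (hμ l hl).2.2, (hμ (-l) (neg_ne_zero.2 hl)).2.2] at e
    apply Subtype.ext
    funext g
    have e2 := congrFun e g
    simp only [Pi.sub_apply, Pi.add_apply, Pi.smul_apply, smul_eq_mul] at e2
    rcases hδ with rfl | rfl <;> push_cast at e2 <;> first
      | linear_combination e2
      | linear_combination -e2
  have hIχ : ∀ (χ : Cfsg.IrrCharacter G) (l : ZMod p), l ≠ 0 → Cfsg.classInner (χ : G → ℂ) (h.I l) =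
      (if χ = principal G then 1 else 0) + (ε : ℂ) * (if χ = θ then 1 else 0) +
        (δ : ℂ) * (if χ = μ l then 1 else 0) := fun χ l hl => by
    rw [(hμ l hl).2.2, classInner_add_right, classInner_add_right, classInner_smul_right,
      classInner_smul_right, show (fun _ : G => (1 : ℂ)) = (principal G : G → ℂ) from rfl,
      classInner_irrCharacter, classInner_irrCharacter, classInner_irrCharacter, map_intCast, map_intCast]
  have hθP : ∀ y : h.P, (θ : G → ℂ) y = (if y = 1 then (p : ℂ) *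
      Cfsg.classInner (fun y : h.P => (θ : G → ℂ) y) (⇑(h.E 0)) else 0) -
        (ε : ℂ) * ((if y = 1 then (p : ℂ) else 0) - 1) := fun y => by
    rw [h.restrict_eq (isClassFunction_irr θ) (fun k => if k = 0 then 0 else (ε : ℂ)) (if_pos rfl)
      (fun l hl => by
        rw [hIχ θ l hl, if_neg hθ1, if_pos rfl, if_neg (Ne.symm (hμ l hl).1), if_neg hl]; ring) y]
    congr 1
    rw [← h.sum_E y, ← Finset.add_sum_erase Finset.univ _ (Finset.mem_univ (0 : ZMod p)), if_pos rfl,
      zero_mul, zero_add, ← Finset.add_sum_erase Finset.univ (fun k => h.E k y) (Finset.mem_univ (0 : ZMod p)),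
      h.E_zero, add_sub_cancel_left, Finset.mul_sum]
    exact Finset.sum_congr rfl fun k hk => by rw [if_neg (Finset.mem_erase.1 hk).1]
  have hμP : ∀ l, l ≠ 0 → ∀ y : h.P, (μ l : G → ℂ) y = (if y = 1 then (p : ℂ) *
      Cfsg.classInner (fun y : h.P => (μ l : G → ℂ) y) (⇑(h.E 0)) else 0) -
        (δ : ℂ) * (h.E l y + h.E (-l) y) := fun l hl y => by
    rw [h.restrict_eq (isClassFunction_irr (μ l)) (fun k => if k = l ∨ k = -l then (δ : ℂ) else 0)
      (if_neg (by rintro (e | e); exacts [hl e.symm, hl (neg_eq_zero.1 e.symm)]))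
      (fun k hk => by
        rw [hIχ (μ l) k hk, if_neg (hμ l hl).2.1, if_neg (hμ l hl).1]
        by_cases hkl : k = l ∨ k = -l
        · rw [if_pos hkl, if_pos (by rcases hkl with rfl | rfl; exacts [rfl, (hneg l hl).symm])]
          ring
        · rw [if_neg hkl, if_neg fun e => hkl (hinj k l hk hl e.symm)]
          ring) y]
    congr 1
    rw [← Finset.sum_subset (Finset.subset_univ {l, -l}) fun k _ hk => by
      simp only [Finset.mem_insert, Finset.mem_singleton] at hk
      rw [if_neg hk, zero_mul], Finset.sum_pair (h.neg_ne hl).symm, if_pos (Or.inl rfl), if_pos (Or.inr rfl)]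
    ring
  have hint : ∀ χ : Cfsg.IrrCharacter G, ∃ n : ℕ,
      Cfsg.classInner (fun y : h.P => (χ : G → ℂ) y) (⇑(h.E 0)) = n := fun χ => by
    have e : (⇑(h.E 0)) = fun _ : h.P => (1 : ℂ) := funext fun y => h.E_zero y
    rw [e]
    exact IsCharacter.exists_mult (IsCharacter.restrict (isCharacter_of_irr χ.2) h.P) isIrrCharacter_one
  obtain ⟨aθ, haθ⟩ := hint θ
  have hdθ : (deg (θ : G → ℂ) : ℤ) = p * aθ - ε * ((p : ℤ) - 1) := by
    have e := hθP 1
    rw [if_pos rfl, if_pos rfl, haθ, OneMemClass.coe_one, irr_apply_one_eq_deg] at e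
    exact_mod_cast e
  obtain ⟨aμ, haμ⟩ := hint (μ 1)
  have hdμ1 : (deg (μ 1 : G → ℂ) : ℤ) = p * aμ - δ * 2 := by
    have e := hμP 1 h10 1
    rw [if_pos rfl, haμ, OneMemClass.coe_one, irr_apply_one_eq_deg, map_one, map_one, one_add_one_eq_two] at e
    exact_mod_cast e
  have hdeg : ∀ l, l ≠ 0 → ε * deg (θ : G → ℂ) + δ * deg (μ l : G → ℂ) = -1 := fun l hl => by
    have e := congrFun (hμ l hl).2.2 1
    rw [I, indFun_one, θ_one, mul_zero] at e
    simp only [Pi.add_apply, Pi.smul_apply, smul_eq_mul, irr_apply_one_eq_deg] at e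
    have e' : (0 : ℤ) = 1 + ε * deg (θ : G → ℂ) + δ * deg (μ l : G → ℂ) := by exact_mod_cast e
    omega
  have hnonsing : ∀ l, l ≠ 0 → ∀ g, ¬h.Sing g →
      (1 : ℂ) + (ε : ℂ) * (θ : G → ℂ) g + (δ : ℂ) * (μ l : G → ℂ) g = 0 := fun l hl g hg => by
    have e := congrFun (hμ l hl).2.2 g
    rw [I, h.indFun_nonsing _ (h.θ_one _) hg] at e
    exact e.symm
  -- the multiplicities in the permutation character
  obtain ⟨m, hm⟩ := IsCharacter.exists_decomp (isCharacter_permChar (G := G) α)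
  have hmult : ∀ χ : Cfsg.IrrCharacter G, Cfsg.classInner (permChar G α) (χ : G → ℂ) = (m χ : ℂ) := fun χ => by
    rw [hm]
    have : (∑ χ : Cfsg.IrrCharacter G, m χ • (χ : G → ℂ)) =
        ∑ χ : Cfsg.IrrCharacter G, (m χ : ℂ) • (χ : G → ℂ) :=
      Finset.sum_congr rfl fun χ _ => (Nat.cast_smul_eq_nsmul ℂ _ _).symm
    rw [this, classInner_irrSum]
  have hm1 : m (principal G) = 1 := by
    have e := hmult (principal G)
    rw [show (principal G : G → ℂ) = fun _ => (1 : ℂ) from rfl, classInner_perm_one α hne] at e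
    exact_mod_cast e.symm
  have hdegsum : ∑ χ, m χ * deg (χ : G → ℂ) = 3 * p := by
    have e := congrFun hm 1
    rw [permChar, MulAction.fixedBy_one_eq_univ, Nat.card_congr (Equiv.Set.univ α), hα, Finset.sum_apply] at e
    simp only [Pi.smul_apply, nsmul_eq_mul, irr_apply_one_eq_deg] at e
    exact_mod_cast e.symm
  have hrel : ∀ l, l ≠ 0 → 1 + ε * m θ + δ * m (μ l) = 0 := fun l hl => by
    have e : Cfsg.classInner (permChar G α) (h.I l) = 0 := by
      rw [I, frobenius_reciprocity' _ _ (isClassFunction_isChar (isCharacter_permChar α)), classInner_def,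
        Finset.sum_eq_zero, mul_zero]
      intro y _
      by_cases h1 : (y : G) = 1
      · rw [show y = 1 from Subtype.ext h1, θ_one, map_zero, mul_zero]
      · rw [h.permChar_mem α hfree y.2 h1, zero_mul]
    rw [(hμ l hl).2.2, classInner_add_right, classInner_add_right, classInner_smul_right,
      classInner_smul_right, hmult, hmult, classInner_perm_one α hne, map_intCast, map_intCast] at e
    exact_mod_cast e
  obtain ⟨q, hq⟩ : ∃ q, p = 2 * q + 1 := hp.odd_of_ne_two (by omega)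
  set r := (p - 1) / 2 with hr
  have hr2 : 2 ≤ r := by omega
  have hLne : ∀ n ∈ Finset.Icc 1 r, (n : ZMod p) ≠ 0 := fun n hn e => by
    rw [ZMod.natCast_eq_zero_iff] at e
    rw [Finset.mem_Icc] at hn
    exact absurd (Nat.le_of_dvd (by omega) e) (by omega)
  have hμinj : Set.InjOn (fun n : ℕ => μ (n : ZMod p)) (Finset.Icc 1 r : Set ℕ) := fun a ha b hb e => by
    have ha' := Finset.mem_Icc.1 ha
    have hb' := Finset.mem_Icc.1 hb
    rcases hinj _ _ (hLne a ha) (hLne b hb) e with e' | e'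
    · rw [ZMod.natCast_eq_natCast_iff', Nat.mod_eq_of_lt (by omega), Nat.mod_eq_of_lt (by omega)] at e'
      exact e'
    · rw [eq_neg_iff_add_eq_zero, ← Nat.cast_add, ZMod.natCast_eq_zero_iff] at e'
      exact absurd (Nat.le_of_dvd (by omega) e') (by omega)
  let S : Finset (Cfsg.IrrCharacter G) := insert θ ((Finset.Icc 1 r).image fun n : ℕ => μ (n : ZMod p))
  have hSprin : principal G ∉ S := by
    simp only [S, Finset.mem_insert, Finset.mem_image, not_or, not_exists, not_and]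
    exact ⟨hθ1.symm, fun n hn => (hμ _ (hLne n hn)).2.1⟩
  have hθim : θ ∉ (Finset.Icc 1 r).image fun n : ℕ => μ (n : ZMod p) := by
    simp only [Finset.mem_image, not_exists, not_and]
    exact fun n hn => (hμ _ (hLne n hn)).1
  have hprin1 : deg ((principal G : Cfsg.IrrCharacter G) : G → ℂ) = 1 := by
    have e := irr_apply_one_eq_deg (principal G)
    rw [show ((principal G : Cfsg.IrrCharacter G) : G → ℂ) 1 = 1 from rfl] at e
    exact_mod_cast e.symm
  have hsplit : 1 + m θ * deg (θ : G → ℂ) +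
      ∑ n ∈ Finset.Icc 1 r, m (μ (n : ZMod p)) * deg (μ (n : ZMod p) : G → ℂ) +
        ∑ χ ∈ Finset.univ \ insert (principal G) S, m χ * deg (χ : G → ℂ) = 3 * p := by
    rw [← hdegsum, ← Finset.sum_sdiff (f := fun χ => m χ * deg (χ : G → ℂ))
        (Finset.subset_univ (insert (principal G) S)),
      Finset.sum_insert hSprin, Finset.sum_insert hθim, Finset.sum_image hμinj, hm1, hprin1]
    ring
  have hμdeg : ∀ l, l ≠ 0 → deg (μ l : G → ℂ) = deg (μ 1 : G → ℂ) := fun l hl => by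
    have e3 := hdeg l hl
    have e4 := hdeg 1 h10
    have : (deg (μ l : G → ℂ) : ℤ) = deg (μ 1 : G → ℂ) := by rcases hδ with rfl | rfl <;> omega
    exact_mod_cast this
  have hμm : ∀ l, l ≠ 0 → m (μ l) = m (μ 1) := fun l hl => by
    have e1 := hrel l hl
    have e2 := hrel 1 h10
    have : (m (μ l) : ℤ) = m (μ 1) := by rcases hδ with rfl | rfl <;> omega
    exact_mod_cast this
  have hconst : ∀ n ∈ Finset.Icc 1 r, m (μ (n : ZMod p)) * deg (μ (n : ZMod p) : G → ℂ) =
      m (μ 1) * deg (μ 1 : G → ℂ) := fun n hn => by rw [hμm _ (hLne n hn), hμdeg _ (hLne n hn)]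
  rw [Finset.sum_congr rfl hconst,
    Finset.sum_const, Nat.card_Icc, Nat.add_sub_cancel, smul_eq_mul] at hsplit
  have e2 := hrel 1 h10
  have e4 := hdeg 1 h10
  have hfpos : 0 < deg (μ 1 : G → ℂ) := deg_irr_pos _
  have hθpos : 0 < deg (θ : G → ℂ) := deg_irr_pos _
  have hzero : ∀ χ : Cfsg.IrrCharacter G, χ ∈ Finset.univ \ insert (principal G) S →
      ∑ χ ∈ Finset.univ \ insert (principal G) S, m χ * deg (χ : G → ℂ) = 0 → m χ = 0 := fun χ hχ h0 => by
    rcases Nat.mul_eq_zero.1 (Finset.sum_eq_zero_iff.1 h0 χ hχ) with e | e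
    · exact e
    · exact absurd e (deg_irr_pos χ).ne'
  have hmu_mem : ∀ l, l ≠ 0 → μ l ∈ (Finset.Icc 1 r).image fun n : ℕ => μ (n : ZMod p) := by
    intro l hl
    have hv : l.val ≠ 0 := fun e => hl ((ZMod.val_eq_zero l).1 e)
    have hlt := ZMod.val_lt l
    by_cases hle : l.val ≤ r
    · exact Finset.mem_image.2 ⟨l.val, Finset.mem_Icc.2 ⟨by omega, hle⟩, by rw [ZMod.natCast_zmod_val]⟩
    · refine Finset.mem_image.2 ⟨p - l.val, Finset.mem_Icc.2 ⟨by omega, by omega⟩, ?_⟩
      rw [Nat.cast_sub hlt.le, ZMod.natCast_self, zero_sub, ZMod.natCast_zmod_val, hneg l hl]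
  rcases hδ with rfl | rfl
  swap
  · -- two exceptional constituents of degree seven
    right
    obtain rfl : ε = 1 := by
      rcases hε with rfl | rfl
      · rfl
      · have : (0 : ℤ) < deg (θ : G → ℂ) := by exact_mod_cast hθpos
        omega
    have hm0 : 1 ≤ m (μ 1) := by omega
    have haμ0 : aμ ≠ 0 := by
      intro e0
      rw [e0] at hdμ1
      have hθd : deg (θ : G → ℂ) = 1 := by omega
      exact hθ1 (hlin θ (by rw [irr_apply_one_eq_deg, hθd, Nat.cast_one]))
    have h1 : p + 2 ≤ deg (μ 1 : G → ℂ) := by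
      have : (p : ℤ) * 1 ≤ p * aμ := by gcongr; omega
      omega
    have hrp : r * (p + 2) ≤ 3 * p - 1 := by
      have h2 : r * (p + 2) ≤ r * (m (μ 1) * deg (μ 1 : G → ℂ)) :=
        Nat.mul_le_mul_left r (h1.trans (Nat.le_mul_of_pos_left _ hm0))
      omega
    have hp5 : p = 5 := by
      by_contra hne5
      have h3 : 3 ≤ r := by
        have h4 : p ≠ 4 := fun e => by rw [e] at hp; norm_num at hp
        have h6 : p ≠ 6 := fun e => by rw [e] at hp; norm_num at hp
        omega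
      have : 3 * (p + 2) ≤ r * (p + 2) := Nat.mul_le_mul_right _ h3
      omega
    subst hp5
    have hr' : r = 2 := by omega
    rw [hr'] at hsplit
    have h14 : 2 * (m (μ 1) * deg (μ 1 : G → ℂ)) ≤ 14 := by omega
    have hm1' : m (μ 1) = 1 := by
      by_contra hc
      have : 2 * 7 ≤ m (μ 1) * deg (μ 1 : G → ℂ) := Nat.mul_le_mul (by omega) h1
      omega
    rw [hm1', one_mul] at hsplit h14
    have hmθ : m θ = 0 := by omega
    have hf7 : deg (μ 1 : G → ℂ) = 7 := by omega
    rw [hmθ, zero_mul, hf7] at hsplit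
    have h20 : (2 : ZMod 5) ≠ 0 := fun e => by
      have h2 := (ZMod.natCast_eq_zero_iff 2 5).1 (by exact_mod_cast e)
      norm_num at h2
    have h30 : (3 : ZMod 5) ≠ 0 := fun e => by
      have h2 := (ZMod.natCast_eq_zero_iff 3 5).1 (by exact_mod_cast e)
      norm_num at h2
    have hd : μ 1 ≠ μ 2 := fun e => by
      rcases hinj 1 2 h10 h20 e with e' | e'
      · exact h10 (by linear_combination -e')
      · exact h30 (by linear_combination e')
    refine ⟨μ 1, μ 2, hd, (hμ 1 h10).2.1, (hμ 2 h20).2.1, ?_, ?_, rfl, ?_⟩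
    · rw [irr_apply_one_eq_deg, hf7, Nat.cast_ofNat]
    · rw [irr_apply_one_eq_deg, hμdeg 2 h20, hf7, Nat.cast_ofNat]
    · rw [hm, ← Finset.sum_subset (Finset.subset_univ {principal G, μ 1, μ 2}) (fun χ _ hχ => by
          simp only [Finset.mem_insert, Finset.mem_singleton, not_or] at hχ
          by_cases hS : χ ∈ insert (principal G) S
          · simp only [S, Finset.mem_insert, Finset.mem_image] at hS
            rcases hS with e | e | ⟨n, hn, e⟩
            · exact absurd e hχ.1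
            · rw [e, hmθ, zero_smul]
            · rw [hr', Finset.mem_Icc] at hn
              obtain rfl | rfl : n = 1 ∨ n = 2 := by omega
              · exact absurd e.symm (by simpa using hχ.2.1)
              · exact absurd e.symm (by simpa using hχ.2.2)
          · rw [hzero χ (Finset.mem_sdiff.2 ⟨Finset.mem_univ _, hS⟩) (by omega), zero_smul]),
        Finset.sum_insert (by simp [Ne.symm (hμ 1 h10).2.1, Ne.symm (hμ 2 h20).2.1]),
        Finset.sum_pair hd, hm1, hμm 2 h20, hm1', one_smul, one_smul, one_smul, add_assoc]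
      rfl
  -- the main case
  left
  obtain rfl : ε = -1 := by
    rcases hε with rfl | rfl
    · omega
    · rfl
  have hexc : h.Exc (deg (θ : G → ℂ)) θ μ := by
    refine ⟨hθ1, fun l hl => ⟨(hμ l hl).1, (hμ l hl).2.1⟩, irr_apply_one_eq_deg θ, fun y hy => ?_,
      fun l hl y hy => ?_, fun l hl g hg => ?_, fun l hl => ?_, hinj, hneg, fun χ h1 h2 h3 y hy => ?_⟩
    · rw [hθP y, if_neg fun e => hy (by rw [e, OneMemClass.coe_one]),
        if_neg fun e => hy (by rw [e, OneMemClass.coe_one])]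
      push_cast
      ring
    · rw [hμP l hl y, if_neg fun e => hy (by rw [e, OneMemClass.coe_one])]
      push_cast
      ring
    · have := hnonsing l hl g hg
      push_cast at this
      linear_combination this
    · rw [(hμ l hl).2.2]
      funext g
      simp [sub_eq_add_neg]
    · rw [h.restrict_eq (isClassFunction_irr χ) (fun _ => 0) rfl (fun l hl => by
        rw [hIχ χ l hl, if_neg h1, if_neg h2, if_neg (h3 l hl), mul_zero, mul_zero, add_zero, add_zero]) y,
        if_neg fun e => hy (by rw [e, OneMemClass.coe_one])]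
      simp
  have hθge : p - 1 ≤ deg (θ : G → ℂ) := by
    have h0 : (0 : ℤ) ≤ p * aθ := by positivity
    omega
  have hmθ : m θ = m (μ 1) + 1 := by omega
  refine ⟨_, θ, μ, hexc, ?_⟩
  by_cases hθsmall : deg (θ : G → ℂ) = p - 1
  · exact Or.inl hθsmall
  right
  have hθbig : 2 * p - 1 ≤ deg (θ : G → ℂ) := by
    rcases Nat.eq_zero_or_pos aθ with e | e
    · rw [e] at hdθ; omega
    · have : (p : ℤ) * 1 ≤ p * aθ := by gcongr; omega
      omega
  have hm0 : m (μ 1) = 0 := by
    by_contra hc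
    have h2 : 2 * (2 * p - 1) ≤ m θ * deg (θ : G → ℂ) := Nat.mul_le_mul (by omega) hθbig
    omega
  rw [hmθ, hm0, zero_add, one_mul, zero_mul, mul_zero, add_zero] at hsplit
  rw [hm0] at hμm
  have hrest : ∀ χ ∈ Finset.univ \ insert (principal G) S, m χ ≠ 0 → p ≤ deg (χ : G → ℂ) := fun χ hχ hχm => by
    simp only [S, Finset.mem_sdiff, Finset.mem_univ, true_and, Finset.mem_insert, not_or] at hχ
    obtain ⟨a, ha⟩ := hint χ
    have e := h.restrict_eq (isClassFunction_irr χ) (fun _ => 0) rfl (fun l hl => by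
      rw [hIχ χ l hl, if_neg hχ.1, if_neg hχ.2.1, if_neg (fun e : χ = μ l => hχ.2.2 (by rw [e]; exact hmu_mem l hl)),
        mul_zero, mul_zero, add_zero, add_zero]) 1
    rw [if_pos rfl, ha, OneMemClass.coe_one, irr_apply_one_eq_deg] at e
    simp only [zero_mul, Finset.sum_const_zero, sub_zero] at e
    have e' : deg (χ : G → ℂ) = p * a := by exact_mod_cast e
    have := deg_irr_pos χ
    rcases Nat.eq_zero_or_pos a with h0 | h0
    · rw [h0, mul_zero] at e'; omega
    · rw [e']; exact Nat.le_mul_of_pos_right _ h0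
  have hcol : ∀ χ, χ ∈ S → χ ≠ θ → m χ = 0 := fun χ hχ hne' => by
    simp only [S, Finset.mem_insert, Finset.mem_image] at hχ
    rcases hχ with e | ⟨n, hn, rfl⟩
    · exact absurd e hne'
    · exact hμm _ (hLne n hn)
  by_cases hR : ∑ χ ∈ Finset.univ \ insert (principal G) S, m χ * deg (χ : G → ℂ) = 0
  · right
    refine ⟨by omega, ?_⟩
    rw [hm, ← Finset.sum_subset (Finset.subset_univ {principal G, θ}) (fun χ _ hχ => by
        simp only [Finset.mem_insert, Finset.mem_singleton, not_or] at hχ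
        by_cases hS : χ ∈ S
        · rw [hcol χ hS hχ.2, zero_smul]
        · rw [hzero χ (by simp [hS, hχ.1]) hR, zero_smul]), Finset.sum_pair hθ1.symm, hm1, hmθ, hm0,
      zero_add, one_smul, one_smul]
    rfl
  left
  obtain ⟨ψ, hψT, hψ0⟩ := Finset.exists_ne_zero_of_sum_ne_zero hR
  have hψm : m ψ ≠ 0 := fun e => hψ0 (by rw [e, zero_mul])
  have hsp := Finset.add_sum_erase _ (fun χ => m χ * deg (χ : G → ℂ)) hψT
  have hψp : p ≤ m ψ * deg (ψ : G → ℂ) :=
    le_trans (hrest ψ hψT hψm) (Nat.le_mul_of_pos_left _ (Nat.pos_of_ne_zero hψm))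
  have hb : deg (θ : G → ℂ) = 2 * p - 1 := by
    rcases Nat.lt_or_ge aθ 2 with hlt | hge
    · interval_cases aθ <;> omega
    · have : (p : ℤ) * 2 ≤ p * aθ := by gcongr; omega
      omega
  have hψeq : m ψ * deg (ψ : G → ℂ) = p := by omega
  have hψd : deg (ψ : G → ℂ) = p := le_antisymm
    ((Nat.le_mul_of_pos_left _ (Nat.pos_of_ne_zero hψm)).trans hψeq.le) (hrest ψ hψT hψm)
  have hψ1 : m ψ = 1 := Nat.eq_of_mul_eq_mul_right hp.pos (by rw [one_mul, ← hψd, hψeq, hψd])
  have hψS := hψT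
  simp only [S, Finset.mem_sdiff, Finset.mem_univ, true_and, Finset.mem_insert, not_or] at hψS
  refine ⟨hb, ψ, hψS.2.1, hψS.1, by rw [irr_apply_one_eq_deg, hψd], ?_⟩
  rw [hm, ← Finset.sum_subset (Finset.subset_univ {principal G, θ, ψ}) (fun χ _ hχ => by
      simp only [Finset.mem_insert, Finset.mem_singleton, not_or] at hχ
      by_cases hS : χ ∈ S
      · rw [hcol χ hS hχ.2.1, zero_smul]
      · have hmem : χ ∈ Finset.univ \ insert (principal G) S := by simp [hS, hχ.1]
        have h0 : ∑ χ ∈ (Finset.univ \ insert (principal G) S).erase ψ, m χ * deg (χ : G → ℂ) = 0 := by omega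
        rcases Nat.mul_eq_zero.1 (Finset.sum_eq_zero_iff.1 h0 χ (Finset.mem_erase.2 ⟨hχ.2.2, hmem⟩)) with e | e
        · rw [e, zero_smul]
        · exact absurd e (deg_irr_pos χ).ne'),
    Finset.sum_insert (by simp [hθ1.symm, Ne.symm hψS.1]), Finset.sum_pair (Ne.symm hψS.2.1), hm1, hmθ, hm0,
    zero_add, hψ1, one_smul, one_smul, one_smul, add_assoc]
  rfl

end Cfsg.Lib.PermGroups.PrimeExceptional.Setting
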