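import Cfsg.Agent.PermGroups.DegreeThriceP.RankThree

/-!
# Automorphisms of a strongly regular graph with parameters `(15, 6, 1, 3)`
-/

set_option autoImplicit false
set_option linter.unusedSectionVars false
set_option maxHeartbeats 1000000

namespace Cfsg.Lib.PermGroups.DegreeThriceP

open scoped _root_.Classical

universe u v

variable {G : Type u} [Group G] [Fintype G] {α : Type v} [MulAction G α] [Fintype α]
  [MulAction.IsPretransitive G α]

theorem orbit_step (S : Subgroup G) (b : α) (T : Finset α) (hT : ∀ g ∈ S, g • b ∈ T) :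
    Nat.card S ≤ T.card * Nat.card (S ⊓ MulAction.stabilizer G b : Subgroup G) := by
  have h1 := Nat.card_congr (MulAction.orbitProdStabilizerEquivGroup S b)
  rw [Nat.card_prod] at h1
  rw [← h1]
  refine Nat.mul_le_mul ?_ (le_of_eq ?_)
  · have hsub : MulAction.orbit S b ⊆ (T : Set α) := by
      rintro _ ⟨⟨g, hg⟩, rfl⟩
      exact hT g hg
    have := Set.ncard_le_ncard hsub T.finite_toSet
    rwa [Set.ncard_coe_finset, ← Nat.card_coe_set_eq] at this
  · refine Nat.card_congr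
      { toFun := fun x => ⟨(x.1 : G), x.1.2, x.2⟩
        invFun := fun x => ⟨⟨x.1, x.2.1⟩, x.2.2⟩
        left_inv := fun x => rfl
        right_inv := fun x => rfl }

/-- At most `192` automorphisms fix a vertex. -/
theorem stabilizer_le [FaithfulSMul G α] (Γ : Orbital G α) (hα : Fintype.card α = 15) (a : α)
    (hdeg : ∀ i, Γ.deg i = 6)
    (hl : ∀ i j, Γ.adj i j → (Finset.univ.filter fun z => Γ.adj i z ∧ Γ.adj z j).card = 1)
    (hm : ∀ i j, i ≠ j → ¬Γ.adj i j → (Finset.univ.filter fun z => Γ.adj i z ∧ Γ.adj z j).card = 3) :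
    Nat.card (MulAction.stabilizer G a) ≤ 192 := by
  set Nb := Finset.univ.filter (Γ.adj a) with hNb
  have hNb6 : Nb.card = 6 := hdeg a
  have hmemNb : ∀ z, z ∈ Nb ↔ Γ.adj a z := fun z => by simp [Nb]
  -- the third vertex on an edge through `a`
  have hmate : ∀ u, Γ.adj a u → ∃ u', Γ.adj a u' ∧ Γ.adj u u' ∧ ∀ z, Γ.adj a z → Γ.adj u z → z = u' := by
    intro u hu
    obtain ⟨u', hu'⟩ := Finset.card_eq_one.1 (hl a u hu)
    have hiff : ∀ z, (Γ.adj a z ∧ Γ.adj z u) ↔ z = u' := fun z => by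
      have := congrArg (fun S : Finset α => z ∈ S) hu'
      simpa using this
    obtain ⟨h1, h2⟩ := (hiff u').2 rfl
    exact ⟨u', h1, Γ.symm _ _ h2, fun z h3 h4 => (hiff z).1 ⟨h3, Γ.symm _ _ h4⟩⟩
  choose! mate hmate1 hmate2 hmate3 using hmate
  have hmate_ne : ∀ u, Γ.adj a u → mate u ≠ u := fun u hu e => Γ.irrefl u (by
    have := hmate2 u hu
    rwa [e] at this)
  have hmate_inv : ∀ u, Γ.adj a u → mate (mate u) = u := fun u hu =>
    (hmate3 _ (hmate1 u hu) u hu (Γ.symm _ _ (hmate2 u hu))).symm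
  have hpick : ∀ T : Finset α, T.card < 6 → ∃ u, Γ.adj a u ∧ u ∉ T := by
    intro T hT
    obtain ⟨u, hu⟩ := Finset.card_pos.1 (show 0 < (Nb \ T).card by
      have := Finset.le_card_sdiff T Nb
      omega)
    exact ⟨u, (hmemNb u).1 (Finset.mem_sdiff.1 hu).1, (Finset.mem_sdiff.1 hu).2⟩
  obtain ⟨u₁, hu₁, -⟩ := hpick ∅ (by simp)
  obtain ⟨u₂, hu₂, hu₂'⟩ := hpick {u₁, mate u₁} (lt_of_le_of_lt Finset.card_le_two (by norm_num))
  obtain ⟨u₃, hu₃, hu₃'⟩ := hpick {u₁, mate u₁, u₂, mate u₂} (lt_of_le_of_lt Finset.card_le_four (by norm_num))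
  simp only [Finset.mem_insert, Finset.mem_singleton, not_or] at hu₂' hu₃'
  have hm₁ := hmate1 u₁ hu₁
  have hm₂ := hmate1 u₂ hu₂
  have hm₃ := hmate1 u₃ hu₃
  -- the six neighbours
  have hne : ∀ u v, Γ.adj a u → Γ.adj a v → v ≠ u → v ≠ mate u → mate v ≠ u ∧ mate v ≠ mate u := by
    intro u v hu hv h1 h2
    constructor
    · intro e
      exact h2 (by rw [← e, hmate_inv v hv])
    · intro e
      exact h1 (by rw [← hmate_inv v hv, e, hmate_inv u hu])
  obtain ⟨a12, b12⟩ := hne u₁ u₂ hu₁ hu₂ hu₂'.1 hu₂'.2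
  obtain ⟨a13, b13⟩ := hne u₁ u₃ hu₁ hu₃ hu₃'.1 hu₃'.2.1
  obtain ⟨a23, b23⟩ := hne u₂ u₃ hu₂ hu₃ hu₃'.2.2.1 hu₃'.2.2.2
  have hall : ∀ z, Γ.adj a z → z = u₁ ∨ z = mate u₁ ∨ z = u₂ ∨ z = mate u₂ ∨ z = u₃ ∨ z = mate u₃ := by
    have hsix : ({u₁, mate u₁, u₂, mate u₂, u₃, mate u₃} : Finset α) = Nb := by
      refine Finset.eq_of_subset_of_card_le (fun z hz => ?_) ?_
      · simp only [Finset.mem_insert, Finset.mem_singleton] at hz
        rcases hz with rfl | rfl | rfl | rfl | rfl | rfl <;> simpa [Nb]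
      · rw [hNb6, Finset.card_insert_of_notMem, Finset.card_insert_of_notMem, Finset.card_insert_of_notMem,
          Finset.card_insert_of_notMem, Finset.card_insert_of_notMem, Finset.card_singleton]
        all_goals simp only [Finset.mem_insert, Finset.mem_singleton, not_or]
        all_goals
          first
          | exact (hmate_ne u₃ hu₃).symm
          | exact ⟨Ne.symm a23 |> fun e => hu₃'.2.2.2 ∘ Eq.symm, Ne.symm b23⟩
          | exact ⟨(hmate_ne u₂ hu₂).symm, Ne.symm hu₃'.2.2.1, Ne.symm a23⟩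
          | exact ⟨Ne.symm hu₂'.2, Ne.symm b12, Ne.symm hu₃'.2.1, Ne.symm b13⟩
          | exact ⟨(hmate_ne u₁ hu₁).symm, Ne.symm hu₂'.1, Ne.symm a12, Ne.symm hu₃'.1, Ne.symm a13⟩
    intro z hz
    have : z ∈ ({u₁, mate u₁, u₂, mate u₂, u₃, mate u₃} : Finset α) := by rw [hsix]; exact (hmemNb z).2 hz
    simpa using this
  -- a vertex not adjacent to `a` sees one end of each edge
  have hside : ∀ u z, Γ.adj a u → z ≠ a → ¬Γ.adj a z → ¬(Γ.adj u z ∧ Γ.adj (mate u) z) := by
    rintro u z hu hza hnz ⟨h1, h2⟩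
    obtain ⟨y, hy⟩ := Finset.card_eq_one.1 (hl u (mate u) (hmate2 u hu))
    have hiff : ∀ w, (Γ.adj u w ∧ Γ.adj w (mate u)) ↔ w = y := fun w => by
      have := congrArg (fun S : Finset α => w ∈ S) hy
      simpa using this
    exact hza (((hiff z).1 ⟨h1, Γ.symm _ _ h2⟩).trans
      ((hiff a).1 ⟨Γ.symm _ _ hu, hmate1 u hu⟩).symm)
  have hone : ∀ z, z ≠ a → ¬Γ.adj a z →
      (Γ.adj u₁ z ∨ Γ.adj (mate u₁) z) ∧ (Γ.adj u₂ z ∨ Γ.adj (mate u₂) z) := by
    intro z hza hnz
    have h3 := hm a z (Ne.symm hza) hnz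
    constructor
    · by_contra hc
      push Not at hc
      have hle : (Finset.univ.filter fun y => Γ.adj a y ∧ Γ.adj y z).card ≤ 2 := by
        by_cases e2 : Γ.adj u₂ z <;> by_cases e3 : Γ.adj u₃ z
        · refine (Finset.card_le_card (t := {u₂, u₃}) fun y hy => ?_).trans Finset.card_le_two
          obtain ⟨-, y1, y2⟩ := Finset.mem_filter.1 hy
          rcases hall y y1 with rfl | rfl | rfl | rfl | rfl | rfl <;> simp_all
        · refine (Finset.card_le_card (t := {u₂, mate u₃}) fun y hy => ?_).trans Finset.card_le_two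
          obtain ⟨-, y1, y2⟩ := Finset.mem_filter.1 hy
          rcases hall y y1 with rfl | rfl | rfl | rfl | rfl | rfl <;> simp_all
        · refine (Finset.card_le_card (t := {mate u₂, u₃}) fun y hy => ?_).trans Finset.card_le_two
          obtain ⟨-, y1, y2⟩ := Finset.mem_filter.1 hy
          rcases hall y y1 with rfl | rfl | rfl | rfl | rfl | rfl <;> simp_all
        · refine (Finset.card_le_card (t := {mate u₂, mate u₃}) fun y hy => ?_).trans Finset.card_le_two
          obtain ⟨-, y1, y2⟩ := Finset.mem_filter.1 hy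
          rcases hall y y1 with rfl | rfl | rfl | rfl | rfl | rfl <;> simp_all
      omega
    · by_contra hc
      push Not at hc
      have hle : (Finset.univ.filter fun y => Γ.adj a y ∧ Γ.adj y z).card ≤ 2 := by
        by_cases e2 : Γ.adj u₁ z <;> by_cases e3 : Γ.adj u₃ z
        · refine (Finset.card_le_card (t := {u₁, u₃}) fun y hy => ?_).trans Finset.card_le_two
          obtain ⟨-, y1, y2⟩ := Finset.mem_filter.1 hy
          rcases hall y y1 with rfl | rfl | rfl | rfl | rfl | rfl <;> simp_all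
        · refine (Finset.card_le_card (t := {u₁, mate u₃}) fun y hy => ?_).trans Finset.card_le_two
          obtain ⟨-, y1, y2⟩ := Finset.mem_filter.1 hy
          rcases hall y y1 with rfl | rfl | rfl | rfl | rfl | rfl <;> simp_all
        · refine (Finset.card_le_card (t := {mate u₁, u₃}) fun y hy => ?_).trans Finset.card_le_two
          obtain ⟨-, y1, y2⟩ := Finset.mem_filter.1 hy
          rcases hall y y1 with rfl | rfl | rfl | rfl | rfl | rfl <;> simp_all
        · refine (Finset.card_le_card (t := {mate u₁, mate u₃}) fun y hy => ?_).trans Finset.card_le_two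
          obtain ⟨-, y1, y2⟩ := Finset.mem_filter.1 hy
          rcases hall y y1 with rfl | rfl | rfl | rfl | rfl | rfl <;> simp_all
      omega
  -- at most two vertices share their view of two edges
  have hpair : ∀ u v, Γ.adj a u → Γ.adj a v → u ≠ v → ¬Γ.adj u v →
      (Finset.univ.filter fun z => z ≠ a ∧ Γ.adj u z ∧ Γ.adj v z).card ≤ 2 := by
    intro u v hu hv huv hnuv
    have h3 := hm u v huv hnuv
    have ha : a ∈ Finset.univ.filter fun z => Γ.adj u z ∧ Γ.adj z v :=
      Finset.mem_filter.2 ⟨Finset.mem_univ _, Γ.symm _ _ hu, hv⟩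
    have hsub : (Finset.univ.filter fun z => z ≠ a ∧ Γ.adj u z ∧ Γ.adj v z) ⊆
        (Finset.univ.filter fun z => Γ.adj u z ∧ Γ.adj z v).erase a := fun z hz => by
      obtain ⟨-, z1, z2, z3⟩ := Finset.mem_filter.1 hz
      exact Finset.mem_erase.2 ⟨z1, Finset.mem_filter.2 ⟨Finset.mem_univ _, z2, Γ.symm _ _ z3⟩⟩
    have := Finset.card_le_card hsub
    rw [Finset.card_erase_of_mem ha, h3] at this
    exact this
  -- the chain of stabilisers
  have hnadj : ∀ g : G, g • a = a → ∀ z, Γ.adj a z → Γ.adj a (g • z) := fun g hg z hz => by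
    have := (Γ.smul g a z).2 hz
    rwa [hg] at this
  have hfixmate : ∀ g : G, g • a = a → ∀ u, Γ.adj a u → g • u = u → g • mate u = mate u := fun g hg u hu hgu => by
    refine hmate3 u hu _ (hnadj g hg _ (hmate1 u hu)) ?_
    have := (Γ.smul g u (mate u)).2 (hmate2 u hu)
    rwa [hgu] at this
  set S0 := MulAction.stabilizer G a
  set S1 := S0 ⊓ MulAction.stabilizer G u₁
  set S2 := S1 ⊓ MulAction.stabilizer G u₂
  set S3 := S2 ⊓ MulAction.stabilizer G u₃
  have k1 : Nat.card S0 ≤ 6 * Nat.card S1 := by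
    rw [← hNb6]
    exact orbit_step S0 u₁ Nb fun g hg => (hmemNb _).2 (hnadj g hg u₁ hu₁)
  have k2 : Nat.card S1 ≤ 4 * Nat.card S2 := by
    have hc : ((Nb.erase u₁).erase (mate u₁)).card = 4 := by
      rw [Finset.card_erase_of_mem (Finset.mem_erase.2 ⟨hmate_ne u₁ hu₁, (hmemNb _).2 hm₁⟩),
        Finset.card_erase_of_mem ((hmemNb _).2 hu₁), hNb6]
    rw [← hc]
    refine orbit_step S1 u₂ _ fun g hg => ?_
    refine Finset.mem_erase.2 ⟨fun e => hu₂'.2 ?_, Finset.mem_erase.2 ⟨fun e => hu₂'.1 ?_,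
      (hmemNb _).2 (hnadj g hg.1 u₂ hu₂)⟩⟩
    · exact MulAction.injective g (e.trans (hfixmate g hg.1 u₁ hu₁ hg.2).symm)
    · exact MulAction.injective g (e.trans (hg.2).symm)
  have k3 : Nat.card S2 ≤ 2 * Nat.card S3 := by
    have hc : ({u₃, mate u₃} : Finset α).card = 2 := Finset.card_pair (hmate_ne u₃ hu₃).symm
    rw [← hc]
    refine orbit_step S2 u₃ _ fun g hg => ?_
    rcases hall _ (hnadj g hg.1.1 u₃ hu₃) with e | e | e | e | e | e
    · exact absurd (MulAction.injective g (e.trans (hg.1.2).symm)) hu₃'.1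
    · exact absurd (MulAction.injective g (e.trans (hfixmate g hg.1.1 u₁ hu₁ hg.1.2).symm)) hu₃'.2.1
    · exact absurd (MulAction.injective g (e.trans (hg.2).symm)) hu₃'.2.2.1
    · exact absurd (MulAction.injective g (e.trans (hfixmate g hg.1.1 u₂ hu₂ hg.2).symm)) hu₃'.2.2.2
    · simp [e]
    · simp [e]
  have hfix3 : ∀ g ∈ S3, g • a = a ∧ ∀ z, Γ.adj a z → g • z = z := by
    intro g hg
    refine ⟨hg.1.1.1, fun z hz => ?_⟩
    rcases hall z hz with rfl | rfl | rfl | rfl | rfl | rfl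
    · exact hg.1.1.2
    · exact hfixmate g hg.1.1.1 u₁ hu₁ hg.1.1.2
    · exact hg.1.2
    · exact hfixmate g hg.1.1.1 u₂ hu₂ hg.1.2
    · exact hg.2
    · exact hfixmate g hg.1.1.1 u₃ hu₃ hg.2
  -- the elements fixing all neighbours move the other vertices in pairs
  have hn12 : ∀ u v, Γ.adj a u → Γ.adj a v → v ≠ u → v ≠ mate u → ¬Γ.adj u v :=
    fun u v hu hv h1 h2 e => h2 (hmate3 u hu v hv e)
  have hfibre : ∀ x, x ≠ a → ¬Γ.adj a x → ∃ T : Finset α, T.card ≤ 2 ∧ x ∈ T ∧
      (∀ g ∈ S3, g • x ∈ T) ∧ ∀ z w, z ∈ T → w ∈ T → z ≠ w → ¬Γ.adj z w := by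
    intro x hxa hnx
    obtain ⟨e1, e2⟩ := hone x hxa hnx
    obtain ⟨v₁, hv₁, hv₁x, hv₁'⟩ : ∃ v, Γ.adj a v ∧ Γ.adj v x ∧ (v = u₁ ∨ v = mate u₁) := by
      rcases e1 with e | e
      · exact ⟨u₁, hu₁, e, Or.inl rfl⟩
      · exact ⟨mate u₁, hm₁, e, Or.inr rfl⟩
    obtain ⟨v₂, hv₂, hv₂x, hv₂'⟩ : ∃ v, Γ.adj a v ∧ Γ.adj v x ∧ (v = u₂ ∨ v = mate u₂) := by
      rcases e2 with e | e
      · exact ⟨u₂, hu₂, e, Or.inl rfl⟩
      · exact ⟨mate u₂, hm₂, e, Or.inr rfl⟩
    have hne12 : v₂ ≠ v₁ := by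
      rcases hv₁' with rfl | rfl <;> rcases hv₂' with rfl | rfl
      exacts [hu₂'.1, a12, hu₂'.2, b12]
    have hne12' : v₂ ≠ mate v₁ := by
      rcases hv₁' with rfl | rfl <;> rcases hv₂' with rfl | rfl
      · exact hu₂'.2
      · exact b12
      · rw [hmate_inv u₁ hu₁]; exact hu₂'.1
      · rw [hmate_inv u₁ hu₁]; exact a12
    refine ⟨Finset.univ.filter fun z => z ≠ a ∧ Γ.adj v₁ z ∧ Γ.adj v₂ z,
      hpair v₁ v₂ hv₁ hv₂ hne12.symm (hn12 v₁ v₂ hv₁ hv₂ hne12 hne12'),
      Finset.mem_filter.2 ⟨Finset.mem_univ _, hxa, hv₁x, hv₂x⟩, fun g hg => ?_, fun z w hz hw hzw e => ?_⟩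
    · obtain ⟨ga, gN⟩ := hfix3 g hg
      refine Finset.mem_filter.2 ⟨Finset.mem_univ _, fun e => hxa (MulAction.injective g (e.trans ga.symm)), ?_, ?_⟩
      · have := (Γ.smul g v₁ x).2 hv₁x
        rwa [gN v₁ hv₁] at this
      · have := (Γ.smul g v₂ x).2 hv₂x
        rwa [gN v₂ hv₂] at this
    · obtain ⟨-, -, z2, z3⟩ := Finset.mem_filter.1 hz
      obtain ⟨-, -, w2, w3⟩ := Finset.mem_filter.1 hw
      have hc : 1 < (Finset.univ.filter fun y => Γ.adj z y ∧ Γ.adj y w).card :=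
        Finset.one_lt_card.2 ⟨v₁, Finset.mem_filter.2 ⟨Finset.mem_univ _, Γ.symm _ _ z2, w2⟩,
          v₂, Finset.mem_filter.2 ⟨Finset.mem_univ _, Γ.symm _ _ z3, w3⟩, hne12.symm⟩
      rw [hl z w e] at hc
      omega
  -- a vertex fixed with all neighbours fixes its own neighbours
  have hprop : ∀ g ∈ S3, ∀ x y, x ≠ a → ¬Γ.adj a x → Γ.adj x y → y ≠ a → ¬Γ.adj a y → g • x = x → g • y = y := by
    intro g hg x y hxa hnx hxy hya hny hgx
    obtain ⟨T, hT2, hyT, hTg, hTn⟩ := hfibre y hya hny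
    by_contra hne'
    have hxy' : Γ.adj x (g • y) := by
      have := (Γ.smul g x y).2 hxy
      rwa [hgx] at this
    -- `y` and `g • y` see the same vertices next to `a`, and also `x`
    have hcn : (Finset.univ.filter fun z => Γ.adj y z ∧ Γ.adj z (g • y)).card = 3 :=
      hm y (g • y) (Ne.symm hne') (hTn y (g • y) hyT (hTg g hg) (Ne.symm hne'))
    have h3 := hm a y (Ne.symm hya) hny
    have hsub : insert x (Finset.univ.filter fun z => Γ.adj a z ∧ Γ.adj z y) ⊆
        Finset.univ.filter fun z => Γ.adj y z ∧ Γ.adj z (g • y) := by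
      intro z hz
      rcases Finset.mem_insert.1 hz with rfl | hz
      · exact Finset.mem_filter.2 ⟨Finset.mem_univ _, Γ.symm _ _ hxy, hxy'⟩
      · obtain ⟨-, z1, z2⟩ := Finset.mem_filter.1 hz
        refine Finset.mem_filter.2 ⟨Finset.mem_univ _, Γ.symm _ _ z2, ?_⟩
        have := (Γ.smul g z y).2 z2
        rwa [(hfix3 g hg).2 z z1] at this
    have := Finset.card_le_card hsub
    rw [Finset.card_insert_of_notMem (fun e => hnx (Finset.mem_filter.1 e).2.1), h3, hcn] at this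
    omega
  -- two base vertices outside the neighbourhood
  obtain ⟨x, hxa, hnx⟩ : ∃ x, x ≠ a ∧ ¬Γ.adj a x := by
    by_contra hc
    push Not at hc
    have : (Finset.univ : Finset α).erase a ⊆ Nb := fun z hz => (hmemNb z).2 (hc z (Finset.mem_erase.1 hz).1)
    have := Finset.card_le_card this
    rw [Finset.card_erase_of_mem (Finset.mem_univ a), Finset.card_univ, hα, hNb6] at this
    omega
  obtain ⟨T, hT2, -, hTg, -⟩ := hfibre x hxa hnx
  set S4 := S3 ⊓ MulAction.stabilizer G x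
  have k4 : Nat.card S3 ≤ 2 * Nat.card S4 :=
    le_trans (orbit_step S3 x T hTg) (Nat.mul_le_mul_right _ hT2)
  have hball : ∀ y, y ≠ a → ¬Γ.adj a y → 4 ≤ (Finset.univ.filter fun z => z ≠ a ∧ ¬Γ.adj a z ∧
      (z = y ∨ Γ.adj y z)).card := by
    intro y hya hny
    have h3 := hm a y (Ne.symm hya) hny
    have hd := hdeg y
    rw [Orbital.deg] at hd
    have hsub : insert y ((Finset.univ.filter (Γ.adj y)) \ (Finset.univ.filter fun z => Γ.adj a z ∧ Γ.adj z y)) ⊆
        Finset.univ.filter fun z => z ≠ a ∧ ¬Γ.adj a z ∧ (z = y ∨ Γ.adj y z) := by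
      intro z hz
      rcases Finset.mem_insert.1 hz with rfl | hz
      · exact Finset.mem_filter.2 ⟨Finset.mem_univ _, hya, hny, Or.inl rfl⟩
      · obtain ⟨z1, z2⟩ := Finset.mem_sdiff.1 hz
        have z1' := (Finset.mem_filter.1 z1).2
        refine Finset.mem_filter.2 ⟨Finset.mem_univ _, fun e => hny (Γ.symm _ _ (e ▸ z1')), fun e => z2 ?_, Or.inr z1'⟩
        exact Finset.mem_filter.2 ⟨Finset.mem_univ _, e, Γ.symm _ _ z1'⟩
    have hle := Finset.card_le_card hsub
    rw [Finset.card_insert_of_notMem (fun e => Γ.irrefl y (Finset.mem_filter.1 (Finset.mem_sdiff.1 e).1).2)] at hle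
    have := Finset.le_card_sdiff (Finset.univ.filter fun z => Γ.adj a z ∧ Γ.adj z y) (Finset.univ.filter (Γ.adj y))
    omega
  have hfix4 : ∀ g ∈ S4, ∀ z, z ≠ a → ¬Γ.adj a z → (z = x ∨ Γ.adj x z) → g • z = z := by
    intro g hg z hza hnz hz
    rcases hz with rfl | hz
    · exact hg.2
    · exact hprop g hg.1 x z hxa hnx hz hza hnz hg.2
  set B := fun y => Finset.univ.filter fun z => z ≠ a ∧ ¬Γ.adj a z ∧ (z = y ∨ Γ.adj y z) with hB
  have hk5 : Nat.card S4 ≤ 2 := by
    by_cases hex : ∃ g ∈ S4, g ≠ 1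
    swap
    · push Not at hex
      rw [(Subgroup.eq_bot_iff_forall S4).2 hex, Subgroup.card_bot]
      norm_num
    obtain ⟨g₀, hg₀, hg₀1⟩ := hex
    obtain ⟨y, hy⟩ : ∃ y, g₀ • y ≠ y := by
      by_contra hc
      push Not at hc
      exact hg₀1 (FaithfulSMul.eq_of_smul_eq_smul fun z : α => by rw [one_smul, hc])
    have hya : y ≠ a := fun e => hy (by rw [e]; exact (hfix3 g₀ hg₀.1).1)
    have hny : ¬Γ.adj a y := fun e => hy ((hfix3 g₀ hg₀.1).2 y e)
    obtain ⟨T', hT2', -, hTg', -⟩ := hfibre y hya hny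
    have hdis : Disjoint (B x) (B y) := Finset.disjoint_left.2 fun z hz hz' => by
      obtain ⟨-, z1, z2, z3⟩ := Finset.mem_filter.1 hz
      obtain ⟨-, -, -, z4⟩ := Finset.mem_filter.1 hz'
      have hgz := hfix4 g₀ hg₀ z z1 z2 z3
      rcases z4 with rfl | z4
      · exact hy hgz
      · exact hy (hprop g₀ hg₀.1 z y z1 z2 (Γ.symm _ _ z4) hya hny hgz)
    set out := Finset.univ.filter fun z => z ≠ a ∧ ¬Γ.adj a z
    have hout : out.card = 8 := by
      have h1 := Finset.card_filter_add_card_filter_not (s := (Finset.univ : Finset α).erase a) (Γ.adj a)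
      rw [Finset.card_erase_of_mem (Finset.mem_univ a), Finset.card_univ, hα] at h1
      have e1 : ((Finset.univ : Finset α).erase a).filter (Γ.adj a) = Nb := by
        ext z
        simp only [Finset.mem_filter, Finset.mem_erase, Finset.mem_univ, and_true, Nb, true_and]
        exact ⟨And.right, fun e => ⟨fun e' => Γ.irrefl a (e' ▸ e), e⟩⟩
      have e2 : ((Finset.univ : Finset α).erase a).filter (fun z => ¬Γ.adj a z) = out := by
        ext z
        simp [out]
      rw [e1, e2, hNb6] at h1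
      omega
    have hcover : B x ∪ B y = out := by
      refine Finset.eq_of_subset_of_card_le (fun z hz => ?_) ?_
      · rcases Finset.mem_union.1 hz with e | e <;>
          exact Finset.mem_filter.2 ⟨Finset.mem_univ _, (Finset.mem_filter.1 e).2.1, (Finset.mem_filter.1 e).2.2.1⟩
      · rw [Finset.card_union_of_disjoint hdis, hout]
        have := hball x hxa hnx
        have := hball y hya hny
        simp only [B]
        omega
    have hS5 : Nat.card (S4 ⊓ MulAction.stabilizer G y : Subgroup G) = 1 := by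
      rw [Subgroup.card_eq_one, Subgroup.eq_bot_iff_forall]
      intro g hg
      refine FaithfulSMul.eq_of_smul_eq_smul fun z : α => ?_
      rw [one_smul]
      by_cases h1 : z = a
      · rw [h1]; exact (hfix3 g hg.1.1).1
      by_cases h2 : Γ.adj a z
      · exact (hfix3 g hg.1.1).2 z h2
      have hz : z ∈ B x ∪ B y := by rw [hcover]; exact Finset.mem_filter.2 ⟨Finset.mem_univ _, h1, h2⟩
      rcases Finset.mem_union.1 hz with e | e
      · exact hfix4 g hg.1 z h1 h2 (Finset.mem_filter.1 e).2.2.2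
      · rcases (Finset.mem_filter.1 e).2.2.2 with rfl | e'
        · exact hg.2
        · exact hprop g hg.1.1 y z hya hny e' h1 h2 hg.2
    have := orbit_step S4 y T' fun g hg => hTg' g hg.1
    rw [hS5] at this
    omega
  omega

end Cfsg.Lib.PermGroups.DegreeThriceP
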