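import Cfsg.Agent.PermGroups.DegreeThriceP.Common

/-!
# The parameters in the rank three cases
-/

set_option autoImplicit false
set_option linter.unusedSectionVars false
set_option maxHeartbeats 1000000

namespace Cfsg.Lib.PermGroups.DegreeThriceP

open Cfsg.Lib.Chars Cfsg.Lib.PermGroups.PrimeExceptional
open scoped ComplexConjugate _root_.Classical

universe u v

/-- A real root of a monic integral quadratic that satisfies a linear equation is an integer. -/
theorem int_root {x : ℝ} {m c e q : ℤ} (hc : c ≠ 0) (hlin : (c : ℝ) * x = m)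
    (hquad : x ^ 2 - e * x + q = 0) : ∃ z : ℤ, x = z := by
  have h1 : (2 * m - c * e) ^ 2 = c ^ 2 * (e ^ 2 - 4 * q) := by
    apply Int.cast_injective (α := ℝ)
    push_cast
    rw [← hlin]
    linear_combination 4 * (c : ℝ) ^ 2 * hquad
  obtain ⟨y, hy⟩ := (Int.pow_dvd_pow_iff two_ne_zero).1 ⟨_, h1⟩
  have hc' : (c : ℝ) ≠ 0 := by exact_mod_cast hc
  have h2 : 2 * x = ((y + e : ℤ) : ℝ) := by
    refine mul_left_cancel₀ hc' ?_
    have : ((2 * m - c * e : ℤ) : ℝ) = ((c * y : ℤ) : ℝ) := by rw [hy]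
    push_cast at this ⊢
    linear_combination 2 * hlin + this
  have h3 : (y + e) ^ 2 - 2 * e * (y + e) + 4 * q = 0 := by
    apply Int.cast_injective (α := ℝ)
    push_cast at h2 ⊢
    rw [← h2]
    linear_combination 4 * hquad
  obtain ⟨z, hz⟩ : (2 : ℤ) ∣ y + e :=
    Int.prime_two.dvd_of_dvd_pow (n := 2) ⟨e * (y + e) - 2 * q, by linarith⟩
  refine ⟨z, ?_⟩
  rw [hz] at h2
  push_cast at h2
  linarith

variable {G : Type u} [Group G] [Fintype G] {α : Type v} [MulAction G α] [Fintype α]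
  [MulAction.IsPretransitive G α]

/-- No rank three group of degree `15` has two constituents of degree seven. -/
theorem false_of_seven [FaithfulSMul G α] (hα : Fintype.card α = 15) (χ₁ χ₂ : Cfsg.IrrCharacter G) (hne : χ₁ ≠ χ₂)
    (h1 : χ₁ ≠ principal G) (h2 : χ₂ ≠ principal G) (hd1 : (χ₁ : G → ℂ) 1 = 7) (hd2 : (χ₂ : G → ℂ) 1 = 7)
    (hπ : permChar G α = (fun _ => (1 : ℂ)) + (χ₁ : G → ℂ) + (χ₂ : G → ℂ))
    {w : G} (hw1 : w ≠ 1) (hww : w * w = 1) : False := by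
  obtain ⟨a₀, ha₀⟩ := exists_moved (α := α) hw1
  obtain ⟨Γ⟩ := exists_orbital χ₁ χ₂ hne h1 h2 hπ hww ha₀
  obtain ⟨r, s, lam, mu, -, hsum, -, he1, -, -, -, -, -⟩ :=
    Γ.params χ₁ χ₂ hne hπ (b := 7) (d := 7) (by rw [hd1]; norm_num) (by rw [hd2]; norm_num) a₀
  set k := Γ.deg a₀ with hk
  have e : (k : ℤ) = 7 * ((mu : ℤ) - lam) := by
    apply Int.cast_injective (α := ℝ)
    push_cast at he1 ⊢
    linear_combination he1 - 7 * hsum
  have hlt := Γ.deg_compl a₀
  have hl := Γ.compl.deg_pos a₀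
  have hkpos := Γ.deg_pos a₀
  have hk7 : k = 7 := by omega
  let S : SimpleGraph α := { Adj := Γ.adj, symm := ⟨Γ.symm⟩, loopless := ⟨Γ.irrefl⟩ }
  have hsh := S.sum_degrees_eq_twice_card_edges
  have hdeg : ∀ v, S.degree v = 7 := fun v => by
    rw [← hk7, hk, ← Γ.deg_eq v a₀, Orbital.deg, ← SimpleGraph.card_neighborFinset_eq_degree]
    congr 1
    ext x
    simp [S]
  rw [Finset.sum_congr rfl fun v _ => hdeg v, Finset.sum_const, Finset.card_univ, hα, smul_eq_mul] at hsh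
  omega

/-- The parameters when the constituents have degrees `2 p - 1` and `p`. -/
theorem exists_parameters {p : ℕ} (hp5 : 5 ≤ p) (hα : Fintype.card α = 3 * p) (θ ψ : Cfsg.IrrCharacter G)
    (hθψ : θ ≠ ψ) (hθ1 : θ ≠ principal G) (hψ1 : ψ ≠ principal G)
    (hπ : permChar G α = (fun _ => (1 : ℂ)) + (θ : G → ℂ) + (ψ : G → ℂ))
    (hθd : (θ : G → ℂ) 1 = ((2 * p - 1 : ℕ) : ℂ)) (hψd : (ψ : G → ℂ) 1 = (p : ℂ))
    {w : G} (hww : w * w = 1) {a₀ : α} (hw : w • a₀ ≠ a₀) :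
    ∃ (Γ : Orbital G α) (r : ℤ) (lam mu : ℕ),
      (Γ.deg a₀ : ℤ) = r + p ∧ (Γ.compl.deg a₀ : ℤ) = 2 * p - 1 - r ∧
      2 * (p : ℤ) = 6 * r ^ 2 + 3 * r + 1 ∧
      (lam : ℤ) - mu = -1 - r ∧ (mu : ℤ) - Γ.deg a₀ = r * (-1 - 2 * r) ∧
      (∀ i j, Γ.adj i j → (Finset.univ.filter fun z => Γ.adj i z ∧ Γ.adj z j).card = lam) ∧
      (∀ i j, i ≠ j → ¬Γ.adj i j → (Finset.univ.filter fun z => Γ.adj i z ∧ Γ.adj z j).card = mu) ∧
      (∀ g : G, ∃ (z : ℤ) (N : ℕ), N + Nat.card (MulAction.fixedBy α g) ≤ 3 * p ∧ (θ : G → ℂ) g = z ∧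
        (3 * r + 1) * z = (N : ℤ) + (2 * r + 1) * ((Nat.card (MulAction.fixedBy α g) : ℤ) - 1) - (r + p)) ∧
      (∀ g : G, Fintype.card α ^ 2 * p * ∑ a : α, ∑ a' : α, joint α g a a' ^ 2 ≤
        (Finset.univ.filter (IsConj g)).card ^ 2 * Nat.card (MulAction.fixedBy α g) ^ 2 *
          (p * Nat.card (MulAction.fixedBy α g) ^ 2 +
            (Fintype.card α - Nat.card (MulAction.fixedBy α g)) ^ 2)) := by
  -- every orbital has integral eigenvalues `r, -j - 2 r` with valency `r + j p`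
  have key : ∀ Γ : Orbital G α, ∃ (r j : ℤ), (Γ.deg a₀ : ℤ) = r + j * p ∧ 4 * r ^ 2 ≤ 5 * (p : ℤ) ∧
      j * (3 - j) * (p : ℤ) = 6 * r ^ 2 + 6 * r * j + j ^ 2 - 3 * r ∧
      ∃ (R S : ℝ) (lam mu : ℕ), R = r ∧ S = ((-j - 2 * r : ℤ) : ℝ) ∧
        R + S = (lam : ℝ) - mu ∧ R * S = (mu : ℝ) - Γ.deg a₀ ∧
        (∀ i j, Γ.adj i j → (Finset.univ.filter fun z => Γ.adj i z ∧ Γ.adj z j).card = lam) ∧
        (∀ i j, i ≠ j → ¬Γ.adj i j → (Finset.univ.filter fun z => Γ.adj i z ∧ Γ.adj z j).card = mu) ∧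
        R ≠ S ∧
        (∀ g : G, (θ : G → ℂ) g = (((R - S)⁻¹ *
          ((((Finset.univ.filter fun i => Γ.adj (g⁻¹ • i) i).card : ℕ) : ℝ) -
            S * (Nat.card (MulAction.fixedBy α g) : ℝ) - ((Γ.deg a₀ : ℝ) - S)) : ℝ) : ℂ)) ∧
        (∀ g : G, Fintype.card α ^ 2 * p * ∑ a : α, ∑ a' : α, joint α g a a' ^ 2 ≤
          (Finset.univ.filter (IsConj g)).card ^ 2 * Nat.card (MulAction.fixedBy α g) ^ 2 *
            (p * Nat.card (MulAction.fixedBy α g) ^ 2 +
              (Fintype.card α - Nat.card (MulAction.fixedBy α g)) ^ 2)) := by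
    intro Γ
    obtain ⟨R, S, lam, mu, hRS, hsum, hprod, he1, he2, hl, hm, hθ, hsec⟩ :=
      Γ.params θ ψ hθψ hπ hθd hψd a₀
    have hb : ((2 * p - 1 : ℕ) : ℝ) = 2 * (p : ℝ) - 1 := by
      rw [Nat.cast_sub (by omega), Nat.cast_mul]; norm_num
    rw [hb] at he1 he2
    rw [hα] at he2
    push_cast at he2
    set k := Γ.deg a₀ with hk
    obtain ⟨r, hr⟩ := int_root (x := R) (c := (p : ℤ) - 1) (m := -(k : ℤ) - p * ((lam : ℤ) - mu))
      (e := (lam : ℤ) - mu) (q := (mu : ℤ) - k) (by omega) (by push_cast; linear_combination he1 - (p : ℝ) * hsum)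
      (by push_cast; linear_combination R * hsum - hprod)
    have hS : S = ((((lam : ℤ) - mu - r : ℤ)) : ℝ) := by push_cast; linear_combination hsum - hr
    set s : ℤ := (lam : ℤ) - mu - r with hs
    have f1 : (k : ℤ) + r * (2 * p - 1) + s * p = 0 := by
      apply Int.cast_injective (α := ℝ)
      push_cast
      rw [← hr]
      rw [hS] at he1
      push_cast at he1
      linear_combination he1
    have f2 : (k : ℤ) ^ 2 + r ^ 2 * (2 * p - 1) + s ^ 2 * p = 3 * p * k := by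
      apply Int.cast_injective (α := ℝ)
      push_cast
      rw [← hr]
      rw [hS] at he2
      push_cast at he2
      linear_combination he2
    have hp5' : (5 : ℤ) ≤ p := by exact_mod_cast hp5
    have hrb : 4 * r ^ 2 ≤ 5 * (p : ℤ) := by
      have h1 : r ^ 2 * (2 * (p : ℤ) - 1) * 4 ≤ 9 * (p : ℤ) ^ 2 := by
        nlinarith [mul_nonneg (sq_nonneg s) (by positivity : (0 : ℤ) ≤ p), sq_nonneg (2 * (k : ℤ) - 3 * p)]
      by_contra hc
      push Not at hc
      nlinarith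
    refine ⟨r, -s - 2 * r, by linear_combination f1, hrb, ?_, R, S, lam, mu, hr, ?_, hsum, hprod, hl, hm, hRS, hθ,
      fun g => hsec (by omega) g⟩
    · refine mul_left_cancel₀ (show (p : ℤ) ≠ 0 by omega) ?_
      have hk' : (k : ℤ) = r + (-s - 2 * r) * p := by linear_combination f1
      rw [hk'] at f2
      linear_combination -f2
    · rw [hS]; push_cast; ring
  have rest : ∀ (Γ : Orbital G α) (r j : ℤ), (Γ.deg a₀ : ℤ) = r + j * p → 4 * r ^ 2 ≤ 5 * (p : ℤ) →
      j * (3 - j) * (p : ℤ) = 6 * r ^ 2 + 6 * r * j + j ^ 2 - 3 * r → j = 1 ∨ j = 2 := by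
    intro Γ r j hk hr heq
    have h1 : (0 : ℤ) < Γ.deg a₀ := by exact_mod_cast Γ.deg_pos a₀
    have h2 : (Γ.deg a₀ : ℤ) + 1 < 3 * p := by
      have := Γ.deg_compl a₀
      have := Γ.compl.deg_pos a₀
      omega
    have hp5' : (5 : ℤ) ≤ p := by exact_mod_cast hp5
    have hrp : r < p ∧ -(p : ℤ) < r := by constructor <;> nlinarith
    have hj0 : 0 ≤ j := by
      by_contra hc
      push Not at hc
      have : j * (p : ℤ) ≤ -1 * p := mul_le_mul_of_nonneg_right (by omega) (by positivity)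
      omega
    have hj3 : j ≤ 3 := by
      by_contra hc
      push Not at hc
      have : 4 * (p : ℤ) ≤ j * p := mul_le_mul_of_nonneg_right (by omega) (by positivity)
      omega
    rcases (show j = 0 ∨ j = 1 ∨ j = 2 ∨ j = 3 by omega) with rfl | rfl | rfl | rfl
    · exfalso
      have : r * (2 * r - 1) = 0 := by linarith
      rcases mul_eq_zero.1 this with e | e <;> omega
    · exact Or.inl rfl
    · exact Or.inr rfl
    · exfalso
      have : (r + 1) * (2 * r + 3) = 0 := by linarith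
      rcases mul_eq_zero.1 this with e | e <;> omega
  obtain ⟨Γ₀⟩ := exists_orbital θ ψ hθψ hθ1 hψ1 hπ hww hw
  obtain ⟨r₀, j₀, k₀, b₀, q₀, -⟩ := key Γ₀
  obtain ⟨r₁, j₁, k₁, b₁, q₁, -⟩ := key Γ₀.compl
  have hsumk : (Γ₀.deg a₀ : ℤ) + Γ₀.compl.deg a₀ + 1 = 3 * p := by
    have := Γ₀.deg_compl a₀
    omega
  obtain ⟨Γ, r, hk, hq, R, S, lam, mu, hR, hS, hsum, hprod, hl, hm, hRS, hθ, hsec⟩ :
      ∃ (Γ : Orbital G α) (r : ℤ), (Γ.deg a₀ : ℤ) = r + p ∧ 2 * (p : ℤ) = 6 * r ^ 2 + 3 * r + 1 ∧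
        ∃ (R S : ℝ) (lam mu : ℕ), R = r ∧ S = ((-1 - 2 * r : ℤ) : ℝ) ∧
          R + S = (lam : ℝ) - mu ∧ R * S = (mu : ℝ) - Γ.deg a₀ ∧
          (∀ i j, Γ.adj i j → (Finset.univ.filter fun z => Γ.adj i z ∧ Γ.adj z j).card = lam) ∧
          (∀ i j, i ≠ j → ¬Γ.adj i j → (Finset.univ.filter fun z => Γ.adj i z ∧ Γ.adj z j).card = mu) ∧
          R ≠ S ∧
          (∀ g : G, (θ : G → ℂ) g = (((R - S)⁻¹ *
            ((((Finset.univ.filter fun i => Γ.adj (g⁻¹ • i) i).card : ℕ) : ℝ) -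
              S * (Nat.card (MulAction.fixedBy α g) : ℝ) - ((Γ.deg a₀ : ℝ) - S)) : ℝ) : ℂ)) ∧
          (∀ g : G, Fintype.card α ^ 2 * p * ∑ a : α, ∑ a' : α, joint α g a a' ^ 2 ≤
            (Finset.univ.filter (IsConj g)).card ^ 2 * Nat.card (MulAction.fixedBy α g) ^ 2 *
              (p * Nat.card (MulAction.fixedBy α g) ^ 2 +
                (Fintype.card α - Nat.card (MulAction.fixedBy α g)) ^ 2)) := by
    have pick : ∀ Γ : Orbital G α, ∀ r j : ℤ, (Γ.deg a₀ : ℤ) = r + j * p → 4 * r ^ 2 ≤ 5 * (p : ℤ) → j = 1 →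
        ∀ r' j' : ℤ, (Γ.deg a₀ : ℤ) = r' + j' * p → 4 * r' ^ 2 ≤ 5 * (p : ℤ) → j' = 1 := by
      intro Γ r j hk hr hj r' j' hk' hr'
      subst hj
      have hp5' : (5 : ℤ) ≤ p := by exact_mod_cast hp5
      have h1 : 2 * r ≤ p ∧ -(p : ℤ) ≤ 2 * r := by constructor <;> nlinarith
      have h2 : 2 * r' ≤ p ∧ -(p : ℤ) ≤ 2 * r' := by constructor <;> nlinarith
      by_contra hne
      rcases (show j' ≤ 0 ∨ 2 ≤ j' by omega) with e | e
      · have : j' * (p : ℤ) ≤ 0 := mul_nonpos_of_nonpos_of_nonneg e (by positivity)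
        have hpar : r = r' + j' * p - p := by omega
        rcases eq_or_lt_of_le e with e0 | e0
        · subst e0
          have h3 : 2 * r = -(p : ℤ) := by omega
          have h4 : (p : ℤ) ≤ 5 := by nlinarith
          omega
        · have : j' * (p : ℤ) ≤ -1 * p := mul_le_mul_of_nonneg_right (by omega) (by positivity)
          omega
      · have : 2 * (p : ℤ) ≤ j' * p := mul_le_mul_of_nonneg_right e (by positivity)
        rcases eq_or_lt_of_le e with e0 | e0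
        · subst e0
          have h3 : 2 * r = (p : ℤ) := by omega
          have h4 : (p : ℤ) ≤ 5 := by nlinarith
          omega
        · have : 3 * (p : ℤ) ≤ j' * p := mul_le_mul_of_nonneg_right (by omega) (by positivity)
          omega
    obtain ⟨Γ, r, j, hk, hr, hj⟩ : ∃ (Γ : Orbital G α) (r j : ℤ), (Γ.deg a₀ : ℤ) = r + j * p ∧
        4 * r ^ 2 ≤ 5 * (p : ℤ) ∧ j = 1 := by
      rcases rest Γ₀ r₀ j₀ k₀ b₀ q₀ with e | e
      · exact ⟨Γ₀, r₀, j₀, k₀, b₀, e⟩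
      rcases rest Γ₀.compl r₁ j₁ k₁ b₁ q₁ with e' | e'
      · exact ⟨Γ₀.compl, r₁, j₁, k₁, b₁, e'⟩
      exfalso
      subst e e'
      have hp5' : (5 : ℤ) ≤ p := by exact_mod_cast hp5
      have : r₀ + r₁ = -(p : ℤ) - 1 := by omega
      nlinarith [sq_nonneg (r₀ - r₁)]
    obtain ⟨r', j', hk', hr', hq', hrest⟩ := key Γ
    obtain rfl := pick Γ r j hk hr hj r' j' hk' hr'
    refine ⟨Γ, r', by rw [hk']; ring, by linear_combination hq', ?_⟩
    exact hrest
  refine ⟨Γ, r, lam, mu, hk, ?_, hq, ?_, ?_, hl, hm, fun g => ?_, hsec⟩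
  · have := Γ.deg_compl a₀
    omega
  · apply Int.cast_injective (α := ℝ)
    rw [hR, hS] at hsum
    push_cast at hsum ⊢
    linear_combination -hsum
  · apply Int.cast_injective (α := ℝ)
    rw [hR, hS] at hprod
    push_cast at hprod ⊢
    linear_combination -hprod
  · set F := Nat.card (MulAction.fixedBy α g)
    set N := (Finset.univ.filter fun i => Γ.adj (g⁻¹ • i) i).card
    have hNF : N + F ≤ 3 * p := by
      have hd : Disjoint (Finset.univ.filter fun i => Γ.adj (g⁻¹ • i) i)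
          (Finset.univ.filter fun i : α => g⁻¹ • i = i) :=
        Finset.disjoint_left.2 fun i hi hi' => Γ.irrefl i (by
          have := (Finset.mem_filter.1 hi).2
          rwa [(Finset.mem_filter.1 hi').2] at this)
      have := Finset.card_le_univ (Finset.disjUnion _ _ hd)
      rw [Finset.card_disjUnion, hα] at this
      have hF' : (Finset.univ.filter fun i : α => g⁻¹ • i = i).card = F := by
        show _ = Nat.card _
        rw [Nat.card_eq_fintype_card, ← Set.toFinset_card]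
        congr 1
        ext i
        simp only [Finset.mem_filter, Finset.mem_univ, true_and, Set.mem_toFinset, MulAction.mem_fixedBy,
          inv_smul_eq_iff]
        exact eq_comm
      omega
    set q : ℚ := ((3 * r + 1 : ℤ) : ℚ)⁻¹ * (((N : ℤ) + (2 * r + 1) * ((F : ℤ) - 1) - (r + p) : ℤ) : ℚ) with hqdef
    have h31 : (3 * r + 1 : ℤ) ≠ 0 := by omega
    have e1 : (θ : G → ℂ) g = (q : ℂ) := by
      rw [hθ g, hR, hS, show ((Γ.deg a₀ : ℕ) : ℝ) = ((r + p : ℤ) : ℝ) by rw [← hk]; norm_cast, hqdef]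
      simp only [N, F]
      push_cast
      ring
    obtain ⟨z, hz⟩ := int_of_isIntegral_rat (e1 ▸ IsCharacter.isIntegral (isCharacter_of_irr θ.2) g)
    refine ⟨z, N, hNF, by rw [e1, hz, Rat.cast_intCast], ?_⟩
    apply Int.cast_injective (α := ℚ)
    rw [Int.cast_mul, ← hz, hqdef, ← mul_assoc, mul_inv_cancel₀ (by exact_mod_cast h31), one_mul]

end Cfsg.Lib.PermGroups.DegreeThriceP
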