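import Cfsg.Agent.PermGroups.DegreeThriceP.Common
import Cfsg.Agent.PermGroups.PrimeExceptional.Recognize
import Mathlib.GroupTheory.Transfer
import Mathlib.GroupTheory.GroupAction.Primitive
import Mathlib.LinearAlgebra.Matrix.SpecialLinearGroup
import Mathlib.FieldTheory.Finite.Basic

/-!
# A nonexceptional character of degree `p - 1`
-/

set_option autoImplicit false
set_option linter.unusedSectionVars false
set_option maxHeartbeats 1000000

namespace Cfsg.Lib.PermGroups.DegreeThriceP

open Cfsg.Lib.Chars Cfsg.Lib.PermGroups.PrimeExceptional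
open scoped ComplexConjugate _root_.Classical MatrixGroups

universe u v

/-- `SL(2, q)`, `q` even, has no maximal subgroup of index `3 (q + 1)`. -/
theorem sl_no_maximal {F : Type} [Field F] [Fintype F] {p a : ℕ} (hp : p.Prime) (hp3 : 3 < p)
    (hpa : p = 2 ^ a + 1) (hq : Fintype.card F = 2 ^ a) (hL : Nat.card SL(2, F) = p * (p - 1) * (p - 2))
    (H : Subgroup SL(2, F)) (hH : IsCoatom H) (hi : H.index = 3 * p) : False := by
  have : Fact (Nat.Prime 2) := ⟨Nat.prime_two⟩
  set q := 2 ^ a with hqdef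
  have hq' : p - 1 = q := by omega
  have ha : a ≠ 0 := by
    rintro rfl
    rw [pow_zero] at hqdef
    omega
  let up : F → SL(2, F) := fun x => ⟨!![1, x; 0, 1], by simp [Matrix.det_fin_two]⟩
  have hup : ∀ x y, up x * up y = up (x + y) := fun x y => Subtype.ext (by
    show (!![1, x; 0, 1] : Matrix (Fin 2) (Fin 2) F) * !![1, y; 0, 1] = !![1, x + y; 0, 1]
    ext i j; fin_cases i <;> fin_cases j <;> simp [Matrix.mul_apply, Fin.sum_univ_two, add_comm])
  have hup0 : up 0 = 1 := Subtype.ext (by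
    show (!![1, 0; 0, 1] : Matrix (Fin 2) (Fin 2) F) = 1
    ext i j; fin_cases i <;> fin_cases j <;> simp)
  have hupinj : Function.Injective up := fun x y e => by
    simpa [up] using congrFun (congrFun (congrArg Subtype.val e) 0) 1
  let U : Subgroup SL(2, F) :=
    { carrier := Set.range up
      mul_mem' := by rintro _ _ ⟨x, rfl⟩ ⟨y, rfl⟩; exact ⟨x + y, (hup x y).symm⟩
      one_mem' := ⟨0, hup0⟩
      inv_mem' := by
        rintro _ ⟨x, rfl⟩
        exact ⟨-x, eq_inv_of_mul_eq_one_left (by rw [hup, neg_add_cancel, hup0])⟩ }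
  have hUcard : Nat.card U = q := by
    rw [← hq, ← Nat.card_eq_fintype_card]
    exact (Nat.card_congr (Equiv.ofInjective up hupinj)).symm
  have hUp : IsPGroup 2 U := IsPGroup.of_card hUcard
  -- a conjugate of `U` lies in `H`
  obtain ⟨x, hx⟩ : ∃ x : SL(2, F), ∀ u ∈ U, x * u * x⁻¹ ∈ H := by
    obtain ⟨S, hS⟩ := hUp.exists_le_sylow
    let T : Sylow 2 H := default
    have hT : IsPGroup 2 ((T : Subgroup H).map H.subtype) := T.isPGroup'.map _
    have hidx : ¬2 ∣ ((T : Subgroup H).map H.subtype).index := by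
      rw [Subgroup.index_map_subtype, hi]
      intro e
      rcases (Nat.prime_two.dvd_mul.1 e) with e | e
      · exact T.not_dvd_index e
      · rcases (Nat.prime_two.dvd_mul.1 e) with e | e
        · omega
        · have := hp.eq_one_or_self_of_dvd 2 e; omega
    obtain ⟨x, hx⟩ := MulAction.exists_smul_eq SL(2, F) S (hT.toSylow hidx)
    refine ⟨x, fun u hu => ?_⟩
    have h1 : x * u * x⁻¹ ∈ (x • S : Sylow 2 SL(2, F)).toSubgroup := by
      rw [Sylow.coe_subgroup_smul, Subgroup.mem_pointwise_smul_iff_inv_smul_mem]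
      have : (MulAut.conj x)⁻¹ • (x * u * x⁻¹) = u := by
        simp [MulAut.smul_def, mul_assoc]
      rw [this]
      exact hS hu
    rw [hx] at h1
    obtain ⟨z, -, hz⟩ := (h1 : x * u * x⁻¹ ∈ (T : Subgroup H).map H.subtype)
    rw [← hz]
    exact z.2
  let e : SL(2, F) ≃* SL(2, F) := MulAut.conj x⁻¹
  let H' : Subgroup SL(2, F) := e.mapSubgroup H
  have hH' : IsCoatom H' := (OrderIso.isCoatom_iff e.mapSubgroup H).2 hH
  have hi' : H'.index = 3 * p := by
    rw [show H' = H.map e.toMonoidHom from rfl, ← hi]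
    exact Subgroup.index_map_of_bijective (f := e.toMonoidHom) e.bijective H
  have hUH : ∀ y, up y ∈ H' := fun y => by
    refine ⟨x * up y * x⁻¹, hx _ ⟨y, rfl⟩, ?_⟩
    show x⁻¹ * (x * up y * x⁻¹) * x⁻¹⁻¹ = up y
    group
  -- the Borel subgroup
  let B : Subgroup SL(2, F) :=
    { carrier := {g | (g : Matrix (Fin 2) (Fin 2) F) 1 0 = 0}
      mul_mem' := by
        intro g k (hg : (g : Matrix (Fin 2) (Fin 2) F) 1 0 = 0) (hk : (k : Matrix (Fin 2) (Fin 2) F) 1 0 = 0)
        show ((g * k : SL(2, F)) : Matrix (Fin 2) (Fin 2) F) 1 0 = 0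
        simp [Matrix.mul_apply, Fin.sum_univ_two, hg, hk]
      one_mem' := by
        show ((1 : SL(2, F)) : Matrix (Fin 2) (Fin 2) F) 1 0 = 0
        simp
      inv_mem' := by
        intro g' (hg : (g' : Matrix (Fin 2) (Fin 2) F) 1 0 = 0)
        have e : ((g'⁻¹ : SL(2, F)) : Matrix (Fin 2) (Fin 2) F) = (g' : Matrix (Fin 2) (Fin 2) F).adjugate :=
          Matrix.SpecialLinearGroup.coe_inv g'
        refine (congrFun (congrFun e 1) 0).trans ?_
        rw [Matrix.adjugate_fin_two]
        simp [hg] }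
  have hBcard : q * (q - 1) ≤ Nat.card B := by
    let f : F × Fˣ → B := fun z => ⟨⟨!![(z.2 : F), z.1; 0, ((z.2⁻¹ : Fˣ) : F)], by simp [Matrix.det_fin_two]⟩,
      (rfl : (!![(z.2 : F), z.1; 0, ((z.2⁻¹ : Fˣ) : F)] : Matrix (Fin 2) (Fin 2) F) 1 0 = 0)⟩
    have hf : Function.Injective f := fun z z' e => by
      have e' := congrArg (fun b : B => ((b : SL(2, F)) : Matrix (Fin 2) (Fin 2) F)) e
      have e01 := congrFun (congrFun e' 0) 1
      have e00 := congrFun (congrFun e' 0) 0
      simp [f] at e01 e00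
      exact Prod.ext e01 (Units.ext e00)
    have := Nat.card_le_card_of_injective f hf
    rwa [Nat.card_prod, Nat.card_units, Nat.card_eq_fintype_card (α := F), hq] at this
  have hLq : Nat.card SL(2, F) = (q + 1) * (q * (q - 1)) := by
    rw [hL, hpa, show q + 1 - 1 = q by omega, show q + 1 - 2 = q - 1 by omega, mul_assoc]
  have hqpos : 0 < q * (q - 1) := by
    have : 2 ≤ q := Nat.le_self_pow ha 2
    exact Nat.mul_pos (by omega) (by omega)
  have hBidx : B.index ≤ q + 1 := by
    have h1 := B.card_mul_index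
    rw [hLq] at h1
    have : q * (q - 1) * B.index ≤ q * (q - 1) * (q + 1) := by
      rw [mul_comm (q * (q - 1)) (q + 1), ← h1]
      exact Nat.mul_le_mul_right _ hBcard
    exact Nat.le_of_mul_le_mul_left this hqpos
  have hHcard : Nat.card H' * 3 = q * (q - 1) := by
    have h1 := H'.card_mul_index
    rw [hi', hLq, hpa] at h1
    refine Nat.eq_of_mul_eq_mul_right (Nat.succ_pos q) ?_
    linarith
  have hw : (⟨!![0, -1; 1, 0], by simp [Matrix.det_fin_two]⟩ : SL(2, F)) ∉ B := fun e => by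
    exact one_ne_zero (show (1 : F) = 0 from e)
  by_cases hle : H' ≤ B
  · rcases eq_or_lt_of_le hle with e | e
    · rw [← e] at hBcard
      omega
    · exact hw ((hH'.2 B e).symm ▸ Subgroup.mem_top (G := SL(2, F)) _)
  obtain ⟨g, hgH, hgB⟩ := SetLike.not_le_iff_exists.1 hle
  let ι : Option F → MulAction.orbit H' ((1 : SL(2, F)) : SL(2, F) ⧸ B) := fun z =>
    match z with
    | none => ⟨((1 : SL(2, F)) : SL(2, F) ⧸ B), MulAction.mem_orbit_self _⟩
    | some y => ⟨((up y * g : SL(2, F)) : SL(2, F) ⧸ B), ⟨⟨up y * g, mul_mem (hUH y) hgH⟩, by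
        show ((up y * g * 1 : SL(2, F)) : SL(2, F) ⧸ B) = _
        rw [mul_one]⟩⟩
  have hgB' : (g : Matrix (Fin 2) (Fin 2) F) 1 0 ≠ 0 := hgB
  have hupB : ∀ y, up y ∈ B := fun y => by
    show (!![1, y; 0, 1] : Matrix (Fin 2) (Fin 2) F) 1 0 = 0
    rfl
  have hι : Function.Injective ι := by
    intro z z' e
    replace e := congrArg Subtype.val e
    cases z with
    | none =>
      cases z' with
      | none => rfl
      | some y =>
        exfalso
        have := QuotientGroup.eq.1 e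
        rw [inv_one, one_mul] at this
        exact hgB ((Subgroup.mul_mem_cancel_left B (hupB y)).1 this)
    | some y =>
      cases z' with
      | none =>
        exfalso
        have := QuotientGroup.eq.1 e.symm
        rw [inv_one, one_mul] at this
        exact hgB ((Subgroup.mul_mem_cancel_left B (hupB y)).1 this)
      | some y' =>
        have h0 := QuotientGroup.eq.1 e
        have h1 : (up y * g)⁻¹ * (up y' * g) = g⁻¹ * up (y' - y) * g := by
          have : (up y)⁻¹ * up y' = up (y' - y) := by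
            rw [inv_mul_eq_iff_eq_mul, hup, add_sub_cancel]
          rw [← this]; group
        rw [h1] at h0
        have h2 : ((g⁻¹ * up (y' - y) * g : SL(2, F)) : Matrix (Fin 2) (Fin 2) F) 1 0 = 0 := h0
        rw [Matrix.SpecialLinearGroup.coe_mul, Matrix.SpecialLinearGroup.coe_mul,
          Matrix.SpecialLinearGroup.coe_inv, Matrix.adjugate_fin_two] at h2
        simp [up, Matrix.mul_apply, Fin.sum_univ_two] at h2
        have h3 : (y' - y) * ((g : Matrix (Fin 2) (Fin 2) F) 1 0 * (g : Matrix (Fin 2) (Fin 2) F) 1 0) = 0 := by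
          linear_combination -h2
        rw [mul_eq_zero, sub_eq_zero] at h3
        exact congrArg some ((h3.resolve_right (mul_ne_zero hgB' hgB')).symm)
  have h1 := Nat.card_le_card_of_injective ι hι
  rw [Finite.card_option, Nat.card_eq_fintype_card (α := F), hq] at h1
  have h2 : Nat.card (MulAction.orbit H' ((1 : SL(2, F)) : SL(2, F) ⧸ B)) ≤ B.index := by
    rw [Subgroup.index]
    exact Finite.card_subtype_le _
  have h3 : Nat.card (MulAction.orbit H' ((1 : SL(2, F)) : SL(2, F) ⧸ B)) ∣ Nat.card H' := by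
    rw [← Nat.card_congr (MulAction.orbitProdStabilizerEquivGroup H' ((1 : SL(2, F)) : SL(2, F) ⧸ B)), Nat.card_prod]
    exact dvd_mul_right _ _
  have horb : Nat.card (MulAction.orbit H' ((1 : SL(2, F)) : SL(2, F) ⧸ B)) = p := by omega
  rw [horb] at h3
  have h4 : p ∣ q * (q - 1) := hHcard ▸ h3.mul_right 3
  rcases hp.dvd_mul.1 h4 with h5 | h5
  · have := Nat.le_of_dvd (by positivity) h5
    omega
  · have : 2 ≤ q := Nat.le_self_pow ha 2
    have := Nat.le_of_dvd (by omega) h5
    omega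

variable {G : Type u} [Group G] [Fintype G] {p : ℕ} [Fact p.Prime] {h : Setting G p}
  {θ : Cfsg.IrrCharacter G} {μ : ZMod p → Cfsg.IrrCharacter G}

theorem exc_format (hx : h.Exc (p - 1) θ μ) (hp3 : 3 < p) :
    ∀ l, l ≠ 0 → μ l ≠ principal G ∧ (μ l : G → ℂ) 1 = ((p - 2 : ℕ) : ℂ) ∧
      (∀ g, ¬h.Sing g → (μ l : G → ℂ) g = (θ : G → ℂ) g - 1) ∧
      (∀ y : h.P, (y : G) ≠ 1 → (μ l : G → ℂ) y = -(h.E l y + h.E (-l) y)) ∧
      h.I l = (fun _ => (1 : ℂ)) - (θ : G → ℂ) + (μ l : G → ℂ) := fun l hl => by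
  refine ⟨(hx.μ_ne l hl).2, ?_, hx.μ_ns l hl, hx.μ_P l hl, hx.I_eq l hl⟩
  rw [hx.μ_one hl, Nat.cast_sub (by omega : 1 ≤ p), Nat.cast_sub (by omega : 2 ≤ p)]
  push_cast
  ring

/-- For `p = 5` the group has order at most `60`. -/
theorem card_le_sixty (hx : h.Exc (p - 1) θ μ) (hp5 : p = 5)
    (hmin : ∀ K : Subgroup G, K.Normal → h.t ∉ K → K = ⊥) : Nat.card G ≤ 60 := by
  subst hp5
  have h10 : (1 : ZMod 5) ≠ 0 := one_ne_zero
  have hfmt := exc_format hx (by norm_num)
  obtain ⟨n, hn⟩ : ∃ n : G → ℤ, ∀ g, (θ : G → ℂ) g = n g :=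
    ⟨fun g => Classical.choose (h.θ_int hfmt g), fun g => Classical.choose_spec (h.θ_int hfmt g)⟩
  set S := Finset.univ.filter (fun g => ¬h.Sing g) with hS
  set M : G → ℂ := (μ 1 : G → ℂ) with hM
  set M₂ : G → ℂ := (μ 2 : G → ℂ) with hM₂
  have hMc := isClassFunction_irr (μ 1)
  have hM2c := isClassFunction_irr (μ 2)
  have hns : ∀ g ∈ S, M g = ((n g - 1 : ℤ) : ℂ) := fun g hg => by
    rw [hM, hx.μ_ns 1 h10 g (Finset.mem_filter.1 hg).2, hn]; push_cast; ring
  have h20 : (2 : ZMod 5) ≠ 0 := fun e => by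
    have h2 := (ZMod.natCast_eq_zero_iff 2 5).1 (by exact_mod_cast e)
    norm_num at h2
  have h30 : (3 : ZMod 5) ≠ 0 := fun e => by
    have h2 := (ZMod.natCast_eq_zero_iff 3 5).1 (by exact_mod_cast e)
    norm_num at h2
  have h40 : (4 : ZMod 5) ≠ 0 := fun e => by
    have h2 := (ZMod.natCast_eq_zero_iff 4 5).1 (by exact_mod_cast e)
    norm_num at h2
  have hns2 : ∀ g ∈ S, M₂ g = ((n g - 1 : ℤ) : ℂ) := fun g hg => by
    rw [hM₂, hx.μ_ns 2 h20 g (Finset.mem_filter.1 hg).2, hn]; push_cast; ring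
  have hreal : ∀ g, conj (M g) = M g := by
    intro g
    by_cases hg : h.Sing g
    · obtain ⟨h1, x, hx'⟩ := hg
      have e := hMc g x⁻¹
      rw [inv_inv] at e
      have hne1 : x⁻¹ * g * x ≠ 1 := fun e => h1 ((conj_eq_one_iff (a := x⁻¹) (b := g)).1 (by rwa [inv_inv]))
      rw [hM, ← e, hx.μ_P 1 h10 ⟨_, hx'⟩ hne1]
      simp only [map_neg, map_add, Setting.conj_E, neg_neg]
      ring
    · rw [hns g (Finset.mem_filter.2 ⟨Finset.mem_univ _, hg⟩), map_intCast]
  have hreal2 : ∀ g, conj (M₂ g) = M₂ g := by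
    intro g
    by_cases hg : h.Sing g
    · obtain ⟨h1, x, hx'⟩ := hg
      have e := hM2c g x⁻¹
      rw [inv_inv] at e
      have hne1 : x⁻¹ * g * x ≠ 1 := fun e => h1 ((conj_eq_one_iff (a := x⁻¹) (b := g)).1 (by rwa [inv_inv]))
      rw [hM₂, ← e, hx.μ_P 2 h20 ⟨_, hx'⟩ hne1]
      simp only [map_neg, map_add, Setting.conj_E, neg_neg]
      ring
    · rw [hns2 g (Finset.mem_filter.2 ⟨Finset.mem_univ _, hg⟩), map_intCast]
  have hL : (Nat.card G : ℂ) ≠ 0 := by exact_mod_cast Nat.card_pos.ne'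
  have hy : ∀ y : h.P, y ≠ 1 → M y = -(h.E 1 y + h.E (-1) y) ∧ M₂ y = -(h.E 2 y + h.E (-2) y) := fun y hy1 =>
    ⟨hx.μ_P 1 h10 y fun e => hy1 (Subtype.ext e), hx.μ_P 2 h20 y fun e => hy1 (Subtype.ext e)⟩
  have hE : ∀ k : ZMod 5, k ≠ 0 → ∑ y ∈ Finset.univ.erase 1, h.E k y = -1 := fun k hk => by
    rw [Finset.sum_erase_eq_sub (Finset.mem_univ 1), h.sum_E_P hk, map_one, zero_sub]
  have hcard : ((Finset.univ : Finset h.P).erase 1).card = 4 := by
    rw [Finset.card_erase_of_mem (Finset.mem_univ _), Finset.card_univ, ← Nat.card_eq_fintype_card, h.card_P]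
  have hsumP : ∀ F : G → ℂ, ∑ y : h.P, F y - F 1 = ∑ y ∈ (Finset.univ : Finset h.P).erase 1, F y := fun F => by
    rw [← Finset.add_sum_erase Finset.univ (fun y : h.P => F y) (Finset.mem_univ 1), OneMemClass.coe_one,
      add_sub_cancel_left]
  have hn1 : n 1 = 4 := by
    have e := hn 1
    rw [hx.θ_one] at e
    exact_mod_cast e.symm
  -- first, second and third moments
  have hm1 : 5 * ∑ g ∈ S, (n g - 1) = -(Nat.card G : ℤ) := by
    have hzero : ∑ g : G, M g = 0 := by
      have e := classInner_irr_ne (hx.μ_ne 1 h10).2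
      rw [classInner_def, inv_mul_eq_iff_eq_mul₀ hL, mul_zero] at e
      rw [← e]
      exact Finset.sum_congr rfl fun g _ => by simp [M, principal]
    have e := h.sum_nonsing hMc
    rw [show ∑ g : G, (μ 1 : G → ℂ) g = 0 from hzero, hsumP, Finset.sum_congr rfl fun y hy' => (hy y (Finset.mem_erase.1 hy').1).1,
      Finset.sum_neg_distrib, Finset.sum_add_distrib, hE 1 h10, hE (-1) (neg_ne_zero.2 h10),
      Finset.sum_congr rfl hns] at e
    apply Int.cast_injective (α := ℂ)
    push_cast at e ⊢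
    linear_combination 5 * e
  have hm2 : 5 * ∑ g ∈ S, (n g - 1) ^ 2 = 2 * (Nat.card G : ℤ) := by
    let F : G → ℂ := fun g => M g * M g
    have hF : Cfsg.IsClassFunction G F := fun a c => by simp only [F, M, hMc a c]
    have hsum : ∑ g : G, F g = Nat.card G := by
      have e := classInner_irr_self (μ 1)
      rw [classInner_def, inv_mul_eq_iff_eq_mul₀ hL, mul_one] at e
      rw [← e]
      exact Finset.sum_congr rfl fun g _ => by rw [show conj ((μ 1 : G → ℂ) g) = (μ 1 : G → ℂ) g from hreal g]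
    have hy2 : ∀ y ∈ (Finset.univ : Finset h.P).erase 1, F y = h.E (1 + 1) y + 2 + h.E (-(1 + 1)) y := by
      intro y hy'
      simp only [F, (hy y (Finset.mem_erase.1 hy').1).1]
      rw [show (-(1 + 1) : ZMod 5) = -1 + -1 from neg_add 1 1, ← h.E_mul 1 1, ← h.E_mul (-1) (-1)]
      have hu : h.E 1 y * h.E (-1) y = 1 := by rw [h.E_mul, add_neg_cancel, Setting.E_zero]
      linear_combination 2 * hu
    have h2 : (1 + 1 : ZMod 5) ≠ 0 := by rw [one_add_one_eq_two]; exact h20
    have e := h.sum_nonsing hF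
    rw [hsum, hsumP, Finset.sum_congr rfl hy2, Finset.sum_add_distrib, Finset.sum_add_distrib, hE _ h2,
      hE _ (neg_ne_zero.2 h2), Finset.sum_const, hcard, nsmul_eq_mul,
      Finset.sum_congr rfl fun g hg => (by simp only [F, hns g hg] :
        F g = ((n g - 1 : ℤ) : ℂ) * ((n g - 1 : ℤ) : ℂ))] at e
    apply Int.cast_injective (α := ℂ)
    push_cast at e ⊢
    simp only [pow_two]
    linear_combination 5 * e
  have hm3 : 5 * ∑ g ∈ S, (n g - 1) ^ 3 ≥ (Nat.card G : ℤ) := by
    have hsq : Cfsg.IsCharacter G (M * M) :=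
      IsCharacter.mul (isCharacter_of_irr (μ 1).2) (isCharacter_of_irr (μ 1).2)
    obtain ⟨q', hq'⟩ := IsCharacter.exists_mult hsq (μ 2).2
    rw [classInner_def, inv_mul_eq_iff_eq_mul₀ hL] at hq'
    let F : G → ℂ := fun g => M g * M g * M₂ g
    have hF : Cfsg.IsClassFunction G F := fun a c => by simp only [F, M, M₂, hMc a c, hM2c a c]
    have hsum : ∑ g : G, F g = Nat.card G * q' := by
      rw [← hq']
      exact Finset.sum_congr rfl fun g _ => by
        simp only [F, Pi.mul_apply]; rw [show conj ((μ 2 : G → ℂ) g) = M₂ g from hreal2 g]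
    have hy3 : ∀ y ∈ (Finset.univ : Finset h.P).erase 1,
        F y = -(h.E 4 y + h.E (-4) y + 2 + 2 * h.E 2 y + 2 * h.E (-2) y) := by
      intro y hy'
      obtain ⟨e1, e2⟩ := hy y (Finset.mem_erase.1 hy').1
      simp only [F, e1, e2]
      have k2 : h.E 2 y = h.E 1 y * h.E 1 y := by rw [h.E_mul]; norm_num
      have k2' : h.E (-2) y = h.E (-1) y * h.E (-1) y := by rw [h.E_mul]; norm_num
      have k4 : h.E 4 y = h.E 1 y * h.E 1 y * (h.E 1 y * h.E 1 y) := by rw [← k2, h.E_mul]; norm_num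
      have k4' : h.E (-4) y = h.E (-1) y * h.E (-1) y * (h.E (-1) y * h.E (-1) y) := by
        rw [← k2', h.E_mul]; norm_num
      rw [k2, k2', k4, k4']
      have hu : h.E 1 y * h.E (-1) y = 1 := by rw [h.E_mul, add_neg_cancel, Setting.E_zero]
      linear_combination (-2 * h.E 1 y ^ 2 - 2 * h.E (-1) y ^ 2 - 2 * (h.E 1 y * h.E (-1) y + 1)) * hu
    have e := h.sum_nonsing hF
    rw [hsum, hsumP, Finset.sum_congr rfl hy3, Finset.sum_neg_distrib, Finset.sum_add_distrib,
      Finset.sum_add_distrib, Finset.sum_add_distrib, Finset.sum_add_distrib, ← Finset.mul_sum, ← Finset.mul_sum,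
      hE _ h40, hE _ (neg_ne_zero.2 h40), hE _ h20, hE _ (neg_ne_zero.2 h20), Finset.sum_const, hcard,
      nsmul_eq_mul, Finset.sum_congr rfl fun g hg => (by simp only [F, hns g hg, hns2 g hg] :
        F g = ((n g - 1 : ℤ) : ℂ) * ((n g - 1 : ℤ) : ℂ) * ((n g - 1 : ℤ) : ℂ))] at e
    have e' : 5 * ∑ g ∈ S, (n g - 1) ^ 3 = (Nat.card G : ℤ) * (5 * q' + 1) := by
      apply Int.cast_injective (α := ℂ)
      push_cast at e ⊢
      simp only [show ∀ z : ℂ, z ^ 3 = z * z * z from fun z => by ring]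
      linear_combination 5 * e
    rw [e']
    nlinarith
  -- a polynomial that is nonnegative off the identity
  let Q : G → ℤ := fun g => 2 * (n g - 1) + (n g - 1) ^ 2 - (n g - 1) ^ 3
  have hQ : 5 * ∑ g ∈ S, Q g ≤ -(Nat.card G : ℤ) := by
    simp only [Q, Finset.sum_sub_distrib, Finset.sum_add_distrib, ← Finset.mul_sum] at hm1 ⊢
    linarith
  have h1S : (1 : G) ∈ S := Finset.mem_filter.2 ⟨Finset.mem_univ _, fun e => e.1 rfl⟩
  have hQnn : ∀ g ∈ S.erase 1, 0 ≤ Q g := by
    intro g hg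
    obtain ⟨hg1, hgS⟩ := Finset.mem_erase.1 hg
    have hgns := (Finset.mem_filter.1 hgS).2
    have hrel := h.square_relation hfmt hx.inj (by norm_num) hgns
    rw [hn, hn] at hrel
    have hrel' : (n g - 1) * (n g - 1) - (n (g * g) - 1) = 2 * (n g - 1) := by exact_mod_cast hrel
    have hb : ∀ x ∈ S, |n x - 1| ≤ 3 := fun x hx' => by
      have := IsCharacter.norm_le (isCharacter_of_irr (μ 1).2) x
      rw [show (μ 1 : G → ℂ) x = ((n x - 1 : ℤ) : ℂ) from hns x hx', (hfmt 1 h10).2.1, Complex.natCast_re,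
        Complex.norm_intCast] at this
      exact_mod_cast this
    have b1 := abs_le.1 (hb g hgS)
    have b2 := abs_le.1 (hb (g * g) (Finset.mem_filter.2 ⟨Finset.mem_univ _, h.not_sing_mul_self hgns⟩))
    have hne3 : n g - 1 ≠ 3 := fun e => value_ne hx (by norm_num) hmin hg1 (by
      rw [hn, show n g = 4 by omega]; norm_num)
    have hlo : -1 ≤ n g - 1 := by
      by_contra hc
      push Not at hc
      nlinarith
    simp only [Q]
    rcases (show n g - 1 = -1 ∨ n g - 1 = 0 ∨ n g - 1 = 1 ∨ n g - 1 = 2 by omega) with e | e | e | e <;>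
      rw [e] <;> norm_num
  have hQ1 : Q 1 = -12 := by simp only [Q, hn1]; norm_num
  have hpos := Finset.sum_nonneg hQnn
  rw [← Finset.add_sum_erase S Q h1S, hQ1] at hQ
  have : (Nat.card G : ℤ) ≤ 60 := by linarith
  exact_mod_cast this

/-- A maximal point stabiliser rules out degree `p - 1`. -/
theorem false_of_small [IsSimpleGroup G] {α : Type v} [MulAction G α] [Fintype α]
    [MulAction.IsPreprimitive G α] (hx : h.Exc (p - 1) θ μ) (hp3 : 3 < p) (hα : Fintype.card α = 3 * p)
    (P : Sylow p G) (hP : (P : Subgroup G) = h.P)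
    (hmin : ∀ K : Subgroup G, K.Normal → h.t ∉ K → K = ⊥) : False := by
  have hp := (Fact.out : p.Prime)
  have : Nonempty α := Fintype.card_pos_iff.1 (by omega)
  obtain ⟨a⟩ := this
  have : Nontrivial α := Fintype.one_lt_card_iff_nontrivial.1 (by omega)
  have hH := MulAction.IsPreprimitive.isCoatom_stabilizer_of_isPreprimitive G a
  have hi : (MulAction.stabilizer G a).index = 3 * p := by
    rw [MulAction.index_stabilizer_of_transitive, Nat.card_eq_fintype_card, hα]
  have hfmt := exc_format hx hp3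
  rcases (show p = 5 ∨ 5 < p by
    have : p ≠ 4 := fun e => by rw [e] at hp; norm_num at hp
    omega) with h5 | h5
  swap
  · obtain ⟨r, F, iF, iFF, hpa, hq, ⟨e⟩⟩ := h.exists_iso_sl hfmt hx.inj h5 hmin
    refine sl_no_maximal hp hp3 hpa hq ?_ (e.mapSubgroup (MulAction.stabilizer G a))
      ((OrderIso.isCoatom_iff e.mapSubgroup _).2 hH) ?_
    · rw [← Nat.card_congr e.toEquiv]
      exact h.order_eq hfmt hx.inj h5 (h.θ_int hfmt) hmin
    · rw [← hi]
      exact Subgroup.index_map_of_bijective (f := e.toMonoidHom) e.bijective _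
  -- order `60` with a point stabiliser of order four
  have h60 := card_le_sixty hx h5 hmin
  obtain ⟨n, hn, hn1⟩ := card_eq_two_mul h P hP
  have hGs := (MulAction.stabilizer G a).card_mul_index
  rw [hi] at hGs
  subst h5
  set H := MulAction.stabilizer G a with hHdef
  have hH4 : Nat.card H = 4 := by omega
  have : Fact (Nat.Prime 2) := ⟨Nat.prime_two⟩
  let T : Sylow 2 G := (IsPGroup.of_card (n := 2) (show Nat.card H = 2 ^ 2 by rw [hH4]; norm_num)).toSylow
    (by rw [hi]; norm_num)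
  have hN : Subgroup.normalizer (H : Set G) = H := by
    rcases eq_or_lt_of_le (Subgroup.le_normalizer (H := H)) with e | e
    · exact e.symm
    · exfalso
      have hn' : H.Normal := Subgroup.normalizer_eq_top_iff.1 (hH.2 _ e)
      rcases IsSimpleGroup.eq_bot_or_eq_top_of_normal H hn' with e' | e'
      · rw [e', Subgroup.card_bot] at hH4; omega
      · rw [e', Subgroup.index_top] at hi; omega
  have hNC : Subgroup.normalizer ((T : Subgroup G) : Set G) ≤ Subgroup.centralizer ((T : Subgroup G) : Set G) := by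
    show Subgroup.normalizer (H : Set G) ≤ Subgroup.centralizer (H : Set G)
    rw [hN]
    intro x hx'
    refine Subgroup.mem_centralizer_iff.2 fun y hy => ?_
    have := IsPGroup.commutative_of_card_eq_prime_sq (p := 2) (G := H) (by rw [hH4]; norm_num)
      ⟨y, hy⟩ ⟨x, hx'⟩
    exact congrArg Subtype.val this
  have hcompl := MonoidHom.ker_transferSylow_isComplement' T hNC
  have h3 := hcompl.card_mul
  rcases IsSimpleGroup.eq_bot_or_eq_top_of_normal (MonoidHom.transferSylow T hNC).ker inferInstance with e | e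
  · rw [e, Subgroup.card_bot, one_mul] at h3
    have : Nat.card (T : Subgroup G) = 4 := hH4
    omega
  · rw [e, Subgroup.card_top] at h3
    have : Nat.card (T : Subgroup G) = 4 := hH4
    have := Nat.card_pos (α := G)
    rw [‹Nat.card (T : Subgroup G) = 4›] at h3
    omega

end Cfsg.Lib.PermGroups.DegreeThriceP
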