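import Cfsg.Agent.PermGroups.DegreeThriceP.Parameters
import Cfsg.Agent.PermGroups.DegreeThriceP.Fifteen

/-!
# The rank three case: `p = 5` and order `360`
-/

set_option autoImplicit false
set_option linter.unusedSectionVars false
set_option maxHeartbeats 1000000

namespace Cfsg.Lib.PermGroups.DegreeThriceP

open Cfsg.Lib.Chars Cfsg.Lib.PermGroups.PrimeExceptional
open scoped ComplexConjugate _root_.Classical

universe u v

variable {G : Type u} [Group G] [Fintype G] {p : ℕ} [Fact p.Prime] {h : Setting G p}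
  {θ : Cfsg.IrrCharacter G} {μ : ZMod p → Cfsg.IrrCharacter G}

/-- The centraliser `c` of an inverting involution: `2 (p - 1) |G| = p c ² (2 p - 1)` and `c ≡ ± 2 (mod p)`. -/
theorem order_three (hx : h.Exc (2 * p - 1) θ μ) (hp3 : 3 < p) (P : Sylow p G) (hP : (P : Subgroup G) = h.P)
    {w : G} (hwN : w ∈ h.N) (hwP : w ∉ h.P) {R : ℤ} (hR : (θ : G → ℂ) w = R) :
    ∃ c : ℕ, 2 ∣ c ∧ (Nat.card G : ℤ) * (2 * ((p : ℤ) - 1)) = p * (c : ℤ) ^ 2 * (2 * p - 1) ∧
      2 * ((p : ℤ) - 1) ∣ (c : ℤ) ^ 2 ∧ ((p : ℤ) ∣ (c : ℤ) - 2 ∨ (p : ℤ) ∣ (c : ℤ) + 2) := by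
  have hp := (Fact.out : p.Prime)
  obtain ⟨j, hj, hjR⟩ := hx.inverter_value (a := 1) (by omega) hwN hwP hR
  have hord := hx.order_formula (by omega) hwN hwP hR
  set c := Nat.card (Subgroup.centralizer ({w} : Set G)) with hc
  have hbZ : ((2 * p - 1 : ℕ) : ℤ) = 2 * (p : ℤ) - 1 := by omega
  rw [hbZ] at hord
  have hpc : ¬(p : ℤ) ∣ (c : ℤ) := fun e => Setting.not_dvd_centralizer h hwN hwP (Int.natCast_dvd_natCast.1 e)
  have hpp : Prime (p : ℤ) := Nat.prime_iff_prime_int.1 hp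
  have hp0 : (p : ℤ) ≠ 0 := by exact_mod_cast hp.ne_zero
  have hp5 : (5 : ℤ) ≤ p := by
    have : p ≠ 4 := fun e => by rw [e] at hp; norm_num at hp
    omega
  rcases (show j = 0 ∨ j = 1 by omega) with rfl | rfl
  · exfalso
    have e1 : 4 * (p : ℤ) * Nat.card G = (c : ℤ) ^ 2 * (2 * p - 1) * (2 * p - 2) := by
      refine mul_left_cancel₀ hp0 ?_
      rw [hjR] at hord
      push_cast at hord
      linear_combination hord
    rcases hpp.dvd_mul.1 (show (p : ℤ) ∣ (c : ℤ) ^ 2 * (2 * p - 1) * (2 * p - 2) from ⟨4 * Nat.card G, by linarith⟩)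
      with e | e
    · rcases hpp.dvd_mul.1 e with e | e
      · exact hpc (hpp.dvd_of_dvd_pow e)
      · obtain ⟨q, hq⟩ := e
        have hd : (p : ℤ) ∣ 1 := ⟨2 - q, by linarith⟩
        have := Int.le_of_dvd one_pos hd
        omega
    · obtain ⟨q, hq⟩ := e
      have hd : (p : ℤ) ∣ 2 := ⟨2 - q, by linarith⟩
      have := Int.le_of_dvd two_pos hd
      omega
  have e1 : (Nat.card G : ℤ) * (2 * ((p : ℤ) - 1)) = p * (c : ℤ) ^ 2 * (2 * p - 1) := by
    refine mul_right_cancel₀ (show (2 * (p : ℤ) - 2) ≠ 0 by omega) ?_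
    rw [hjR] at hord
    push_cast at hord
    linear_combination hord
  have hcop : IsCoprime (2 * ((p : ℤ) - 1)) ((p : ℤ) * (2 * p - 1)) := by
    refine IsCoprime.mul_right ?_ ⟨-1, 1, by ring⟩
    obtain ⟨q, hq⟩ := hp.odd_of_ne_two (by omega)
    exact ⟨q, -((p : ℤ) - 2), by rw [hq]; push_cast; ring⟩
  have hdvd : 2 * ((p : ℤ) - 1) ∣ (c : ℤ) ^ 2 := hcop.dvd_of_dvd_mul_right ⟨Nat.card G, by linarith⟩
  refine ⟨c, Setting.two_dvd_centralizer h hwN hwP, e1, hdvd, ?_⟩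
  obtain ⟨n, hn, hn1⟩ := card_eq_two_mul h P hP
  have hn' : (p : ℤ) ∣ (n : ℤ) - 1 := ⟨(n / p : ℕ), by
    have := Nat.div_add_mod n p
    rw [hn1] at this
    have : (n : ℤ) = p * (n / p : ℕ) + 1 := by exact_mod_cast this.symm
    linarith⟩
  obtain ⟨q, hq⟩ := hn'
  have hn2 : (Nat.card G : ℤ) = 2 * p * n := by exact_mod_cast hn
  have e3 : 4 * (n : ℤ) * ((p : ℤ) - 1) = (c : ℤ) ^ 2 * (2 * p - 1) := by
    refine mul_left_cancel₀ hp0 ?_
    rw [hn2] at e1
    linear_combination e1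
  have h4 : (p : ℤ) ∣ ((c : ℤ) - 2) * ((c : ℤ) + 2) :=
    ⟨2 * (c : ℤ) ^ 2 - 4 * q * ((p : ℤ) - 1) - 4, by linear_combination e3 - 4 * ((p : ℤ) - 1) * hq⟩
  exact hpp.dvd_mul.1 h4

/-- The rank three case. -/
theorem card_eq_of_three {α : Type v} [MulAction G α] [Fintype α] [MulAction.IsPretransitive G α] [FaithfulSMul G α]
    (hx : h.Exc (2 * p - 1) θ μ) (hp3 : 3 < p) (hα : Fintype.card α = 3 * p) (hfree : ∀ a : α, h.t • a ≠ a)
    (ψ : Cfsg.IrrCharacter G) (hθψ : ψ ≠ θ) (hψ1 : ψ ≠ principal G) (hψd : (ψ : G → ℂ) 1 = (p : ℂ))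
    (hπ : permChar G α = (fun _ => (1 : ℂ)) + (θ : G → ℂ) + (ψ : G → ℂ))
    (P : Sylow p G) (hP : (P : Subgroup G) = h.P)
    (hmin : ∀ K : Subgroup G, K.Normal → h.t ∉ K → K = ⊥) : p = 5 ∧ Nat.card G = 360 := by
  have hp := (Fact.out : p.Prime)
  have hp5 : 5 ≤ p := by
    have : p ≠ 4 := fun e => by rw [e] at hp; norm_num at hp
    omega
  obtain ⟨w, hwN, hwP, hww, -⟩ := h.exists_inverter
  have hw1 : w ≠ 1 := fun e => hwP (e ▸ one_mem _)
  obtain ⟨a₀, ha₀⟩ := exists_moved (α := α) hw1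
  obtain ⟨Γ, r, lam, mu, hk, hl, hq, hlm, hmu, hlam_eq, hmu_eq, hθ, hsec⟩ :=
    exists_parameters hp5 hα θ ψ (Ne.symm hθψ) hx.θ_ne hψ1 hπ hx.θ_one hψd hww ha₀
  choose z N hNF hz hzN using hθ
  obtain ⟨c, hc2, hord, hdvd, hcmod⟩ := order_three hx hp3 P hP hwN hwP (hz w)
  have hp5' : (5 : ℤ) ≤ p := by exact_mod_cast hp5
  have hc0 : 0 < c := by
    rcases Nat.eq_zero_or_pos c with e | e
    · exfalso
      rw [e] at hord
      have : (0 : ℤ) < (Nat.card G : ℤ) * (2 * ((p : ℤ) - 1)) :=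
        mul_pos (by exact_mod_cast Nat.card_pos) (by omega)
      simp at hord
      omega
    · exact e
  set s := Nat.card (MulAction.stabilizer G a₀) with hs
  have hGs : (Nat.card G : ℤ) = 3 * p * s := by
    have h1 := (MulAction.stabilizer G a₀).card_mul_index
    rw [MulAction.index_stabilizer_of_transitive, Nat.card_eq_fintype_card (α := α), hα] at h1
    rw [← h1]
    push_cast
    ring
  have hks : (r + p : ℤ) ∣ (s : ℤ) := hk ▸ Int.natCast_dvd_natCast.2 (Γ.deg_dvd a₀)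
  have hls : (2 * p - 1 - r : ℤ) ∣ (s : ℤ) := hl ▸ Int.natCast_dvd_natCast.2 (Γ.compl.deg_dvd a₀)
  by_cases hr1 : r = 1
  · -- fifteen points
    obtain rfl : p = 5 := by
      rw [hr1] at hq
      omega
    refine ⟨rfl, ?_⟩
    rw [hr1] at hk hl hlm hmu hks hls
    push_cast at hk hl hord hdvd hcmod hGs hks hls
    norm_num [-Nat.card_eq_fintype_card] at hk hl hlm hmu hord hdvd hcmod hks hls
    have hdeg : ∀ i, Γ.deg i = 6 := fun i => by
      rw [Γ.deg_eq i a₀]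
      omega
    have hs192 : s ≤ 192 :=
      stabilizer_le Γ (by rw [hα]) a₀ hdeg (fun i j e => by rw [hlam_eq i j e]; omega)
        (fun i j e e' => by rw [hmu_eq i j e e']; omega)
    have hsc : 8 * (s : ℤ) = 3 * (c : ℤ) ^ 2 := by
      rw [hGs] at hord
      linarith
    have hc22 : c ≤ 22 := by nlinarith
    have hcard : Nat.card G = 15 * s := by
      have : (Nat.card G : ℤ) = 15 * s := by linarith
      exact_mod_cast this
    have h6 : 6 ∣ s := by exact_mod_cast hks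
    have h8 : 8 ∣ s := by exact_mod_cast hls
    have hsc' : 8 * s = 3 * c ^ 2 := by exact_mod_cast hsc
    have hc8 : 8 ∣ c ^ 2 := by exact_mod_cast hdvd
    have hc5 : c % 5 = 2 ∨ c % 5 = 3 := by omega
    clear hsc hdvd hcmod hord hs192
    interval_cases c <;> omega
  exfalso
  -- `p = 23` or `p ≥ 68`
  have hcase : (r = -3 ∧ p = 23) ∨ (5 * r ^ 2 ≤ 2 * (p : ℤ) ∧ 68 ≤ p) := by
    have hr0 : r ≠ 0 := fun e => by rw [e] at hq; omega
    have hrm1 : r ≠ -1 := fun e => by rw [e] at hq; omega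
    rcases (show r = -4 ∨ r = -3 ∨ r = -2 ∨ r = 2 ∨ r = 3 ∨ r = 4 ∨ r ≤ -5 ∨ 5 ≤ r by omega) with
      e | e | e | e | e | e | e | e
    · rw [e] at hq; omega
    · left; refine ⟨e, ?_⟩; rw [e] at hq; omega
    · rw [e] at hq; omega
    · rw [e] at hq; omega
    · rw [e] at hq
      have : p = 32 := by omega
      rw [this] at hp; norm_num at hp
    · rw [e] at hq; omega
    all_goals
      right
      constructor
      · nlinarith
      · have : (136 : ℤ) ≤ 2 * p := by nlinarith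
        omega
  have hc2' : ¬(c = 2 * p - 2) := by
    intro e
    have hsZ : 3 * (s : ℤ) = 2 * ((p : ℤ) - 1) * (2 * p - 1) := by
      refine mul_right_cancel₀ (show 2 * ((p : ℤ) - 1) * p ≠ 0 from mul_ne_zero (by omega) (by omega)) ?_
      have hcZ : (c : ℤ) = 2 * p - 2 := by omega
      rw [hGs, hcZ] at hord
      linear_combination hord
    obtain ⟨t, ht⟩ := hls
    have h3 : ((3 * r + 1) : ℤ) ∣ 4 := by
      have e2 : 2 * (3 * r + 1) * t = (6 * r ^ 2 + 3 * r - 1) * (2 * r + 1) := by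
        refine mul_left_cancel₀ (show 3 * r ≠ 0 by omega) ?_
        rw [ht] at hsZ
        linear_combination hsZ + (3 * t * (-1) + (2 * (p : ℤ) - 1 + 6 * r ^ 2 + 3 * r - 1)) * hq
      exact ⟨3 * r * (12 * r + 8) + (- 9 * 2 * t) + 3 * r * 0 + (-5) + 0, by linear_combination 9 * e2⟩
    have h4 := Int.le_of_dvd (by norm_num) h3
    have h5 : -(4 : ℤ) ≤ 3 * r + 1 := by
      by_contra hc
      have h6 := Int.le_of_dvd (show (0 : ℤ) < 4 by norm_num) ((neg_dvd (α := ℤ)).2 h3)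
      omega
    have hr0 : r = 0 ∨ r = -1 := by omega
    rcases hr0 with e' | e' <;> rw [e'] at hq <;> omega
  -- the order is large
  have hcZ0 : (0 : ℤ) < c := by exact_mod_cast hc0
  have hlarge : (p = 23 → 110 * (2 * ((p : ℤ) - 1)) ^ 2 ≤ (c : ℤ) ^ 2 * 2) ∧
      (68 ≤ p → 12 * (2 * ((p : ℤ) - 1)) ^ 2 ≤ (c : ℤ) ^ 2) := by
    obtain ⟨j, σ, hσ, hj⟩ : ∃ j σ : ℤ, (σ = 1 ∨ σ = -1) ∧ (c : ℤ) = j * p + 2 * σ := by
      rcases hcmod with ⟨q, hq'⟩ | ⟨q, hq'⟩
      · exact ⟨q, 1, Or.inl rfl, by linarith⟩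
      · exact ⟨q, -1, Or.inr rfl, by linarith⟩
    have hj0 : 0 ≤ j := by
      by_contra hc'
      push Not at hc'
      have : j * (p : ℤ) ≤ -1 * p := mul_le_mul_of_nonneg_right (by omega) (by positivity)
      rcases hσ with rfl | rfl <;> omega
    have hne : j + 2 * σ ≠ 0 := by
      intro e
      rcases hσ with rfl | rfl
      · omega
      · obtain rfl : j = 2 := by omega
        exact hc2' (by omega)
    have hd : ((p : ℤ) - 1) ∣ (j + 2 * σ) ^ 2 := by
      obtain ⟨q, hq'⟩ := hdvd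
      refine ⟨2 * q - j * (j * ((p : ℤ) - 1) + 2 * j + 4 * σ), ?_⟩
      rw [hj] at hq'
      linear_combination hq'
    constructor
    · rintro rfl
      push_cast at hd hj ⊢
      norm_num at hd ⊢
      have h11 : (11 : ℤ) ∣ j + 2 * σ :=
        (Nat.prime_iff_prime_int.1 (by norm_num : Nat.Prime 11)).dvd_of_dvd_pow (dvd_trans ⟨2, by norm_num⟩ hd)
      have h2j : (2 : ℤ) ∣ j + 2 * σ := by
        have : (2 : ℤ) ∣ (c : ℤ) := by exact_mod_cast hc2
        omega
      have : 20 ≤ j := by rcases hσ with rfl | rfl <;> omega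
      have : (458 : ℤ) ≤ c := by rcases hσ with rfl | rfl <;> omega
      nlinarith
    · intro h68
      have h67 : (67 : ℤ) ≤ (j + 2 * σ) ^ 2 := le_trans (by omega)
        (Int.le_of_dvd (lt_of_le_of_ne (sq_nonneg _) (pow_ne_zero 2 hne).symm) hd)
      have hj7 : 7 ≤ j := by
        by_contra hc'
        push Not at hc'
        have h1 : j + 2 * σ ≤ 8 ∧ -8 ≤ j + 2 * σ := by rcases hσ with rfl | rfl <;> omega
        nlinarith
      have hcge : 7 * (p : ℤ) - 2 ≤ c := by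
        have := mul_le_mul_of_nonneg_right hj7 (by positivity : (0 : ℤ) ≤ p)
        rcases hσ with rfl | rfl <;> omega
      have h68' : (68 : ℤ) ≤ p := by exact_mod_cast h68
      nlinarith
  -- an element with many fixed points
  have hμπ : Cfsg.classInner (permChar G α) (μ 1 : G → ℂ) = 0 := by
    have hne1 : ψ ≠ μ 1 := fun e => by
      have e1 := hψd
      rw [e, hx.μ_one one_ne_zero, Nat.cast_sub (by omega : 1 ≤ 2 * p)] at e1
      have : ((2 * p : ℕ) : ℂ) = ((p + 2 : ℕ) : ℂ) := by push_cast at e1 ⊢; linear_combination e1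
      have := Nat.cast_inj.1 this
      omega
    rw [hπ, show (fun _ : G => (1 : ℂ)) = (principal G : G → ℂ) from rfl, classInner_add_left, classInner_add_left,
      classInner_irr_ne (hx.μ_ne 1 one_ne_zero).2.symm, classInner_irr_ne (hx.μ_ne 1 one_ne_zero).1.symm,
      classInner_irr_ne hne1, add_zero, add_zero]
  have hbZ : ((2 * p - 1 : ℕ) : ℤ) = 2 * (p : ℤ) - 1 := by omega
  have hex : ∀ M : ℕ, (M : ℤ) ≤ p →
      (2 * ((p : ℤ) - 1)) ^ 2 * (3 * (p : ℤ) - M) < (c : ℤ) ^ 2 * ((p : ℤ) - M) →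
      ∃ g : G, g ≠ 1 ∧ ¬h.Sing g ∧ M < Nat.card (MulAction.fixedBy α g) := by
    intro M _ hM
    refine hx.exists_fixed α (by rw [Nat.card_eq_fintype_card, hα]) hfree hμπ hz ?_
    rw [hbZ]
    have hf : (0 : ℤ) < 2 * ((p : ℤ) - 1) := by omega
    refine lt_of_mul_lt_mul_right ?_ hf.le
    have hpb : (0 : ℤ) < (p : ℤ) * (2 * p - 1) := mul_pos (by omega) (by omega)
    have := mul_lt_mul_of_pos_left hM hpb
    rw [show (Nat.card G : ℤ) * ((p : ℤ) - M) * (2 * ((p : ℤ) - 1)) =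
      (Nat.card G : ℤ) * (2 * ((p : ℤ) - 1)) * ((p : ℤ) - M) by ring, hord]
    linarith
  rcases hcase with ⟨hr3, hp23⟩ | ⟨hrsq, h68⟩
  · have hb23 := hlarge.1 hp23
    obtain ⟨g, hg1, hgns, hF⟩ := hex 22 (by omega) (by
      subst hp23
      push_cast at hb23 ⊢
      nlinarith)
    set F := Nat.card (MulAction.fixedBy α g) with hFdef
    have hF2 := two_mul_fixed_le hx (by omega) hfree hmin hgns hg1 (hz g)
    rw [← hFdef, hα] at hF2
    have key := count_inequality hx (by omega) hfree hgns (hz g) a₀ (by omega) (hsec g)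
    rw [← hFdef, hα, hbZ] at key
    have hzg := hzN g
    rw [← hFdef, hr3] at hzg
    subst hp23
    push_cast at key hzg
    norm_num at key hzg
    have h8 : 8 * z g ≤ 15 + 5 * (F : ℤ) := by omega
    have hA : 0 ≤ 345 - 5 * (F : ℤ) := by omega
    have hu : 345 - 5 * (F : ℤ) ≤ 8 * (45 - z g) := by linarith
    have hsq : (345 - 5 * (F : ℤ)) ^ 2 ≤ (8 * (45 - z g)) ^ 2 := pow_le_pow_left₀ hA hu 2
    have hF3 : F ≤ 34 := by omega
    interval_cases F <;> norm_num at key hsq <;> linarith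
  · have hb12 := hlarge.2 h68
    have h68' : (68 : ℤ) ≤ p := by exact_mod_cast h68
    obtain ⟨g, hg1, hgns, hF⟩ := hex ((4 * p - 1) / 5) (by omega) (by
      have hM : 5 * (((4 * p - 1) / 5 : ℕ) : ℤ) ≤ 4 * (p : ℤ) - 1 := by omega
      have h1 : 0 ≤ (p : ℤ) - (((4 * p - 1) / 5 : ℕ) : ℤ) := by omega
      have h2 := mul_le_mul_of_nonneg_right hb12 h1
      have hf2 : (0 : ℤ) < (2 * ((p : ℤ) - 1)) ^ 2 := pow_pos (by omega) 2
      nlinarith)
    set F := Nat.card (MulAction.fixedBy α g) with hFdef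
    have hF2 := two_mul_fixed_le hx (by omega) hfree hmin hgns hg1 (hz g)
    rw [← hFdef, hα] at hF2
    have key := count_inequality hx (by omega) hfree hgns (hz g) a₀ (by omega) (hsec g)
    rw [← hFdef, hα, hbZ] at key
    push_cast at key
    have hzg := hzN g
    rw [← hFdef] at hzg
    have hNg : (N g : ℤ) + F ≤ 3 * p := by have := hNF g; rw [← hFdef] at this; exact_mod_cast this
    have hFZ : 4 * (p : ℤ) ≤ 5 * F := by omega
    have hF2Z : 2 * (F : ℤ) ≤ 3 * p := by exact_mod_cast hF2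
    -- the value of `θ`
    have hr12 : 12 * r ≤ p ∧ -(p : ℤ) ≤ 12 * r := by
      have h1 : (12 * r) ^ 2 ≤ (p : ℤ) ^ 2 := by
        have := mul_le_mul_of_nonneg_right h68' (by positivity : (0 : ℤ) ≤ p)
        linarith
      have h2 := abs_le.1 (abs_le_of_sq_le_sq h1 (by positivity))
      exact ⟨h2.2, h2.1⟩
    have hval : 6 * z g ≤ 4 * (F : ℤ) + p := by
      rcases le_or_gt 0 r with hr | hr
      · have h1 : (3 * r + 1) * z g ≤ 6 * r ^ 2 + 2 * r * F := by
          rw [hzg]; linarith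
        have h2 : (3 * r + 1) * (6 * z g) ≤ (3 * r + 1) * (4 * (F : ℤ) + 12 * r) := by nlinarith
        have := le_of_mul_le_mul_left h2 (by omega)
        linarith
      · have h1 : -(3 * r + 1) * z g ≤ r + p - (2 * r + 1) * ((F : ℤ) - 1) := by
          have : (0 : ℤ) ≤ N g := by positivity
          linarith
        have h2 : -(3 * r + 1) * (6 * z g) ≤ -(3 * r + 1) * (4 * (F : ℤ) - 12 * r) := by nlinarith
        have := le_of_mul_le_mul_left h2 (by omega)
        linarith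
    obtain ⟨u, hu⟩ : ∃ u : ℤ, u = 2 * (p : ℤ) - 1 - z g := ⟨_, rfl⟩
    have hu6 : 109 * (p : ℤ) - 40 * F ≤ 60 * u := by rw [hu]; linarith
    have hu0 : 0 ≤ u := by linarith
    have hkey2 : 7 * (p : ℤ) * (3 * p - F) ≤ 20 * u * F := by
      have h1 := mul_le_mul_of_nonneg_right hu6 (by positivity : (0 : ℤ) ≤ F)
      nlinarith [mul_nonneg (by linarith : (0 : ℤ) ≤ 5 * (F : ℤ) - 4 * p) (by linarith : (0 : ℤ) ≤ 3 * (p : ℤ) - 2 * F)]
    have hn0 : (0 : ℤ) < 3 * (p : ℤ) - F := by linarith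
    have key2 : u ^ 2 * ((p : ℤ) * F ^ 2 + (3 * p - F) ^ 2) ≤ 4 * p * (2 * p - 1) * (3 * p - F) ^ 2 := by
      refine le_of_mul_le_mul_left ?_ (show (0 : ℤ) < (p : ℤ) - 1 by omega)
      rw [hu]
      linarith
    have h49 : 49 * (p : ℤ) ^ 2 * (3 * p - F) ^ 2 ≤ 400 * (u ^ 2 * F ^ 2) := by
      have := pow_le_pow_left₀ (mul_nonneg (mul_nonneg (by norm_num) (by positivity)) hn0.le) hkey2 2
      linarith
    have hsmall : u ^ 2 * ((p : ℤ) * F ^ 2) ≤ 4 * p * (2 * p - 1) * (3 * p - F) ^ 2 := by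
      have : 0 ≤ u ^ 2 * (3 * (p : ℤ) - F) ^ 2 := by positivity
      linarith
    have h49' := mul_le_mul_of_nonneg_left h49 (by positivity : (0 : ℤ) ≤ p)
    have hd2 : (0 : ℤ) < (3 * (p : ℤ) - F) ^ 2 := by positivity
    have hh : 49 * (p : ℤ) * p * p * (3 * (p : ℤ) - F) ^ 2 ≤ 1600 * p * (2 * p - 1) * (3 * (p : ℤ) - F) ^ 2 := by
      linarith
    have h5 := le_of_mul_le_mul_right hh hd2
    have h6 : 49 * (p : ℤ) * p ≤ 1600 * (2 * p - 1) := by
      refine le_of_mul_le_mul_left ?_ (show (0 : ℤ) < p by omega)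
      linarith
    have h7 := mul_le_mul_of_nonneg_right h68' (show (0 : ℤ) ≤ p by omega)
    linarith

end Cfsg.Lib.PermGroups.DegreeThriceP
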