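import Cfsg.Agent.PermGroups.DegreeThriceP.Common

/-!
# There is no doubly transitive group of degree `3 p` here
-/

set_option autoImplicit false
set_option linter.unusedSectionVars false
set_option maxHeartbeats 1000000

namespace Cfsg.Lib.PermGroups.DegreeThriceP

open Cfsg.Lib.Chars Cfsg.Lib.PermGroups.PrimeExceptional
open scoped ComplexConjugate _root_.Classical

universe u v

variable {G : Type u} [Group G] [Fintype G] {p : ℕ} [Fact p.Prime] {h : Setting G p}
  {θ : Cfsg.IrrCharacter G} {μ : ZMod p → Cfsg.IrrCharacter G}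

/-- The order is `p x ² b (b - 1)` with `3 ∣ x` and `x ≥ 4`. -/
theorem order_two {α : Type v} [MulAction G α] [Fintype α] [MulAction.IsPretransitive G α]
    (hx : h.Exc (3 * p - 1) θ μ) (hp3 : 3 < p) (hα : Fintype.card α = 3 * p)
    (hπ : permChar G α = (fun _ => (1 : ℂ)) + (θ : G → ℂ)) (P : Sylow p G) (hP : (P : Subgroup G) = h.P)
    (h2 : ∀ a b c d : α, a ≠ b → c ≠ d → ∃ g : G, g • a = c ∧ g • b = d) :
    (2 * (p : ℤ) + 1) * ((p : ℤ) * (3 * p - 1) * (3 * p - 2)) < (Nat.card G : ℤ) := by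
  have hp := (Fact.out : p.Prime)
  obtain ⟨w, hwN, hwP, -, -⟩ := h.exists_inverter
  set F := Nat.card (MulAction.fixedBy α w)
  have hR : (θ : G → ℂ) w = (((F : ℤ) - 1 : ℤ) : ℂ) := by
    have e := congrFun hπ w
    simp only [Pi.add_apply, permChar] at e
    push_cast
    linear_combination -e
  obtain ⟨j, hj, hjR⟩ := hx.inverter_value (a := 2) (by omega) hwN hwP hR
  have hord := hx.order_formula (by omega) hwN hwP hR
  set c := Nat.card (Subgroup.centralizer ({w} : Set G))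
  -- the order is a multiple of `3 p (3 p - 1)`
  obtain ⟨a⟩ : Nonempty α := Fintype.card_pos_iff.1 (by omega)
  obtain ⟨a', ha'⟩ : ∃ a' : α, a' ≠ a := Fintype.exists_ne_of_one_lt_card (by omega) a
  obtain ⟨s, hs⟩ : ∃ s : ℕ, Nat.card G = 3 * p * (3 * p - 1) * s := by
    have h1 := (MulAction.stabilizer G a).card_mul_index
    rw [MulAction.index_stabilizer_of_transitive, Nat.card_eq_fintype_card (α := α), hα] at h1
    have horb : MulAction.orbit (MulAction.stabilizer G a) a' = {z | z ≠ a} := by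
      ext z
      constructor
      · rintro ⟨⟨g, hg⟩, rfl⟩ e
        refine ha' (MulAction.injective g ?_)
        show g • a' = g • a
        rw [MulAction.mem_stabilizer_iff.1 hg]
        exact e
      · intro hz
        obtain ⟨g, g1, g2⟩ := h2 a a' a z ha'.symm (Ne.symm hz)
        exact ⟨⟨g, MulAction.mem_stabilizer_iff.2 g1⟩, g2⟩
    have h3 := Nat.card_congr (MulAction.orbitProdStabilizerEquivGroup (MulAction.stabilizer G a) a')
    rw [Nat.card_prod, horb] at h3
    have h4 : Nat.card ({z | z ≠ a} : Set α) = 3 * p - 1 := by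
      rw [Nat.card_eq_fintype_card, ← Set.toFinset_card, ← hα, ← Finset.card_univ,
        ← Finset.card_erase_of_mem (Finset.mem_univ a)]
      congr 1
      ext z
      simp
    rw [h4] at h3
    refine ⟨Nat.card (MulAction.stabilizer (MulAction.stabilizer G a) a'), ?_⟩
    rw [← h1, ← h3]
    ring
  obtain ⟨n, hn, hn1⟩ := card_eq_two_mul h P hP
  have hbZ : ((3 * p - 1 : ℕ) : ℤ) = 3 * (p : ℤ) - 1 := by omega
  rw [hbZ] at hord
  have hsZ : (Nat.card G : ℤ) = 3 * p * (3 * (p : ℤ) - 1) * s := by rw [hs, Nat.cast_mul, Nat.cast_mul, hbZ]; push_cast; ring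
  set b : ℤ := 3 * (p : ℤ) - 1 with hb
  set D : ℤ := b - ((F : ℤ) - 1) with hD
  have hcop : IsCoprime D (b - 1) := by
    rcases (show j = 1 ∨ j = 2 by omega) with rfl | rfl
    · exact ⟨1, -1, by rw [hD, hjR]; ring⟩
    · exact ⟨-1, 1, by rw [hD, hjR]; ring⟩
  have hp0 : (p : ℤ) ≠ 0 := by exact_mod_cast hp.ne_zero
  have hb0 : b ≠ 0 := by omega
  have e1 : 3 * (s : ℤ) * D ^ 2 = (c : ℤ) ^ 2 * (b - 1) := by
    refine mul_left_cancel₀ (mul_ne_zero hp0 hb0) ?_
    rw [hsZ] at hord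
    linear_combination hord
  have hdvd : D ^ 2 ∣ (c : ℤ) ^ 2 := (hcop.pow_left (m := 2)).dvd_of_dvd_mul_right ⟨3 * s, by linear_combination -e1⟩
  obtain ⟨x, hxc⟩ := (Int.pow_dvd_pow_iff two_ne_zero).1 hdvd
  have hD0 : D ≠ 0 := by omega
  have e2 : 3 * (s : ℤ) = x ^ 2 * (b - 1) := by
    refine mul_right_cancel₀ (pow_ne_zero 2 hD0) ?_
    rw [hxc] at e1
    linear_combination e1
  have h3x : (3 : ℤ) ∣ x := by
    have hc3 : IsCoprime (3 : ℤ) (b - 1) := ⟨1 - p, 1, by rw [hb]; ring⟩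
    refine Int.prime_three.dvd_of_dvd_pow (hc3.dvd_of_dvd_mul_right ⟨s, e2.symm⟩)
  have hGx : (Nat.card G : ℤ) = p * x ^ 2 * b * (b - 1) := by
    rw [hsZ]; linear_combination (p : ℤ) * b * e2
  have e3 : 2 * (n : ℤ) = x ^ 2 * b * (b - 1) := by
    refine mul_left_cancel₀ hp0 ?_
    have : (Nat.card G : ℤ) = 2 * p * n := by exact_mod_cast hn
    rw [hGx] at this
    linear_combination -this
  have hmod : (p : ℤ) ∣ (x - 1) * (x + 1) := by
    have hn' : (p : ℤ) ∣ (n : ℤ) - 1 := ⟨(n / p : ℕ), by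
      have := Nat.div_add_mod n p
      rw [hn1] at this
      have : (n : ℤ) = p * (n / p : ℕ) + 1 := by exact_mod_cast this.symm
      linarith⟩
    obtain ⟨q, hq⟩ := hn'
    have h2' : (p : ℤ) ∣ 2 * ((x - 1) * (x + 1)) :=
      ⟨2 * q - x ^ 2 * (9 * (p : ℤ) - 9), by
        rw [hb] at e3
        linear_combination 2 * hq - e3⟩
    refine (Int.Prime.dvd_mul' hp h2').resolve_left fun e => ?_
    have := Int.le_of_dvd two_pos e
    omega
  have hx0 : x ≠ 0 := by
    intro e
    rw [e] at e3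
    have h0 : n = 0 := by
      have : (n : ℤ) = 0 := by linarith [e3]
      exact_mod_cast this
    rw [h0, Nat.zero_mod] at hn1
    omega
  have hxbig : ((p : ℤ) - 1) ^ 2 ≤ x ^ 2 := by
    obtain ⟨y, hy⟩ := h3x
    have hy0 : y ≠ 0 := fun e => hx0 (by rw [hy, e, mul_zero])
    rcases Int.Prime.dvd_mul' hp hmod with ⟨q, hq⟩ | ⟨q, hq⟩
    · rcases lt_trichotomy q 0 with hq0 | rfl | hq0
      · have : (p : ℤ) * q ≤ p * (-1) := mul_le_mul_of_nonneg_left (by omega) (by positivity)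
        nlinarith
      · rw [mul_zero] at hq; omega
      · have : (p : ℤ) * 1 ≤ p * q := mul_le_mul_of_nonneg_left (by omega) (by positivity)
        nlinarith
    · rcases lt_trichotomy q 0 with hq0 | rfl | hq0
      · have : (p : ℤ) * q ≤ p * (-1) := mul_le_mul_of_nonneg_left (by omega) (by positivity)
        nlinarith
      · rw [mul_zero] at hq; omega
      · have : (p : ℤ) * 1 ≤ p * q := mul_le_mul_of_nonneg_left (by omega) (by positivity)
        nlinarith
  have hp5 : (5 : ℤ) ≤ p := by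
    have : p ≠ 4 := fun e => by rw [e] at hp; norm_num at hp
    omega
  have hlt : 2 * (p : ℤ) + 1 < x ^ 2 := by nlinarith
  have hpos : (0 : ℤ) < (p : ℤ) * b * (b - 1) := mul_pos (mul_pos (by omega) (by omega)) (by omega)
  rw [hGx, show (p : ℤ) * (3 * p - 1) * (3 * p - 2) = p * b * (b - 1) by rw [hb]; ring]
  nlinarith

/-- The doubly transitive case does not occur. -/
theorem false_of_two {α : Type v} [MulAction G α] [Fintype α] [MulAction.IsPretransitive G α] [FaithfulSMul G α]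
    (hx : h.Exc (3 * p - 1) θ μ) (hp3 : 3 < p) (hα : Fintype.card α = 3 * p) (hfree : ∀ a : α, h.t • a ≠ a)
    (hπ : permChar G α = (fun _ => (1 : ℂ)) + (θ : G → ℂ)) (P : Sylow p G) (hP : (P : Subgroup G) = h.P)
    (hmin : ∀ K : Subgroup G, K.Normal → h.t ∉ K → K = ⊥) : False := by
  have hp := (Fact.out : p.Prime)
  have hp5 : 5 ≤ p := by
    have : p ≠ 4 := fun e => by rw [e] at hp; norm_num at hp
    omega
  have hinner : Cfsg.classInner (permChar G α) (permChar G α) = 2 := by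
    rw [hπ, show (fun _ : G => (1 : ℂ)) = (principal G : G → ℂ) from rfl, classInner_add_left,
      classInner_add_right, classInner_add_right, classInner_irr_self, classInner_irr_self,
      classInner_irr_ne hx.θ_ne, classInner_irr_ne hx.θ_ne.symm]
    norm_num
  have h2 : ∀ a b c d : α, a ≠ b → c ≠ d → ∃ g : G, g • a = c ∧ g • b = d :=
    fun a b c d hab hcd => exists_smul_of_inner_two hinner hab hcd
  have hbZ : ((3 * p - 1 : ℕ) : ℤ) = 3 * (p : ℤ) - 1 := by omega
  have hn : ∀ g, (θ : G → ℂ) g = (((Nat.card (MulAction.fixedBy α g) : ℤ) - 1 : ℤ) : ℂ) := fun g => by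
    have e := congrFun hπ g
    simp only [Pi.add_apply, permChar] at e
    push_cast
    linear_combination -e
  have hμπ : Cfsg.classInner (permChar G α) (μ 1 : G → ℂ) = 0 := by
    rw [hπ, show (fun _ : G => (1 : ℂ)) = (principal G : G → ℂ) from rfl, classInner_add_left,
      classInner_irr_ne (hx.μ_ne 1 one_ne_zero).2.symm, classInner_irr_ne (hx.μ_ne 1 one_ne_zero).1.symm,
      add_zero]
  have hord := order_two hx hp3 hα hπ P hP h2
  obtain ⟨g, hg1, hgns, hFg⟩ := hx.exists_fixed α (by rw [Nat.card_eq_fintype_card, hα]) hfree hμπ hn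
    (M := p - 1) (by
      rw [hbZ, Nat.cast_sub hp.one_le, Nat.cast_one]
      linear_combination hord)
  set F := Nat.card (MulAction.fixedBy α g) with hF
  have hFlt : 2 * F ≤ Fintype.card α :=
    two_mul_fixed_le hx (by omega) hfree hmin hgns hg1 (hn g)
  obtain ⟨a⟩ : Nonempty α := Fintype.card_pos_iff.1 (by omega)
  obtain ⟨a', ha'⟩ : ∃ a' : α, a' ≠ a := Fintype.exists_ne_of_one_lt_card (by omega) a
  set K := (Finset.univ.filter (IsConj g)).card with hK
  set n := Fintype.card α with hndef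
  set d₀ := joint α g a a with hd₀
  set d₁ := joint α g a a'
  have hself : ∀ z : α, joint α g z z = d₀ := fun z => by
    obtain ⟨x, rfl⟩ := MulAction.exists_smul_eq G a z
    exact joint_smul g x a a
  have hoff : ∀ y z : α, y ≠ z → joint α g y z = d₁ := fun y z hyz => by
    obtain ⟨x, rfl, rfl⟩ := h2 a a' y z ha'.symm hyz
    exact joint_smul g x a a'
  have hnd : n * d₀ = K * F := by convert card_mul_joint_self g a
  have hrow : d₀ + (n - 1) * d₁ = d₀ * F := by
    rw [← sum_joint g a, ← Finset.add_sum_erase Finset.univ _ (Finset.mem_univ a),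
      Finset.sum_congr rfl fun z hz => hoff a z (Finset.mem_erase.1 hz).1.symm, Finset.sum_const,
      Finset.card_erase_of_mem (Finset.mem_univ a), Finset.card_univ, smul_eq_mul]
  have hrows : ∀ y : α, ∑ z, joint α g y z ^ 2 = d₀ ^ 2 + (n - 1) * d₁ ^ 2 := fun y => by
    rw [← Finset.add_sum_erase Finset.univ _ (Finset.mem_univ y), hself y,
      Finset.sum_congr rfl fun z hz => congrArg (· ^ 2) (hoff y z (Finset.mem_erase.1 hz).1.symm), Finset.sum_const,
      Finset.card_erase_of_mem (Finset.mem_univ y), Finset.card_univ, smul_eq_mul]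
  have hS : ∑ y : α, ∑ z, joint α g y z ^ 2 = n * (d₀ ^ 2 + (n - 1) * d₁ ^ 2) := by
    rw [Finset.sum_congr rfl fun y _ => hrows y, Finset.sum_const, Finset.card_univ, smul_eq_mul]
  by_cases h55 : p = 5 ∧ F = 5
  · -- fifteen points, five of them fixed
    obtain ⟨hp5', hF5⟩ := h55
    have hn15 : n = 15 := by rw [hα, hp5']
    have e := pair_count' (α := α) hx (by omega) hfree hgns (hn g)
    have hq := quad_bound (α := α) g
    rw [hS, Finset.sum_congr rfl fun y _ => congrArg (· ^ 2) (hself y), Finset.sum_const, Finset.card_univ,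
      smul_eq_mul, ← hndef, hn15, show 15 - 1 = 14 from rfl] at hq
    rw [← hK, hbZ, ← hF, hF5] at e
    rw [hp5'] at e
    rw [hn15, hF5] at hnd hrow
    have hdiv : d₀ * 4 = 14 * d₁ := by omega
    have hKd : K = 3 * d₀ := by omega
    have hd : 7 * d₁ = 2 * d₀ := by omega
    push_cast at e
    have hq' : 5 * (15 * (d₀ : ℤ) ^ 2) ≤ 6 * (meeting α g : ℤ) + 15 * ((d₀ : ℤ) ^ 2 + 14 * (d₁ : ℤ) ^ 2) := by
      exact_mod_cast hq
    have hKd' : (K : ℤ) = 3 * d₀ := by exact_mod_cast hKd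
    have hd' : 7 * (d₁ : ℤ) = 2 * d₀ := by exact_mod_cast hd
    have hK0 : 0 < K := Finset.card_pos.2 ⟨g, Finset.mem_filter.2 ⟨Finset.mem_univ _, IsConj.refl g⟩⟩
    have hd0 : (0 : ℤ) < d₀ := by exact_mod_cast (by omega : 0 < d₀)
    rw [hKd'] at e
    nlinarith
  have hsec : n ^ 2 * (n - 1) * ∑ a : α, ∑ a' : α, joint α g a a' ^ 2 ≤
      K ^ 2 * F ^ 2 * ((n - 1) * F ^ 2 + (n - F) ^ 2) := by
    rw [hS]
    apply le_of_eq
    have hFn : F ≤ n := by omega
    obtain ⟨e, he⟩ := Nat.exists_eq_add_of_le hFn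
    have hn1 : 1 ≤ n := by omega
    apply Nat.cast_injective (R := ℤ)
    have hnd' : (n : ℤ) * d₀ = K * F := by exact_mod_cast hnd
    have hrow' : ((n : ℤ) - 1) * d₁ = d₀ * F - d₀ := by
      have := congrArg (Nat.cast : ℕ → ℤ) hrow
      push_cast [Nat.cast_sub hn1] at this
      linarith
    push_cast [Nat.cast_sub hn1, Nat.cast_sub hFn]
    calc (n : ℤ) ^ 2 * ((n : ℤ) - 1) * ((n : ℤ) * ((d₀ : ℤ) ^ 2 + ((n : ℤ) - 1) * (d₁ : ℤ) ^ 2))
        = (n : ℤ) * (((n : ℤ) - 1) * ((n : ℤ) * d₀) ^ 2 + (n : ℤ) ^ 2 * (((n : ℤ) - 1) * d₁) ^ 2) := by ring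
      _ = (n : ℤ) * (((n : ℤ) - 1) * ((n : ℤ) * d₀) ^ 2 + ((n : ℤ) * d₀) ^ 2 * ((F : ℤ) - 1) ^ 2) := by
        rw [hrow']; ring
      _ = _ := by rw [hnd']; ring
  have key := count_inequality hx (by omega) hfree hgns (hn g) a (by omega) (d := n - 1) hsec
  rw [← hF, ← hndef, hα, Nat.cast_sub (by omega : 1 ≤ 3 * p)] at key
  push_cast at key
  have hne : (3 * (p : ℤ) - F) ≠ 0 := by omega
  have key' : 3 * ((p : ℤ) - 1) * ((3 * p - 1) + ((F : ℤ) - 1) ^ 2) ≤
      2 * (3 * (p : ℤ) - 1) * (3 * p - 2) := by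
    refine le_of_mul_le_mul_left ?_ (mul_pos (by omega : (0 : ℤ) < p)
      (lt_of_le_of_ne (sq_nonneg _) (pow_ne_zero 2 hne).symm))
    linarith
  have hFp : (p : ℤ) ≤ F := by omega
  rcases (show p = 5 ∨ 7 ≤ p by
    have : p ≠ 6 := fun e => by rw [e] at hp; norm_num at hp
    omega) with e5 | h7
  · have hF6 : (6 : ℤ) ≤ F := by
      have : F ≠ 5 := fun e => h55 ⟨e5, e⟩
      omega
    have hp' : (p : ℤ) = 5 := by omega
    rw [hp'] at key'
    nlinarith
  · have h7' : (7 : ℤ) ≤ p := by exact_mod_cast h7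
    have hsq : ((p : ℤ) - 1) ^ 2 ≤ ((F : ℤ) - 1) ^ 2 := by nlinarith
    nlinarith [mul_le_mul_of_nonneg_left hsq (show (0 : ℤ) ≤ 3 * ((p : ℤ) - 1) by omega)]

end Cfsg.Lib.PermGroups.DegreeThriceP
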